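import Cfsg.Agent.S0303
import Cfsg.Agent.S0815
import Cfsg.Agent.S0280
import Cfsg.Agent.Lib.Linear.OrthSmallIso

/-!
# `O⁻(6, 2)` is the automorphism group of `PSU(4, 2)`
-/

set_option autoImplicit false
set_option linter.unusedSectionVars false

namespace Cfsg.Lib.Fischer.Relations.TwoPair

open Cfsg Cfsg.Lib.Linear
open scoped Matrix

theorem anisotropic_two : ∀ z₁ z₂ : ZMod 2, z₁ ^ 2 + 1 * z₁ * z₂ + 1 * z₂ ^ 2 = 0 → z₁ = 0 ∧ z₂ = 0 := by decide

theorem zmod_two_key : ∀ c e : ZMod 2, c ≠ 0 → (e ≠ 0 → e = c) := by decide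

theorem nonsingular_inl : ∀ i : Fin 2 ⊕ Fin 2, Cfsg.quadFormMinus 2 (ZMod 2) 1 1
    (Pi.single (Sum.inl i) 1 + Pi.single (Sum.inr 0) 1) ≠ 0 := by decide

theorem nonsingular_inr : ∀ i : Fin 2, Cfsg.quadFormMinus 2 (ZMod 2) 1 1 (Pi.single (Sum.inr i) 1) ≠ 0 := by decide

theorem two_zero : (2 : ZMod 2) = 0 := by decide

theorem psu_four_card {K : Type} [Field K] [Fintype K] (hK : Fintype.card K = 2 ^ 2) :
    Nat.card (Cfsg.PSU 4 K 2) = 25920 := by
  have h := Cfsg.Agent.S0280.result (q := 2) hK 4 (by norm_num)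
  simp [Finset.prod_range_succ, Nat.even_iff, show Nat.gcd 4 3 = 1 from rfl] at h
  omega

theorem isometry_six_minus_equiv {K : Type} [Field K] [Fintype K] (hK : Fintype.card K = 2 ^ 2) :
    Nonempty (↥(Cfsg.isometryGroup (ZMod 2) (Cfsg.quadFormMinus 2 (ZMod 2) 1 1)) ≃* MulAut (Cfsg.PSU 4 K 2)) := by
  classical
  haveI : Fact (Nat.Prime 2) := ⟨Nat.prime_two⟩
  obtain ⟨B, C⟩ := Orth.exists_space_minus (F := ZMod 2) 2 1 1 anisotropic_two
  have hidx := (SmallIso.omega_facts C (by simp) (Or.inr (Or.inr (by simp)))).2.1 two_zero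
  have hO := (Orth.counts_minus (F := ZMod 2) (a := 1) (b := 1) 2 anisotropic_two).2.2
  rw [Nat.card_zmod] at hO
  have hOc : Nat.card ↥(Cfsg.isometryGroup (ZMod 2) (Cfsg.quadFormMinus 2 (ZMod 2) 1 1)) = 51840 := by
    exact_mod_cast hO.trans (show _ = ((51840 : ℕ) : ℤ) by
      simp only [Finset.prod_range_succ, Finset.prod_range_zero]; rfl)
  have hΩc : Nat.card ↥(Cfsg.Omega (ZMod 2) (Cfsg.quadFormMinus 2 (ZMod 2) 1 1)) = 25920 := by
    have h := Subgroup.card_mul_index (Cfsg.Omega (ZMod 2) (Cfsg.quadFormMinus 2 (ZMod 2) 1 1))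
    rw [hidx, hOc] at h
    omega
  obtain ⟨e0⟩ := Cfsg.Agent.S0303.result (F := ZMod 2) (K := K) (ZMod.card 2) hK 1 1 anisotropic_two
  have hP := psu_four_card hK
  have hcen : Subgroup.center ↥(Cfsg.Omega (ZMod 2) (Cfsg.quadFormMinus 2 (ZMod 2) 1 1)) = ⊥ := by
    refine Subgroup.eq_bot_of_card_eq _ ?_
    have h := Subgroup.card_eq_card_quotient_mul_card_subgroup
      (Subgroup.center ↥(Cfsg.Omega (ZMod 2) (Cfsg.quadFormMinus 2 (ZMod 2) 1 1)))
    rw [hΩc, Nat.card_congr e0.toEquiv, hP] at h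
    omega
  obtain ⟨e1, -⟩ : ∃ e : ↥(Cfsg.Omega (ZMod 2) (Cfsg.quadFormMinus 2 (ZMod 2) 1 1)) ≃* Cfsg.PSU 4 K 2, True :=
    ⟨((QuotientGroup.quotientBot).symm.trans (QuotientGroup.quotientMulEquivOfEq hcen.symm)).trans e0, trivial⟩
  obtain ⟨Ψ, hΨ⟩ : ∃ Ψ : ↥(Cfsg.isometryGroup (ZMod 2) (Cfsg.quadFormMinus 2 (ZMod 2) 1 1)) →*
      MulAut (Cfsg.PSU 4 K 2), ∀ g, Ψ g = MulAut.congr e1
        (MulAut.conjNormal (H := Cfsg.Omega (ZMod 2) (Cfsg.quadFormMinus 2 (ZMod 2) 1 1)) g) :=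
    ⟨(MulAut.congr e1).toMonoidHom.comp (MulAut.conjNormal), fun _ => rfl⟩
  refine ⟨MulEquiv.ofBijective Ψ ((Nat.bijective_iff_injective_and_card Ψ).2 ⟨?_, ?_⟩)⟩
  · refine (injective_iff_map_eq_one Ψ).2 fun g hg => ?_
    have h1 : MulAut.conjNormal (H := Cfsg.Omega (ZMod 2) (Cfsg.quadFormMinus 2 (ZMod 2) 1 1)) g = 1 :=
      (map_eq_one_iff _ (MulAut.congr e1).injective).1 ((hΨ g).symm.trans hg)
    have hΩ : ∀ w ∈ Cfsg.Omega (ZMod 2) (Cfsg.quadFormMinus 2 (ZMod 2) 1 1), Commute g w := fun w hw => by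
      have h := congrArg (fun f : MulAut _ => ((f ⟨w, hw⟩ : ↥(Cfsg.Omega (ZMod 2) _)) :
        ↥(Cfsg.isometryGroup (ZMod 2) (Cfsg.quadFormMinus 2 (ZMod 2) 1 1)))) h1
      simp only [MulAut.conjNormal_apply, MulAut.one_apply] at h
      exact mul_inv_eq_iff_eq_mul.1 h
    have hall : ∀ w, Commute g w := fun w => by
      by_cases hg' : g ∈ Cfsg.Omega (ZMod 2) (Cfsg.quadFormMinus 2 (ZMod 2) 1 1)
      · have : (⟨g, hg'⟩ : ↥(Cfsg.Omega (ZMod 2) (Cfsg.quadFormMinus 2 (ZMod 2) 1 1))) ∈ Subgroup.center _ :=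
          Subgroup.mem_center_iff.2 fun t => Subtype.ext (hΩ t t.2).eq.symm
        rw [hcen, Subgroup.mem_bot] at this
        rw [show g = 1 from congrArg Subtype.val this]
        exact Commute.one_left w
      · by_cases hw : w ∈ Cfsg.Omega (ZMod 2) (Cfsg.quadFormMinus 2 (ZMod 2) 1 1)
        · exact hΩ w hw
        · have hgw : g⁻¹ * w ∈ Cfsg.Omega (ZMod 2) (Cfsg.quadFormMinus 2 (ZMod 2) 1 1) := by
            rw [Subgroup.mul_mem_iff_of_index_two hidx, inv_mem_iff]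
            simp [hg', hw]
          have := (Commute.refl g).mul_right (hΩ _ hgw)
          rwa [mul_inv_cancel_left] at this
    have hfix : ∀ v, Cfsg.quadFormMinus 2 (ZMod 2) 1 1 v ≠ 0 → (g.1).val *ᵥ v = v := fun v hv => by
      have h := congrArg Subtype.val (hall ⟨_, Orth.rGL_mem C hv⟩).eq
      simp only [Subgroup.coe_mul] at h
      have hv' : v ≠ 0 := fun e => hv (by rw [e]; exact C.zero)
      obtain ⟨x, hx⟩ := C.exists_pair hv'
      have h' := congrArg (fun m : GL _ (ZMod 2) => m.val *ᵥ x) h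
      simp only [Orth.mul_act, Orth.rGL_act C hv, Matrix.mulVec_sub, Matrix.mulVec_smul] at h'
      rw [sub_right_inj, hx, mul_one] at h'
      have h1 : (Cfsg.quadFormMinus 2 (ZMod 2) 1 1 v)⁻¹ ≠ 0 := inv_ne_zero hv
      have hne := Orth.act_ne_zero (g := g.1) hv'
      by_cases hz : (Cfsg.quadFormMinus 2 (ZMod 2) 1 1 v)⁻¹ * B v ((g.1).val *ᵥ x) = 0
      · rw [hz, zero_smul] at h'
        exact absurd ((smul_eq_zero.1 h').resolve_left h1) hne
      · rw [zmod_two_key _ _ h1 hz] at h'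
        exact smul_right_injective _ h1 h'
    refine Subtype.ext (Units.ext (Matrix.ext_of_mulVec_single fun i => ?_))
    show (g.1).val *ᵥ Pi.single i 1 = (1 : Matrix _ _ (ZMod 2)) *ᵥ Pi.single i 1
    rw [Matrix.one_mulVec]
    rcases i with i | i
    · have h0 := hfix (Pi.single (Sum.inr 0) 1) (nonsingular_inr 0)
      have h := hfix (Pi.single (Sum.inl i) 1 + Pi.single (Sum.inr 0) 1) (nonsingular_inl i)
      rw [Matrix.mulVec_add, h0, add_left_inj] at h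
      exact h
    · exact hfix _ (nonsingular_inr i)
  · rw [hOc, Cfsg.Agent.S0815.result 2 1 le_rfl (q := 2) (by norm_num) hK 4 (by norm_num) (by norm_num), hP]
    rfl

end Cfsg.Lib.Fischer.Relations.TwoPair
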