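import Cfsg.Agent.Lib.Core.Layer
import Cfsg.Prelude.Def_Transfer

/-!
# Splitting off a central involution from a group with cyclic derived group

If squares and commutators lie in `{1, z}` and the centre is `{1, a, z, az}`, the group is the product of the
group of order two generated by `a` and an extraspecial group.
-/

set_option autoImplicit false
set_option linter.unusedSectionVars false

namespace Cfsg.Lib.Fischer.Relations.TwoPair

variable {E : Type*} [Group E] [Finite E] {z : E}

theorem mem_zpowers_two {u : E} (hz : z * z = 1) (h : u ∈ Subgroup.zpowers z) : u = 1 ∨ u = z := by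
  obtain ⟨k, rfl⟩ := h
  show z ^ k = 1 ∨ z ^ k = z
  rw [← Int.emod_add_mul_ediv k 2, zpow_add, zpow_mul, zpow_two, hz, one_zpow, mul_one]
  rcases Int.emod_two_eq_zero_or_one k with e | e <;> rw [e] <;> simp

/-- A subgroup maximal with `z` inside and `x` outside contains every element or its translate by `x`. -/
theorem exists_max_avoiding (hz : z * z = 1) (hsq : ∀ k : E, k * k = 1 ∨ k * k = z)
    (hcomm : ∀ l k : E, l * k * l⁻¹ * k⁻¹ = 1 ∨ l * k * l⁻¹ * k⁻¹ = z) {x : E} (hx1 : x ≠ 1) (hxz : x ≠ z) :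
    ∃ M : Subgroup E, z ∈ M ∧ x ∉ M ∧ ∀ y, y ∉ M → y * x ∈ M := by
  obtain ⟨M, ⟨hzM, hxM⟩, hmax⟩ := Set.Finite.exists_maximal
    (Set.toFinite {M : Subgroup E | z ∈ M ∧ x ∉ M})
    ⟨Subgroup.zpowers z, Subgroup.mem_zpowers z, fun h => (mem_zpowers_two hz h).elim hx1 hxz⟩
  have hJ : ∀ u, u = 1 ∨ u = z → u ∈ M := by
    rintro u (rfl | rfl)
    exacts [one_mem _, hzM]
  refine ⟨M, hzM, hxM, fun y hy => ?_⟩
  have hnorm : ∀ m ∈ M, y * m * y⁻¹ ∈ M := fun m hm => by
    have := mul_mem (hJ _ (hcomm y m)) hm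
    rwa [inv_mul_cancel_right] at this
  have hy2 : y * y ∈ M := hJ _ (hsq y)
  -- the subgroup `M ∪ yM`
  let M' : Subgroup E :=
    { carrier := {u | u ∈ M ∨ y⁻¹ * u ∈ M}
      one_mem' := Or.inl (one_mem _)
      mul_mem' := by
        rintro u v (hu | hu) (hv | hv)
        · exact Or.inl (mul_mem hu hv)
        · refine Or.inr ?_
          have h1 : y⁻¹ * u * y ∈ M := by
            have h2 := hnorm _ (mul_mem (mul_mem (inv_mem hy2) hu) hy2)
            rwa [show y * ((y * y)⁻¹ * u * (y * y)) * y⁻¹ = y⁻¹ * u * y by group] at h2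
          have := mul_mem h1 hv
          rwa [show y⁻¹ * u * y * (y⁻¹ * v) = y⁻¹ * (u * v) by group] at this
        · exact Or.inr (by rw [← mul_assoc]; exact mul_mem hu hv)
        · refine Or.inl ?_
          have := mul_mem (mul_mem (hnorm _ hu) hy2) hv
          rwa [show y * (y⁻¹ * u) * y⁻¹ * (y * y) * (y⁻¹ * v) = u * v by group] at this
      inv_mem' := by
        rintro u (hu | hu)
        · exact Or.inl (inv_mem hu)
        · refine Or.inr ?_
          have := mul_mem (inv_mem hy2) (hnorm _ (inv_mem hu))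
          rwa [show (y * y)⁻¹ * (y * (y⁻¹ * u)⁻¹ * y⁻¹) = y⁻¹ * u⁻¹ by group] at this }
  have hMM' : M ≤ M' := fun u hu => Or.inl hu
  have hyM' : y ∈ M' := Or.inr (by rw [inv_mul_cancel]; exact one_mem _)
  have hx' : x ∈ M' := by
    by_contra h
    exact hy (hmax ⟨hMM' hzM, h⟩ hMM' hyM')
  rcases hx' with h | h
  · exact absurd h hxM
  · have := mul_mem hy2 h
    rwa [show y * y * (y⁻¹ * x) = y * x by group] at this

/-- The decomposition. -/
theorem split_extraspecial {a : E} (ha : a * a = 1) (hz : z * z = 1) (ha1 : a ≠ 1) (hz1 : z ≠ 1) (haz : a ≠ z)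
    (hac : ∀ u, Commute a u) (hzc : ∀ u, Commute z u) (hsq : ∀ k : E, k * k = 1 ∨ k * k = z)
    (hcomm : ∀ l k : E, l * k * l⁻¹ * k⁻¹ = 1 ∨ l * k * l⁻¹ * k⁻¹ = z)
    (hcen : ∀ u, (∀ v, Commute v u) → u = 1 ∨ u = a ∨ u = z ∨ u = a * z) (hcard : Nat.card E = 2 ^ 10) :
    ∃ N : Subgroup E, Cfsg.IsExtraspecial 2 ↥N ∧ Nat.card N = 2 ^ 9 ∧
      Nonempty (E ≃* Multiplicative (ZMod 2) × ↥N) := by
  classical
  haveI : Fact (Nat.Prime 2) := ⟨Nat.prime_two⟩
  obtain ⟨N, hzN, haN, hN⟩ := exists_max_avoiding hz hsq hcomm ha1 haz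
  have hcov : ∀ u, u ∈ N ∨ a * u ∈ N := fun u => by
    by_cases h : u ∈ N
    · exact Or.inl h
    · exact Or.inr (by rw [(hac u).eq]; exact hN u h)
  -- the product map
  have hoa : orderOf a = 2 := orderOf_eq_prime (by rw [pow_two, ha]) ha1
  have hza : Nat.card (Subgroup.zpowers a) = 2 := by rw [Nat.card_zpowers, hoa]
  obtain ⟨f, hf⟩ : ∃ f : ↥(Subgroup.zpowers a) × ↥N →* E, ∀ p, f p = (p.1 : E) * p.2 :=
    ⟨(Subgroup.zpowers a).subtype.noncommCoprod N.subtype (fun p n => by
      obtain ⟨k, hk⟩ := p.2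
      show Commute (p : E) (n : E)
      rw [← hk]
      exact (hac _).zpow_left k), fun _ => rfl⟩
  have hpa : ∀ p : ↥(Subgroup.zpowers a), (p : E) = 1 ∨ (p : E) = a := by
    rintro ⟨_, k, rfl⟩
    show a ^ k = 1 ∨ a ^ k = a
    rw [← Int.emod_add_mul_ediv k 2, zpow_add, zpow_mul, zpow_two, ha, one_zpow, mul_one]
    rcases Int.emod_two_eq_zero_or_one k with e | e <;> rw [e] <;> simp
  have hfi : Function.Injective f := by
    refine (injective_iff_map_eq_one f).2 fun p hp => ?_
    rw [hf] at hp
    rcases hpa p.1 with e | e <;> rw [e] at hp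
    · rw [one_mul] at hp
      exact Prod.ext (Subtype.ext e) (Subtype.ext hp)
    · exfalso
      rw [eq_inv_of_mul_eq_one_left hp] at haN
      exact haN (inv_mem p.2.2)
  have hfs : Function.Surjective f := fun u => by
    rcases hcov u with h | h
    · exact ⟨(1, ⟨u, h⟩), by rw [hf]; exact one_mul u⟩
    · exact ⟨(⟨a, Subgroup.mem_zpowers a⟩, ⟨a * u, h⟩), by
        rw [hf]; show a * (a * u) = u; rw [← mul_assoc, ha, one_mul]⟩
  have hNcard : Nat.card N = 2 ^ 9 := by
    have := Nat.card_eq_of_bijective f ⟨hfi, hfs⟩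
    rw [Nat.card_prod, hza, hcard] at this
    omega
  refine ⟨N, ?_, hNcard, ?_⟩
  · obtain ⟨zN, hzN'⟩ : ∃ zN : ↥N, (zN : E) = z := ⟨⟨z, hzN⟩, rfl⟩
    have hzN1 : zN ≠ 1 := fun e => hz1 (by rw [← hzN', e, Subgroup.coe_one])
    have hJ : ∀ u : ↥N, ((u : E) = 1 ∨ (u : E) = z) → u ∈ Subgroup.zpowers zN := by
      rintro u (e | e)
      · rw [show u = 1 from Subtype.ext e]; exact one_mem _
      · rw [show u = zN from Subtype.ext (e.trans hzN'.symm)]; exact Subgroup.mem_zpowers _
    have hcenN : Subgroup.center ↥N = Subgroup.zpowers zN := by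
      refine le_antisymm (fun u hu => ?_) ?_
      · have hu' : ∀ v, Commute v (u : E) := fun v => by
          rcases hcov v with h | h
          · exact congrArg Subtype.val (Subgroup.mem_center_iff.1 hu ⟨v, h⟩)
          · have h1 : Commute (a * v) (u : E) := congrArg Subtype.val (Subgroup.mem_center_iff.1 hu ⟨_, h⟩)
            have := (hac u).mul_left h1
            rwa [← mul_assoc, ha, one_mul] at this
        rcases hcen _ hu' with e | e | e | e
        · exact hJ u (Or.inl e)
        · exact absurd (e ▸ u.2) haN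
        · exact hJ u (Or.inr e)
        · refine absurd ?_ haN
          have := mul_mem u.2 hzN
          rwa [e, mul_assoc, hz, mul_one] at this
      · rw [Subgroup.zpowers_le, Subgroup.mem_center_iff]
        exact fun v => Subtype.ext (by rw [Subgroup.coe_mul, Subgroup.coe_mul, hzN']; exact (hzc _).eq.symm)
    have hzcard : Nat.card (Subgroup.zpowers zN) = 2 := by
      rw [Nat.card_zpowers]
      exact orderOf_eq_prime (Subtype.ext (by rw [SubgroupClass.coe_pow, hzN', pow_two, hz]; rfl)) hzN1
    have hcle : commutator ↥N ≤ Subgroup.zpowers zN := by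
      rw [commutator_def, Subgroup.commutator_le]
      intro u _ v _
      refine hJ _ ?_
      simpa [commutatorElement_def] using hcomm (u : E) (v : E)
    obtain ⟨u, v, huv⟩ : ∃ u v : ↥N, u * v * u⁻¹ * v⁻¹ = zN := by
      by_contra h
      push Not at h
      have habN : ∀ u v : ↥N, Commute u v := fun u v => by
        rcases hcomm (u : E) (v : E) with e | e
        · have e' : u * v * u⁻¹ * v⁻¹ = 1 := Subtype.ext (by simpa using e)
          exact commutatorElement_eq_one_iff_commute.1 (by rw [commutatorElement_def]; exact e')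
        · exact absurd (Subtype.ext (by simpa [hzN'] using e)) (h u v)
      have habE : ∀ x y : E, Commute x y := fun x y => by
        obtain ⟨p, rfl⟩ := hfs x
        obtain ⟨q, rfl⟩ := hfs y
        refine (show Commute p q from Prod.ext ?_ (habN p.2 q.2).eq).map f
        exact Subtype.ext (by
          show (p.1 : E) * (q.1 : E) = (q.1 : E) * (p.1 : E)
          rcases hpa p.1 with e | e <;> rw [e]
          · rw [one_mul, mul_one]
          · exact (hac _).eq)
      have hsub : ∀ x : E, x ∈ ({1, a, z, a * z} : Finset E) := fun x => by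
        simpa using hcen x fun y => habE y x
      have h4 : Nat.card E ≤ 4 := by
        haveI := Fintype.ofFinite E
        rw [Nat.card_eq_fintype_card, ← Finset.card_univ]
        exact (Finset.card_le_card fun x _ => hsub x).trans Finset.card_le_four
      omega
    have hcomN : commutator ↥N = Subgroup.zpowers zN := by
      refine le_antisymm hcle ?_
      rw [Subgroup.zpowers_le, ← huv, commutator_def, ← commutatorElement_def]
      exact Subgroup.commutator_mem_commutator (Subgroup.mem_top u) (Subgroup.mem_top v)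
    have hfra : frattini ↥N = Subgroup.zpowers zN := by
      refine le_antisymm (fun w hw => ?_) ?_
      · by_contra hw'
        have hsqN : ∀ k : ↥N, k * k = 1 ∨ k * k = zN := fun k =>
          (hsq (k : E)).imp (fun e => Subtype.ext e) fun e => Subtype.ext (e.trans hzN'.symm)
        have hcN : ∀ l k : ↥N, l * k * l⁻¹ * k⁻¹ = 1 ∨ l * k * l⁻¹ * k⁻¹ = zN := fun l k =>
          (hcomm (l : E) (k : E)).imp (fun e => Subtype.ext (by simpa using e))
            fun e => Subtype.ext (by simpa [hzN'] using e)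
        obtain ⟨M, -, hwM, hM⟩ := exists_max_avoiding (z := zN)
          (Subtype.ext (by rw [Subgroup.coe_mul, hzN', hz]; rfl)) hsqN hcN (x := w)
          (fun e => hw' (e ▸ one_mem _)) (fun e => hw' (e ▸ Subgroup.mem_zpowers _))
        refine hwM (frattini_le_coatom ⟨fun e => hwM (by rw [e]; trivial), fun X hX => ?_⟩ hw)
        obtain ⟨y, hyX, hyM⟩ := SetLike.exists_of_lt hX
        have hwX : w ∈ X := by
          have := mul_mem (inv_mem hyX) (hX.le (hM y hyM))
          rwa [inv_mul_cancel_left] at this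
        refine (Subgroup.eq_top_iff' X).2 fun t => ?_
        by_cases ht : t ∈ M
        · exact hX.le ht
        · have := mul_mem (hX.le (hM t ht)) (inv_mem hwX)
          rwa [mul_inv_cancel_right] at this
      · rw [Subgroup.zpowers_le]
        show zN ∈ Order.radical (Subgroup ↥N)
        simp only [Order.radical, Subgroup.mem_iInf]
        intro M hM
        by_contra hzM
        have htop : ∀ t : ↥N, t ∈ M ∨ t * zN ∈ M := by
          intro t
          let M' : Subgroup ↥N := M ⊔ Subgroup.zpowers zN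
          have hM' : M' = ⊤ := hM.2 M' (lt_of_le_of_ne le_sup_left fun e =>
            hzM (e ▸ Subgroup.mem_sup_right (Subgroup.mem_zpowers zN)))
          have ht : t ∈ M ⊔ Subgroup.zpowers zN := by
            show t ∈ M'
            rw [hM']; trivial
          haveI : (Subgroup.zpowers zN).Normal := hcenN ▸ inferInstance
          rw [Subgroup.mem_sup_of_normal_right] at ht
          obtain ⟨m, hm, n, hn, rfl⟩ := ht
          rw [← hcomN] at hn
          rcases (show (n : E) = 1 ∨ (n : E) = z from by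
            obtain ⟨k, hk⟩ := hcomN ▸ hn
            rw [← hk]
            show ((zN ^ k : ↥N) : E) = 1 ∨ ((zN ^ k : ↥N) : E) = z
            rw [SubgroupClass.coe_zpow, hzN', ← Int.emod_add_mul_ediv k 2, zpow_add, zpow_mul, zpow_two, hz,
              one_zpow, mul_one]
            rcases Int.emod_two_eq_zero_or_one k with e | e <;> rw [e] <;> simp) with e | e
          · exact Or.inl (by rwa [show n = 1 from Subtype.ext e, mul_one])
          · refine Or.inr ?_
            rwa [show n = zN from Subtype.ext (e.trans hzN'.symm), mul_assoc,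
              show zN * zN = 1 from Subtype.ext (by rw [Subgroup.coe_mul, hzN', hz]; rfl), mul_one]
        have hcz : ∀ t : ↥N, Commute zN t := fun t => Subtype.ext (by
          rw [Subgroup.coe_mul, Subgroup.coe_mul, hzN']; exact (hzc _).eq)
        obtain ⟨u', hu', eu⟩ : ∃ u', u' ∈ M ∧ ∀ t, u' * t * u'⁻¹ = u * t * u⁻¹ := by
          rcases htop u with h | h
          · exact ⟨u, h, fun _ => rfl⟩
          · exact ⟨_, h, fun t => by rw [show u * zN * t * (u * zN)⁻¹ = u * (zN * t * zN⁻¹) * u⁻¹ by group,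
              (hcz t).eq, mul_inv_cancel_right]⟩
        obtain ⟨v', hv', ev⟩ : ∃ v', v' ∈ M ∧ u * v' * u⁻¹ * v'⁻¹ = zN := by
          rcases htop v with h | h
          · exact ⟨v, h, huv⟩
          · refine ⟨_, h, ?_⟩
            rw [show u * (v * zN) * u⁻¹ * (v * zN)⁻¹ = u * v * (zN * u⁻¹ * zN⁻¹) * v⁻¹ by group,
              (hcz u⁻¹).eq, mul_inv_cancel_right, huv]
        refine hzM ?_
        rw [← ev, ← eu]
        exact mul_mem (mul_mem (mul_mem hu' hv') (inv_mem hu')) (inv_mem hv')
    refine ⟨⟨IsPGroup.of_card hNcard, hfra.trans hcenN.symm, hcomN.trans hcenN.symm⟩, ?_⟩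
    rw [hcenN, hzcard]
  · exact ⟨(MulEquiv.ofBijective f ⟨hfi, hfs⟩).symm.trans (MulEquiv.prodCongr
      ((zmodCyclicMulEquiv (inferInstance : IsCyclic ↥(Subgroup.zpowers a))).symm.trans
        (AddEquiv.toMultiplicative (ZMod.ringEquivCongr hza).toAddEquiv)) (MulEquiv.refl _))⟩

end Cfsg.Lib.Fischer.Relations.TwoPair
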