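import Cfsg.Agent.Lib.Fischer.Relations.TwoPair.Main
import Cfsg.Agent.Lib.Fischer.Relations.TwoPair.Orth
import Cfsg.Agent.Lib.Fischer.Relations.TwoPair.Split

/-!
# The generalized Fitting subgroup of the centralizer of a product of two commuting members
-/

set_option autoImplicit false
set_option linter.unusedSectionVars false

namespace Cfsg.Lib.Fischer.Relations.TwoPair

open Module Matrix Cfsg Cfsg.Lib.Fischer Cfsg.Lib.Linear.Herm Cfsg.Agent.S1631 Cfsg.Lib.Fischer.RadicalAbelian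
open Cfsg.Lib.Linear

variable {G : Type*} [Group G] [Finite G] {D : Set G}
  {F : Type} [Field F] [Fintype F] {hF : Fintype.card F = 2 ^ 2} {d b : G}

/-- Normal 2-subgroups of the automorphism group of `PSU(4, 2)` are trivial. -/
theorem aut_two_bot (hF : Fintype.card F = 2 ^ 2) (N : Subgroup (MulAut (Cfsg.PSU 4 F 2))) [N.Normal]
    (hN : IsPGroup 2 N) : N = ⊥ := by
  haveI : Fact (Nat.Prime 2) := ⟨Nat.prime_two⟩
  haveI : CharP F 2 := CharTwo.of_one_ne_zero_of_two_eq_zero one_ne_zero (fourField hF).two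
  have hinj := AutPSU.inn_injective (q := 2) hF 2 (n := 4) (by norm_num)
  haveI : (N.comap (MulAut.conj : Cfsg.PSU 4 F 2 →* MulAut (Cfsg.PSU 4 F 2))).Normal :=
    Subgroup.Normal.comap inferInstance _
  have hbot := psu_four_two_bot hF (N.comap (MulAut.conj : Cfsg.PSU 4 F 2 →* MulAut (Cfsg.PSU 4 F 2)))
    (hN.comap_of_injective _ hinj)
  rw [Subgroup.eq_bot_iff_forall] at hbot ⊢
  intro n hn
  ext p
  have hconj : MulAut.conj (n p) = n * MulAut.conj p * n⁻¹ := by
    ext x
    simp [MulAut.mul_apply]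
  have hmem : MulAut.conj (n p * p⁻¹) ∈ N := by
    rw [map_mul, map_inv, hconj, show n * MulAut.conj p * n⁻¹ * (MulAut.conj p)⁻¹ =
      n * (MulAut.conj p * n⁻¹ * (MulAut.conj p)⁻¹) by group]
    exact mul_mem hn (Subgroup.Normal.conj_mem inferInstance _ (inv_mem hn) _)
  have := hbot _ hmem
  exact mul_inv_eq_one.1 this

namespace Base

variable (P : Base D d b hF)
include P

theorem pCore_eq :
    Cfsg.pCore 2 ↥(Subgroup.centralizer ({d * b} : Set G)) =
      P.E.subgroupOf (Subgroup.centralizer ({d * b} : Set G)) := by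
  haveI : Fact (Nat.Prime 2) := ⟨Nat.prime_two⟩
  haveI : (P.E.subgroupOf (Subgroup.centralizer ({d * b} : Set G))).Normal := by
    rw [← P.actHom_ker]; infer_instance
  refine le_antisymm ?_ (Lib.Core.le_pCore' inferInstance (IsPGroup.of_card (n := 10) (by
    rw [Nat.card_congr (Subgroup.subgroupOfEquivOfLe P.E_le).toEquiv, P.card_E])))
  intro c hc
  haveI : ((Cfsg.pCore 2 ↥(Subgroup.centralizer ({d * b} : Set G))).map P.actHom).Normal :=
    Subgroup.Normal.map inferInstance _ P.actHom_surjective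
  have h := aut_two_bot hF _ ((Lib.Core.pCore_isPGroup 2 ↥(Subgroup.centralizer ({d * b} : Set G))).map P.actHom)
  rw [← P.actHom_ker, MonoidHom.mem_ker, ← Subgroup.mem_bot, ← h]
  exact Subgroup.mem_map_of_mem _ hc

theorem fitting_eq :
    Cfsg.generalizedFittingSubgroup ↥(Subgroup.centralizer ({d * b} : Set G)) =
      P.E.subgroupOf (Subgroup.centralizer ({d * b} : Set G)) := by
  haveI : Fact (Nat.Prime 2) := ⟨Nat.prime_two⟩
  rw [← P.pCore_eq]
  refine Lib.Core.generalizedFitting_eq_pCore_iff.2 fun c hc => ?_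
  rw [P.pCore_eq] at hc ⊢
  have hcom : ∀ x ∈ P.E, Commute (c : G) x := fun x hx =>
    (congrArg Subtype.val (Subgroup.mem_centralizer_iff.1 hc ⟨x, P.E_le hx⟩ hx)).symm
  have hK : (c : G) ∈ Subgroup.centralizer ({d, b} : Set G) :=
    mem_pair_centralizer.2 ⟨hcom d P.E_pair.2.1, hcom b P.E_pair.2.2⟩
  have hV := P.inV_of_centralizes (z := ⟨(c : G), hK⟩) fun k hk =>
    (Subtype.ext ((hcom (k : G) (P.mem_E.2 ⟨k.2, hk⟩)).eq) :
      (⟨(c : G), hK⟩ : ↥(Subgroup.centralizer ({d, b} : Set G))) * k = k * ⟨(c : G), hK⟩).symm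
  show (c : G) ∈ P.E
  rcases hV with e | e | e | e <;> (have e' : (c : G) = _ := e; rw [e'])
  exacts [one_mem _, P.E_pair.2.1, P.E_pair.2.2, mul_mem P.E_pair.2.1 P.E_pair.2.2]

theorem fitting_split :
    ∃ (E : Type) (_ : Group E) (_ : Finite E), Cfsg.IsExtraspecial 2 E ∧ Nat.card E = 2 ^ 9 ∧
      Nonempty (↥(Cfsg.generalizedFittingSubgroup ↥(Subgroup.centralizer ({d * b} : Set G))) ≃*
        Multiplicative (ZMod 2) × E) := by
  obtain ⟨e⟩ : Nonempty (↥(Cfsg.generalizedFittingSubgroup ↥(Subgroup.centralizer ({d * b} : Set G))) ≃*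
      Shrink.{0} ↥P.theta.ker) :=
    ⟨(((MulEquiv.subgroupCongr P.fitting_eq).trans (Subgroup.subgroupOfEquivOfLe P.E_le)).trans
      (P.theta.ker.equivMapOfInjective _ (Subgroup.subtype_injective _)).symm).trans Shrink.mulEquiv.symm⟩
  let σ : Shrink.{0} ↥P.theta.ker ≃* ↥P.theta.ker := Shrink.mulEquiv
  haveI : Finite (Shrink.{0} ↥P.theta.ker) := Finite.of_equiv _ σ.symm.toEquiv
  have hval : ∀ u v : Shrink.{0} ↥P.theta.ker, ((σ u : ↥(Subgroup.centralizer ({d, b} : Set G))) : G) =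
      ((σ v : ↥(Subgroup.centralizer ({d, b} : Set G))) : G) → u = v := fun u v h =>
    σ.injective (Subtype.ext (Subtype.ext h))
  have hD := P.C.trans
  have hdd := mul_self hD P.C.mem
  have hbb := mul_self hD P.hb.1
  obtain ⟨hdK, hd1⟩ := P.mem_E.1 P.E_pair.2.1
  obtain ⟨hzK, hz1⟩ := P.mem_E.1 (mul_mem P.E_pair.2.1 P.E_pair.2.2)
  obtain ⟨a, ha⟩ : ∃ a, ((σ a : ↥(Subgroup.centralizer ({d, b} : Set G))) : G) = d :=
    ⟨σ.symm ⟨⟨d, hdK⟩, hd1⟩, by simp⟩
  obtain ⟨z, hz⟩ : ∃ z, ((σ z : ↥(Subgroup.centralizer ({d, b} : Set G))) : G) = d * b :=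
    ⟨σ.symm ⟨⟨_, hzK⟩, hz1⟩, by simp⟩
  have h1 : ((σ 1 : ↥(Subgroup.centralizer ({d, b} : Set G))) : G) = 1 := by simp
  have hm : ∀ u v, ((σ (u * v) : ↥(Subgroup.centralizer ({d, b} : Set G))) : G) =
      ((σ u : ↥(Subgroup.centralizer ({d, b} : Set G))) : G) * ((σ v : ↥(Subgroup.centralizer ({d, b} : Set G))) : G) :=
    fun u v => by simp
  have hi : ∀ u, ((σ u⁻¹ : ↥(Subgroup.centralizer ({d, b} : Set G))) : G) =
      ((σ u : ↥(Subgroup.centralizer ({d, b} : Set G))) : G)⁻¹ := fun u => by simp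
  have hz2 : d * b * (d * b) = 1 := by
    rcases P.mem_inJ (z := d * b) (w := d * b) (Or.inr rfl) (Or.inr rfl) with h | h
    · exact h
    · exfalso
      exact P.hb.2.1.symm (by rw [mul_eq_left] at h; exact (eq_inv_of_mul_eq_one_left h).trans (inv_eq hD P.hb.1))
  have hk : ∀ u, ∃ k : ↥(Subgroup.centralizer ({d, b} : Set G)), P.theta k = 1 ∧
      (k : G) = ((σ u : ↥(Subgroup.centralizer ({d, b} : Set G))) : G) := fun u => ⟨(σ u).1, (σ u).2, rfl⟩
  have hne1 : d ≠ 1 := fun h => by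
    have := P.C.fis.set.1 d P.C.mem
    rw [h, orderOf_one] at this; norm_num at this
  obtain ⟨N, hN, hNc, ⟨eN⟩⟩ := split_extraspecial (E := Shrink.{0} ↥P.theta.ker) (a := a) (z := z)
    (hval _ _ (by rw [hm, h1, ha, hdd])) (hval _ _ (by rw [hm, h1, hz, hz2]))
    (fun h => hne1 (by rw [← ha, h, h1]))
    (fun h => P.hb.2.1.symm (by
      have e : d * b = 1 := by rw [← hz, h, h1]
      exact (eq_inv_of_mul_eq_one_left e).trans (inv_eq hD P.hb.1)))
    (fun h => by
      have e : d = d * b := by rw [← hz, ← h, ha]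
      rw [eq_comm, mul_eq_left] at e
      have := P.C.fis.set.1 b P.hb.1
      rw [e, orderOf_one] at this; norm_num at this)
    (fun u => hval _ _ (by rw [hm, hm, ha]; exact (mem_pair_centralizer.1 (σ u).1.2).1.symm.eq))
    (fun u => hval _ _ (by rw [hm, hm, hz]; exact (P.commute_inJ (Or.inr rfl) (σ u).1.2).symm.eq))
    (fun u => by
      obtain ⟨k, hk1, ek⟩ := hk u
      rcases (P.kernel_inJ hk1).1 with h | h
      · exact Or.inl (hval _ _ (by rw [hm, h1, ← ek]; exact h))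
      · exact Or.inr (hval _ _ (by rw [hm, hz, ← ek]; exact h)))
    (fun l u => by
      obtain ⟨k, hk1, ek⟩ := hk u
      obtain ⟨m, hm1, em⟩ := hk l
      rcases (P.kernel_inJ hk1).2 m hm1 with h | h
      · exact Or.inl (hval _ _ (by rw [hm, hm, hm, hi, hi, h1, ← ek, ← em]; exact h))
      · exact Or.inr (hval _ _ (by rw [hm, hm, hm, hi, hi, hz, ← ek, ← em]; exact h)))
    (fun u hu => by
      have hV := P.inV_of_centralizes (z := (σ u).1) fun k hk1 => by
        have h := congrArg σ (hu (σ.symm ⟨k, hk1⟩)).eq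
        rw [map_mul, map_mul, MulEquiv.apply_symm_apply] at h
        exact congrArg Subtype.val h
      rcases hV with e | e | e | e
      · exact Or.inl (hval _ _ (e.trans h1.symm))
      · exact Or.inr (Or.inl (hval _ _ (e.trans ha.symm)))
      · exact Or.inr (Or.inr (Or.inr (hval _ _ (by rw [hm, ha, hz, ← mul_assoc, hdd, one_mul]; exact e))))
      · exact Or.inr (Or.inr (Or.inl (hval _ _ (e.trans hz.symm)))))
    (by rw [Nat.card_congr σ.toEquiv, P.card_kernel])
  exact ⟨↥N, inferInstance, inferInstance, hN, hNc, ⟨e.trans eN⟩⟩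

theorem quotient_orth [hn : (Cfsg.generalizedFittingSubgroup ↥(Subgroup.centralizer ({d * b} : Set G))).Normal] :
    Nonempty (↥(Subgroup.centralizer ({d * b} : Set G)) ⧸
      Cfsg.generalizedFittingSubgroup ↥(Subgroup.centralizer ({d * b} : Set G)) ≃*
        Cfsg.isometryGroup (ZMod 2) (Cfsg.quadFormMinus 2 (ZMod 2) 1 1)) := by
  obtain ⟨e⟩ := isometry_six_minus_equiv hF
  exact ⟨((QuotientGroup.quotientMulEquivOfEq (P.fitting_eq.trans P.actHom_ker.symm)).trans
    (QuotientGroup.quotientKerEquivOfSurjective _ P.actHom_surjective)).trans e.symm⟩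

end Base

end Cfsg.Lib.Fischer.Relations.TwoPair
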