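import Cfsg.Agent.Lib.Fischer.Relations.TwoPair.AutFix
import Cfsg.Prelude.Def_KGroupFacts

/-!
# The inner automorphisms have index at most two in type M(22)

An outer automorphism fixing a member is semilinear for the involutory field automorphism.
-/

set_option autoImplicit false
set_option linter.unusedSectionVars false

namespace Cfsg.Lib.Fischer.Relations

open Module Matrix Cfsg Cfsg.Lib.Fischer Cfsg.Lib.Linear.Herm Cfsg.Agent.S1631
  Cfsg.Lib.Fischer.RadicalAbelian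
open Cfsg.Lib.Linear

variable {G : Type*} [Group G] [Finite G] {D : Set G}
  {F : Type} [Field F] [Fintype F] {hF : Fintype.card F = 2 ^ 2} {d : G}

namespace Coord

variable (C : Coord D d hF)
include C

/-- Two outer automorphisms fixing `d` differ by an inner one. -/
theorem outer_mul {φ ψ : MulAut G} (hpres : ∀ (χ : MulAut G), ∀ x ∈ D, χ x ∈ D) (hφd : φ d = d) (hψd : ψ d = d)
    (hφ : φ ∉ Cfsg.Inn G) (hψ : ψ ∉ Cfsg.Inn G) : φ * ψ ∈ Cfsg.Inn G := by
  obtain ⟨A, τ, hA⟩ := C.semiAut φ hφd (hpres φ)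
  obtain ⟨B, τ', hB⟩ := C.semiAut ψ hψd (hpres ψ)
  have hτ : ∀ x, τ x = x * x := fun x => aut_sq hF (by
    by_contra h; push Not at h; exact hφ (C.aut_inner hφd (hpres φ) hA h)) x
  have hτ' : ∀ x, τ' x = x * x := fun x => aut_sq hF (by
    by_contra h; push Not at h; exact hψ (C.aut_inner hψd (hpres ψ) hB h)) x
  refine C.aut_inner (A := A * AutPSU.smGU τ B) (τ := RingEquiv.refl F)
    (by rw [MulAut.mul_apply, hψd, hφd]) (hpres _) (fun s hs => ?_) fun x => rfl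
  obtain ⟨b, hb, eb⟩ := hB s hs
  obtain ⟨a, ha, ea⟩ := hA _ (C.aut_perp hψd (hpres ψ) hs)
  refine ⟨a * τ b, mul_ne_zero ha (by simpa using hb), ?_⟩
  show C.U.c (φ (ψ s)) = (a * τ b) • ((A.1.1 * B.1.1.map τ) *ᵥ (RingEquiv.refl F ∘ C.U.c s))
  rw [ea, eb, show τ ∘ (b • B.1.1 *ᵥ (τ' ∘ C.U.c s)) = τ b • (τ ∘ (B.1.1 *ᵥ (τ' ∘ C.U.c s))) by ext i; simp,
    Matrix.mulVec_smul, smul_smul, ← Matrix.mulVec_mulVec, ← AutPSU.mulVec_comp]
  congr 3
  funext i
  show τ (τ' (C.U.c s i)) = C.U.c s i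
  rw [hτ, hτ']
  rcases eq_or_ne (C.U.c s i) 0 with e | e
  · rw [e]; ring
  · linear_combination C.U.c s i * (fourField hF).cube _ e

/-- The inner automorphisms have index two as soon as some automorphism is outer. -/
theorem index_inn (hpres : ∀ (χ : MulAut G), ∀ x ∈ D, χ x ∈ D) (h : ∃ σ, σ ∉ Cfsg.Inn G) :
    (Cfsg.Inn G).index = 2 := by
  have hnorm : ∀ χ : MulAut G, ∃ k, k ∈ Cfsg.Inn G ∧ (k * χ) d = d := fun χ => by
    obtain ⟨g, hg⟩ := C.trans.trans (χ d) (hpres χ d C.mem) d C.mem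
    exact ⟨MulAut.conj g, ⟨g, rfl⟩, by rw [MulAut.mul_apply, MulAut.conj_apply, hg]⟩
  obtain ⟨σ, hσ⟩ := h
  refine Subgroup.index_eq_two_iff.2 ⟨σ, fun χ => ?_⟩
  by_cases hχ : χ ∈ Cfsg.Inn G
  · exact Or.inr ⟨hχ, fun e => hσ ((mul_mem_cancel_left hχ).1 e)⟩
  refine Or.inl ⟨?_, hχ⟩
  obtain ⟨k, hk, hkd⟩ := hnorm σ
  obtain ⟨l, hl, hld⟩ := hnorm χ
  have hmem := C.outer_mul hpres hld hkd (fun e => hχ ((mul_mem_cancel_left hl).1 e))
    (fun e => hσ ((mul_mem_cancel_left hk).1 e))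
  rw [show l * χ * (k * σ) = l * (χ * k * χ⁻¹) * (χ * σ) by group] at hmem
  exact (mul_mem_cancel_left (mul_mem hl (Subgroup.Normal.conj_mem inferInstance k hk χ))).1 hmem

end Coord

end Cfsg.Lib.Fischer.Relations
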