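import Cfsg.Agent.Lib.Fischer.Relations.TwoPair.AutPair
import Cfsg.Agent.Lib.Fischer.Relations.FixedMember.Class
import Cfsg.Agent.Lib.Fischer.Fi22Recog.Iso
import Cfsg.Agent.Lib.Fischer.Relations.TwoPair.OuterIndex
import Cfsg.Agent.Lib.CosetEnum.Fi22OutMin.Outer

/-!
# The automorphism group of a group of type M(22)
-/

set_option autoImplicit false
set_option linter.unusedSectionVars false

namespace Cfsg.Lib.Fischer.Relations.TwoPair

open Cfsg Cfsg.Lib.Fischer

theorem amb_of {G : Type*} [Group G] [Finite G] {D : Set G} (hD : Cfsg.IsThreeTranspositionGroup D)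
    (hprim : Cfsg.IsPrimitiveUnderConj D) (h22 : Cfsg.IsOfTypeM22 G D) : Amb D := by
  have hpres : ∀ (φ : MulAut G), ∀ x ∈ D, φ x ∈ D := by
    intro φ x hx
    obtain ⟨hset, hconj, hgen⟩ := id hD
    obtain ⟨a₀, ha₀, -⟩ := hprim.2.1
    have hT : Cfsg.Lib.Fischer.Trans D := ⟨hset, hconj, hprim.1, hgen, ⟨a₀, ha₀⟩⟩
    obtain ⟨a, ha⟩ := hT.ne
    have himg : φ '' D = D := by
      refine Cfsg.Lib.Fischer.Relations.FixedMember.class_unique hD hprim h22 _ ⟨⟨?_, ?_⟩, ⟨φ a, ?_, ?_⟩, ?_⟩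
      · rintro _ ⟨x, hx, rfl⟩
        rw [φ.orderOf_eq]
        exact hset.1 x hx
      · rintro _ ⟨x, hx, rfl⟩ _ ⟨y, hy, rfl⟩
        rcases hset.2 x hx y hy with h | h
        · exact Or.inl (by rw [← map_mul, ← map_pow, h, map_one])
        · exact Or.inr (by rw [← map_mul, ← map_pow, h, map_one])
      · exact Set.mem_image_of_mem _ ha
      · ext x
        constructor
        · rintro ⟨y, hy, rfl⟩
          obtain ⟨g, rfl⟩ := hT.trans a ha y hy
          exact isConj_iff.2 ⟨φ g, by simp⟩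
        · intro hx
          obtain ⟨g, rfl⟩ := isConj_iff.1 hx
          exact ⟨φ.symm g * a * (φ.symm g)⁻¹, hconj _ a ha, by simp⟩
      · rw [show φ '' D = φ.toMonoidHom '' D from rfl, ← MonoidHom.map_closure, hgen]
        exact Subgroup.map_top_of_surjective _ φ.surjective
    exact himg ▸ Set.mem_image_of_mem φ hx
  refine ⟨hpres, ?_⟩
  · obtain ⟨e, -⟩ := Cfsg.Lib.Fischer.Fi22Recog.exists_equiv hD hprim h22
    obtain ⟨σ, hσ⟩ := Cfsg.Lib.CosetEnum.Fi22OutMin.exists_outer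
    have hσ' : MulAut.congr e σ ∉ Cfsg.Inn G := by
      rintro ⟨c, hc⟩
      refine hσ ⟨e.symm c, MulEquiv.ext fun x => e.injective ?_⟩
      have := DFunLike.congr_fun hc (e x)
      simpa [MulAut.congr, MulAut.conj_apply] using this
    obtain ⟨F, _, _, hF, d, ⟨C⟩⟩ : ∃ (F : Type) (_ : Field F) (_ : Fintype F) (hF : Fintype.card F = 2 ^ 2),
        ∃ d : G, Nonempty (Coord D d hF) := by
      obtain ⟨hset, hconj, hgen⟩ := id hD
      obtain ⟨a₀, ha₀, -⟩ := hprim.2.1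
      exact m22_coord ⟨hset, hconj, hprim.1, hgen, ⟨a₀, ha₀⟩⟩ hprim h22
    exact C.index_inn hpres ⟨_, hσ'⟩

end Cfsg.Lib.Fischer.Relations.TwoPair
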