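import Cfsg.Agent.Lib.Fischer.Relations.TwoPair.FixFours

/-!
# Elements fixing every common neighbour of a pair

They lie in the group generated by the pair.
-/

set_option autoImplicit false
set_option linter.unusedSectionVars false

namespace Cfsg.Lib.Fischer.Relations.TwoPair

open Module Matrix Cfsg Cfsg.Lib.Fischer Cfsg.Lib.Linear.Herm Cfsg.Agent.S1631 Cfsg.Lib.Fischer.RadicalAbelian
open Cfsg.Lib.Linear

variable {G : Type*} [Group G] [Finite G] {D : Set G}
  {F : Type} [Field F] [Fintype F] {hF : Fintype.card F = 2 ^ 2} {d b : G}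

theorem emb_add (v w : Fin 4 → F) : emb (v + w) = emb v + emb w := by
  ext i; fin_cases i <;> simp [emb]

theorem emb_smul (a : F) (w : Fin 4 → F) : emb (a • w) = a • emb w := by
  ext i; fin_cases i <;> simp [emb]

namespace Base

variable (P : Base D d b hF)
include P

/-- What commutes with every common neighbour of the pair and with the pair lies in its group. -/
theorem inV_of_commute_common (k : ↥(Subgroup.centralizer ({d, b} : Set G)))
    (h : ∀ x ∈ perp D d, x ∈ perp D b → Commute (k : G) x) : InV d b k := by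
  obtain ⟨f, hf, hbf⟩ := AutPSU.exists_partner hF (bv_iso hF)
  have hP : AutPSU.Hyp hF (bv : Fin 6 → F) f := ⟨bv_iso hF, hf, hbf⟩
  have h1 : P.theta k = 1 := by
    refine P.center_psu_four _ fun y => ?_
    have hy : y ∈ Subgroup.closure {y | ∃ (x : G) (hx : x ∈ perp D d) (hxb : x ∈ perp D b),
        P.theta ⟨x, P.common_mem hx hxb⟩ = y} := P.theta_gen.symm ▸ Subgroup.mem_top y
    induction hy using Subgroup.closure_induction with
    | mem y hy =>
      obtain ⟨x, hx, hxb, rfl⟩ := hy
      exact Commute.map (show Commute (⟨x, P.common_mem hx hxb⟩ : ↥(Subgroup.centralizer ({d, b} : Set G))) k from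
        Subtype.ext (h x hx hxb).symm.eq) P.theta
    | one => exact Commute.one_left _
    | mul x y _ _ hx hy => exact hx.mul_left hy
    | inv x _ hx => exact hx.inv_left
  have hA := (P.theta_eq_one_iff k).1 h1
  obtain ⟨A, hAdef⟩ : ∃ A, A = (P.lift k : ↥(Cfsg.SU 6 F 2)) := ⟨_, rfl⟩
  rw [← hAdef] at hA
  have hfix : ∀ w : Fin 4 → F, w ∈ {w : Fin 4 → F | AutPSU.act A (emb w) = emb w} := by
    refine iso_lines_span hF _ (fun v w hv hw => ?_) fun l w hw => ?_
    · show AutPSU.act A (emb (v + w)) = emb (v + w)
      rw [emb_add, AutPSU.act_add, hv, hw]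
    · show AutPSU.act A (emb (l • w)) = emb (l • w)
      obtain ⟨x, hx, hxb, j, hj, ej⟩ := P.exists_member hw 0
      rw [zero_smul, add_zero] at ej
      obtain ⟨a, ha, e⟩ := P.lift_lifts k x hx
      rw [(h x hx hxb).eq, mul_inv_cancel_right, ← hAdef, ej, AutPSU.act_smul, smul_smul, mul_comm, ← smul_smul] at e
      have e' : emb w = a • AutPSU.act A (emb w) := smul_right_injective _ hj e
      obtain ⟨s, hs⟩ := hA.2 _ (form_bv_emb hF w)
      have hres := congrArg res e'
      rw [hs, res_smul, res_add, res_smul, res_bv, smul_zero, add_zero, res_emb] at hres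
      have ha1 : a = 1 := by
        have : (a - 1) • w = 0 := by rw [sub_smul, one_smul, ← hres, sub_self]
        exact sub_eq_zero.1 ((smul_eq_zero.1 this).resolve_right hw.1)
      rw [ha1, one_smul] at e'
      rw [emb_smul, AutPSU.act_smul, ← e']
  refine P.inV_of_commute h1 fun g hg => ?_
  rw [← hAdef]
  refine commute_of_transl hP (g := ⟨A, hA⟩) ?_ hg
  apply Multiplicative.toAdd.injective
  rw [transl_apply]
  show res (AutPSU.act A f - f) = 0
  refine (hB_nondegenerate hF 4).2 _ fun w => ?_
  have h0 := form_bv_emb hF w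
  have hm := sub_perp hP hA f
  have := AutPSU.form_act hF A (emb w) f
  rw [hfix w] at this
  have hz : hB hF 6 (emb w) (AutPSU.act A f - f) = 0 := by rw [map_sub, this, sub_self]
  rwa [form_perp hF h0 hm, res_emb] at hz

end Base

end Cfsg.Lib.Fischer.Relations.TwoPair
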