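import Cfsg.Agent.Lib.Fischer.Relations.Centralizer.Main

/-!
# Automorphisms fixing a member in type M(22)

An automorphism fixing `d` and inducing a linear map on the points of the neighbourhood is inner.
-/

set_option autoImplicit false
set_option linter.unusedSectionVars false

namespace Cfsg.Lib.Fischer.Relations

open Module Matrix Cfsg Cfsg.Lib.Fischer Cfsg.Lib.Linear.Herm Cfsg.Agent.S1631
  Cfsg.Lib.Fischer.RadicalAbelian
open Cfsg.Lib.Linear

variable {G : Type*} [Group G] [Finite G] {D : Set G}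
  {F : Type} [Field F] [Fintype F] {hF : Fintype.card F = 2 ^ 2} {d : G}

namespace Coord

variable (C : Coord D d hF)
include C

theorem aut_perp {ψ : MulAut G} (hψd : ψ d = d) (hψD : ∀ x ∈ D, ψ x ∈ D) {s : G} (hs : s ∈ perp D d) :
    ψ s ∈ perp D d := by
  refine ⟨hψD s hs.1, fun e => hs.2.1 (ψ.injective (e.trans hψd.symm)), ?_⟩
  have := hs.2.2.map ψ.toMonoidHom
  rwa [MulEquiv.coe_toMonoidHom, hψd] at this

/-- An automorphism fixing every member is trivial. -/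
theorem aut_eq_one {ψ : MulAut G} (h : ∀ x ∈ D, ψ x = x) : ψ = 1 := by
  have := MonoidHom.eq_of_eqOn_dense C.trans.gen (f := ψ.toMonoidHom) (g := MonoidHom.id G) h
  exact MulEquiv.ext fun x => DFunLike.congr_fun this x

/-- An automorphism fixing `d` and its neighbours is `1` or the conjugation by `d`. -/
theorem aut_eq_or_eq {ψ : MulAut G} (hψd : ψ d = d) (hψD : ∀ x ∈ D, ψ x ∈ D)
    (h : ∀ s ∈ perp D d, ψ s = s) : ψ = 1 ∨ ψ = MulAut.conj d := by
  have hD := C.trans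
  have hfix : ∀ c ∈ D, Commute d c → ψ c = c := fun c hc hdc => by
    rcases eq_or_ne c d with rfl | hne
    exacts [hψd, h c ⟨hc, hne, hdc⟩]
  by_cases hex : ∃ c ∈ D, ¬ Commute d c ∧ ψ c = c
  · obtain ⟨c, hc, hdc, hψc⟩ := hex
    refine Or.inl (C.aut_eq_one ?_)
    obtain ⟨a, ha, hne, hda⟩ := exists_perp C.fis C.mem
    obtain ⟨K, hK⟩ : ∃ K, K = Subgroup.closure {x | x ∈ D ∧ ψ x = x} := ⟨_, rfl⟩
    have hKD : Cfsg.IsDSubgroup D K := hK ▸
      le_antisymm ((Subgroup.closure_le _).2 fun x hx => hx.2)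
        (Subgroup.closure_mono fun x hx => ⟨hx.1, Subgroup.subset_closure hx⟩)
    have hKfix : ∀ x ∈ K, ψ x = x := fun x hx => by
      have hle : K ≤ MonoidHom.eqLocus ψ.toMonoidHom (MonoidHom.id G) :=
        hK ▸ (Subgroup.closure_le _).2 fun y hy => hy.2
      exact hle hx
    rcases closure_maximal hD C.prim ⟨d, C.mem, a, ha, hne.symm, hda⟩ C.mem K hKD
      (hK ▸ Subgroup.closure_mono fun x hx => ⟨hx.1, hfix x hx.1 hx.2⟩) with e | e
    · exfalso
      have hle : Subgroup.closure {x : G | x ∈ D ∧ Commute d x} ≤ Subgroup.centralizer ({d} : Set G) :=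
        (Subgroup.closure_le _).2 fun x hx => Subgroup.mem_centralizer_singleton_iff.2 hx.2.eq.symm
      have hcK : c ∈ K := hK ▸ Subgroup.subset_closure ⟨hc, hψc⟩
      exact hdc (Subgroup.mem_centralizer_singleton_iff.1 (hle (e ▸ hcK))).symm
    · exact fun x _ => hKfix x (e ▸ Subgroup.mem_top x)
  push Not at hex
  refine Or.inr ?_
  have hall : ∀ c ∈ D, (MulAut.conj d * ψ) c = c := by
    intro c hc
    rw [MulAut.mul_apply, MulAut.conj_apply]
    by_cases hdc : Commute d c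
    · rw [hfix c hc hdc, hdc.eq, mul_inv_cancel_right]
    have hx : ψ c ∈ D := hψD c hc
    have hcomm : ∀ s, Commute c s → Commute (ψ c) (ψ s) := fun s hs => hs.map ψ.toMonoidHom
    have hdx : ¬ Commute d (ψ c) := fun e => hdc (by
      have := e.map ψ.symm.toMonoidHom
      rwa [MulEquiv.coe_toMonoidHom, MulEquiv.symm_apply_apply, ψ.symm_apply_eq.2 hψd.symm] at this)
    have hdx' : ¬ Commute d (cj d c) := fun e => hdc ((commute_cj hD C.mem).1 (by
      simpa [cj_self hD C.mem] using e))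
    have h1 : ψ c = cj d c := by
      refine trace_unique C.fis C.nbr C.mem hc hx (cj_mem hD C.mem hc) hdc hdx hdx'
        (hex c hc hdc) (fun e => hdc ((cj_eq_self hD C.mem).1 e)) (fun s hs => ?_)
        (fun s hs => ?_)
      · have := hcomm s hs.2
        rwa [h s hs.1] at this
      · have hds : Commute d s := hs.1.2.2
        exact (hds.mul_left hs.2).mul_left hds
    rw [h1, inv_eq hD C.mem, ← cj_def, cj_cj hD C.mem]
  have h2 := C.aut_eq_one hall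
  rw [eq_inv_of_mul_eq_one_right h2, ← map_inv, inv_eq hD C.mem]

/-- Multiplying by the neighbourhood group changes the linear part to any other of the same determinant. -/
theorem aut_adjust {ψ : MulAut G} (hψd : ψ d = d) (hψD : ∀ x ∈ D, ψ x ∈ D) {A : ↥(Cfsg.GU 6 F 2)}
    {τ : F ≃+* F} (hA : ∀ s ∈ perp D d, ∃ a : F, a ≠ 0 ∧ C.U.c (ψ s) = a • (A.1.1.mulVec (τ ∘ C.U.c s)))
    (B : ↥(Cfsg.GU 6 F 2)) (hdet : B.1.1.det = A.1.1.det) :
    ∃ k ∈ Subgroup.closure (perp D d), (MulAut.conj k * ψ) d = d ∧ (∀ x ∈ D, (MulAut.conj k * ψ) x ∈ D) ∧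
      ∀ s ∈ perp D d, ∃ a : F, a ≠ 0 ∧
        C.U.c ((MulAut.conj k * ψ) s) = a • (B.1.1.mulVec (τ ∘ C.U.c s)) := by
  classical
  have hM : (B * A⁻¹).1.1.det = 1 := by
    show (B.1.1 * (A.1⁻¹).1).det = 1
    rw [Matrix.det_mul, hdet, ← Matrix.det_mul, Units.mul_inv, Matrix.det_one]
  obtain ⟨k, hk, hkc⟩ := C.real ⟨⟨(B * A⁻¹).1.1, hM⟩, (B * A⁻¹).2⟩
  refine ⟨k, hk, ?_, fun x hx => ?_, fun s hs => ?_⟩
  · rw [MulAut.mul_apply, hψd, MulAut.conj_apply, (C.commute_of_mem hk).eq, mul_inv_cancel_right]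
  · rw [MulAut.mul_apply, MulAut.conj_apply]; exact C.trans.conj k _ (hψD x hx)
  obtain ⟨a, ha, ea⟩ := hA s hs
  obtain ⟨b, hb, eb⟩ := hkc _ (C.aut_perp hψd hψD hs)
  refine ⟨b * a, mul_ne_zero hb ha, ?_⟩
  rw [MulAut.mul_apply, MulAut.conj_apply, eb, ea, AutPSU.act_smul, smul_smul]
  congr 1
  show ((B * A⁻¹).1.1).mulVec (A.1.1.mulVec _) = _
  rw [Matrix.mulVec_mulVec]
  congr 1
  show B.1.1 * (A.1⁻¹).1 * A.1.1 = B.1.1
  rw [Matrix.mul_assoc, Units.inv_mul, Matrix.mul_one]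

/-- The image of a member of the plane. -/
theorem aut_pm {M : F → F → F → G} (hM : ∀ a b c, a ≠ 0 ∨ b ≠ 0 ∨ c ≠ 0 →
    M a b c ∈ perp D d ∧ ∃ k : F, k ≠ 0 ∧ C.U.c (M a b c) = k • pv a b c)
    {ψ : MulAut G} (hψd : ψ d = d) (hψD : ∀ x ∈ D, ψ x ∈ D) {A : Matrix (Fin 6) (Fin 6) F} {τ : F ≃+* F}
    (hc : ∀ s ∈ perp D d, ∃ k : F, k ≠ 0 ∧ C.U.c (ψ s) = k • A.mulVec (τ ∘ C.U.c s))
    {a b c a' b' c' : F} (h : a ≠ 0 ∨ b ≠ 0 ∨ c ≠ 0) (h' : a' ≠ 0 ∨ b' ≠ 0 ∨ c' ≠ 0)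
    (e : A.mulVec (τ ∘ pv a b c) = pv a' b' c') : ψ (M a b c) = M a' b' c' := by
  obtain ⟨hs, k, -, e1⟩ := hM a b c h
  obtain ⟨ht, k', hk', e2⟩ := hM a' b' c' h'
  obtain ⟨j, -, e3⟩ := hc _ hs
  have hv : τ ∘ (k • pv a b c) = τ k • (τ ∘ pv a b c) := by
    ext i
    simp
  exact (C.eq_of_proj ht (C.aut_perp hψd hψD hs) ⟨k', hk', e2⟩
    ⟨j * τ k, by rw [e3, e1, hv, Matrix.mulVec_smul, e, smul_smul]⟩).symm

/-- A linear map induced by an automorphism fixing `d` has determinant one. -/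
theorem aut_det_eq_one {ψ : MulAut G} (hψd : ψ d = d) (hψD : ∀ x ∈ D, ψ x ∈ D) {A : ↥(Cfsg.GU 6 F 2)} {τ : F ≃+* F}
    (hA : ∀ s ∈ perp D d, ∃ a : F, a ≠ 0 ∧ C.U.c (ψ s) = a • (A.1.1.mulVec (τ ∘ C.U.c s)))
    (hτ : ∀ x, τ x = x) : A.1.1.det = 1 := by
  classical
  by_contra hμ
  have hK := fourField hF
  have hS := hB_isSymm hF 6
  have hB' := hB_nondegenerate hF 6
  obtain ⟨μ, hμdef⟩ : ∃ μ, μ = A.1.1.det := ⟨_, rfl⟩
  rw [← hμdef] at hμ
  have hμ0 : μ ≠ 0 := hμdef ▸ ((Matrix.isUnit_iff_isUnit_det _).1 A.1.isUnit).ne_zero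
  obtain ⟨m, hm⟩ : ∃ m, m = μ * μ := ⟨_, rfl⟩
  have hm0 : m ≠ 0 := hm ▸ mul_ne_zero hμ0 hμ0
  have hmm : m * m = μ := by rw [hm]; linear_combination μ * hK.cube μ hμ0
  have hm1 : m ≠ 1 := fun e => hμ (by rw [← hmm, e, mul_one])
  obtain ⟨B, hB, hBdet⟩ := exists_diag hF ![1, 1, 1, 1, m, m] (by intro i; fin_cases i <;> simp [hm0])
  obtain ⟨k, -, hkd, hkD, hc⟩ := C.aut_adjust hψd hψD hA B (by
    rw [hBdet, ← hμdef, Fin.prod_univ_six]
    simp [hmm])
  obtain ⟨g1, hg1⟩ : ∃ g1, g1 = MulAut.conj k * ψ := ⟨_, rfl⟩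
  rw [← hg1] at hkd hkD
  simp only [← hg1, hB] at hc
  obtain ⟨M, hM⟩ := C.exists_pm
  obtain ⟨ω, hω⟩ := Linear.exists_omega hK hS hB'
  have hω0 : ω ≠ 0 := fun e => hω (by rw [e, map_zero])
  have hω1 : ω ≠ 1 := fun e => hω (by rw [e, map_one])
  have hsω1 : frob hF ω ≠ 1 := fun e => hω1 ((frob hF).injective (by rw [e, map_one]))
  have h1 : ∀ b c : F, (1 : F) ≠ 0 ∨ b ≠ 0 ∨ c ≠ 0 := fun _ _ => Or.inl one_ne_zero
  have hconj : ∀ a b c, a ≠ 0 ∨ b ≠ 0 ∨ c ≠ 0 → g1 (M a b c) = M a b (m * c) := fun a b c h =>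
    C.aut_pm hM hkd hkD hc h (by rwa [mul_ne_zero_iff, and_iff_right hm0])
      (by rw [diag_mulVec_pv τ _ a b c 1 1 m rfl rfl rfl rfl rfl rfl, hτ, hτ, hτ, one_mul, one_mul])
  obtain ⟨T, hT⟩ : ∃ T : F → List G,
      ∀ l, T l = [M 1 1 l, M 1 ω (l * frob hF ω), M 1 (frob hF ω) (l * ω)] := ⟨_, fun _ => rfl⟩
  have hTprod : ∀ l : F, l ≠ 0 → (T (m * l)).prod = (T l).prod := by
    intro l hl
    obtain ⟨P, hP⟩ : ∃ P, P = M 1 0 0 * (M 0 1 0 * M 0 0 1) := ⟨_, rfl⟩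
    obtain ⟨ε, hε, hεc⟩ : ∃ ε, P * (T l).prod = ε ∧ g1 ε = ε := by
      have h := C.pm_product hM [(1, 0, 0), (0, 1, 0), (0, 0, 1), (1, 1, l), (1, ω, l * frob hF ω),
        (1, frob hF ω, l * ω)] (by simp) (fun x => by
          have e := Linear.hyperoval_act hK hS hB' (w := pv 1 0 0) (z := pv 0 1 0) (u := pv 0 0 1) hω hl x
          simpa [smul_pv, add_pv] using e)
      refine ⟨_, rfl, ?_⟩
      rcases h with h | h <;> simp only [List.map_cons, List.map_nil, List.prod_cons, List.prod_nil] at h <;>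
        rw [show P * (T l).prod = _ by simpa [hP, hT, mul_assoc] using h]
      · exact map_one g1
      · exact hkd
    have hfix : g1 P = P := by
      have e1 := hconj 1 0 0 (h1 0 0)
      have e2 := hconj 0 1 0 (Or.inr (Or.inl one_ne_zero))
      have e3 := hconj 0 0 1 (Or.inr (Or.inr one_ne_zero))
      rw [mul_zero] at e1 e2
      have e3' : M 0 0 (m * 1) = M 0 0 1 := by
        obtain ⟨hs, j, hj, ej⟩ := hM 0 0 (m * 1) (Or.inr (Or.inr (by simpa using hm0)))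
        obtain ⟨ht, j', -, ej'⟩ := hM 0 0 1 (Or.inr (Or.inr one_ne_zero))
        refine C.eq_of_proj hs ht ⟨j, hj, ej⟩ ⟨j' * m⁻¹, ?_⟩
        rw [ej']
        simp [smul_pv, hm0]
      rw [e3'] at e3
      rw [hP, map_mul, map_mul, e1, e2, e3]
    have hmap : g1 (T l).prod = (T (m * l)).prod := by
      rw [hT, hT, mul_assoc m, mul_assoc m]
      simp only [List.prod_cons, List.prod_nil, mul_one]
      rw [map_mul, map_mul, hconj _ _ _ (h1 _ _), hconj _ _ _ (h1 _ _), hconj _ _ _ (h1 _ _)]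
    rw [← hε, map_mul, hfix, hmap] at hεc
    exact mul_left_cancel hεc
  have hinj : ∀ b c b' c', M 1 b c = M 1 b' c' → b = b' ∧ c = c' := fun b c b' c' e => by
    obtain ⟨j, -, h1', h2, h3⟩ := C.pm_eq hM (h1 b c) (h1 b' c') e
    rw [mul_one] at h1'
    rw [← h1', one_mul] at h2 h3
    exact ⟨h2, h3⟩
  have hTnd : ∀ l, (T l).Nodup := by
    intro l
    rw [hT]
    simp only [List.nodup_cons, List.mem_cons, List.not_mem_nil, or_false, not_or, List.nodup_nil, and_true]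
    exact ⟨⟨fun e => hω1 (hinj _ _ _ _ e).1.symm, fun e => hsω1 (hinj _ _ _ _ e).1.symm⟩,
      fun e => hω (hinj _ _ _ _ e).1.symm, not_false⟩
  have hTmem : ∀ l, ∀ x ∈ T l, x ∈ D := by
    intro l x hx
    rw [hT] at hx
    simp only [List.mem_cons, List.not_mem_nil, or_false] at hx
    rcases hx with rfl | rfl | rfl <;> exact (hM _ _ _ (h1 _ _)).1.1
  have hTc : ∀ l, ∀ x ∈ T l, ∀ y ∈ T l, Commute x y := by
    intro l x hx y hy
    rw [hT] at hx hy
    simp only [List.mem_cons, List.not_mem_nil, or_false] at hx hy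
    rcases hx with rfl | rfl | rfl <;> rcases hy with rfl | rfl | rfl <;> exact C.pm_commute hM (h1 _ _) (h1 _ _)
  have hnot : ∀ l l' : F, l ≠ l' → M 1 1 l ∉ T l' := by
    intro l l' hne hx
    rw [hT] at hx
    simp only [List.mem_cons, List.not_mem_nil, or_false] at hx
    rcases hx with e | e | e
    exacts [hne (hinj _ _ _ _ e).2, hω1 (hinj _ _ _ _ e).1.symm, hsω1 (hinj _ _ _ _ e).1.symm]
  have hmemT : ∀ l, M 1 1 l ∈ T l := fun l => by simp [hT]
  obtain ⟨e, f, e', -, -, huniq⟩ := three_exactly_two C.trans C.prim C.cen C.sep C.nbr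
    (by have := hTnd 1; rwa [hT] at this) (by have := hTmem 1; rwa [hT] at this)
    (by have := hTc 1; rwa [hT] at this)
  have hsame : ∀ l, l ≠ 1 → (T l).prod = (T 1).prod → ∀ x, x ∈ T l ↔ x ∈ [e, f, e'] := by
    intro l hl hp
    rcases huniq (T l) (hTnd l) (by simp [hT]) (hTmem l) (hTc l) (by rw [hp, hT]) with h | h
    · exact absurd ((h _).1 (hmemT l)) (by rw [← hT 1]; exact hnot l 1 hl)
    · exact h
  have hp1 : (T m).prod = (T 1).prod := by simpa using hTprod 1 one_ne_zero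
  have hp2 : (T (m * m)).prod = (T 1).prod := (hTprod m hm0).trans hp1
  have hne : m ≠ m * m := fun h => hm1 (mul_left_cancel₀ hm0 (by rw [mul_one]; exact h.symm))
  exact hnot m (m * m) hne ((hsame (m * m) (by rw [hmm]; exact hμ) hp2 _).2
    ((hsame m hm1 hp1 _).1 (hmemT m)))


/-- An automorphism inducing a linear map is inner. -/
theorem aut_inner {ψ : MulAut G} (hψd : ψ d = d) (hψD : ∀ x ∈ D, ψ x ∈ D) {A : ↥(Cfsg.GU 6 F 2)}
    {τ : F ≃+* F} (hA : ∀ s ∈ perp D d, ∃ a : F, a ≠ 0 ∧ C.U.c (ψ s) = a • (A.1.1.mulVec (τ ∘ C.U.c s)))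
    (hτ : ∀ x, τ x = x) : ψ ∈ (MulAut.conj : G →* MulAut G).range := by
  obtain ⟨k, -, hkd, hkD, hc⟩ := C.aut_adjust hψd hψD hA 1 (by
    rw [C.aut_det_eq_one hψd hψD hA hτ]; show (1 : Matrix (Fin 6) (Fin 6) F).det = 1; exact Matrix.det_one)
  have h : MulAut.conj k * ψ ∈ (MulAut.conj : G →* MulAut G).range := by
    rcases C.aut_eq_or_eq hkd hkD (fun s hs => by
      obtain ⟨a, -, ea⟩ := hc s hs
      refine (C.U.inj s hs _ (C.aut_perp hkd hkD hs) a ?_).symm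
      rw [ea]
      show a • (1 : Matrix (Fin 6) (Fin 6) F).mulVec (τ ∘ C.U.c s) = _
      rw [Matrix.one_mulVec, show τ ∘ C.U.c s = C.U.c s from funext fun i => hτ _]) with e | e <;> rw [e]
    · exact one_mem _
    · exact ⟨d, rfl⟩
  have := mul_mem (inv_mem (⟨k, rfl⟩ : MulAut.conj k ∈ (MulAut.conj : G →* MulAut G).range)) h
  rwa [inv_mul_cancel_left] at this

end Coord

end Cfsg.Lib.Fischer.Relations
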