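import Cfsg.Agent.Lib.Fischer.Relations.TwoPair.AutPair
import Cfsg.Agent.Lib.Fischer.Relations.TwoPair.Fitting
import Cfsg.Agent.Lib.Extra.Structure
import Cfsg.Agent.Lib.Concrete.MonsterBabyCore
import Cfsg.Prelude.Def_MonsterType

/-!
# The kernel is a large extraspecial subgroup
-/

set_option autoImplicit false
set_option linter.unusedSectionVars false

namespace Cfsg.Lib.Fischer.Relations.TwoPair

open Module Matrix Cfsg Cfsg.Lib.Fischer Cfsg.Lib.Linear.Herm Cfsg.Agent.S1631 Cfsg.Lib.Fischer.RadicalAbelian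
open Cfsg.Lib.Linear

variable {G : Type*} [Group G] [Finite G] {D : Set G}
  {F : Type} [Field F] [Fintype F] {hF : Fintype.card F = 2 ^ 2} {d b : G}

namespace Base

variable (P : Base D d b hF) (hA : Amb D)
include P hA

theorem j_mem : MulAut.conj (d * b) ∈ P.QJ hA :=
  (P.conj_mem_QJ_iff hA).2 (mul_mem P.E_pair.2.1 P.E_pair.2.2)

theorem j_commute {q : MulAut G} (hq : q ∈ P.QJ hA) : Commute q (MulAut.conj (d * b)) :=
  Subgroup.mem_centralizer_singleton_iff.1 (P.QJ_le hA hq)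

theorem exists_outer_QJ : ∃ q ∈ P.QJ hA, q ∉ Cfsg.Inn G := by
  by_contra h
  push Not at h
  have hle : P.QJ hA ≤ P.E.map (MulAut.conj : G →* MulAut G) := fun q hq => by
    obtain ⟨c, rfl⟩ := h q hq
    exact Subgroup.mem_map_of_mem _ ((P.conj_mem_QJ_iff hA).1 hq)
  have h1 := Subgroup.card_le_of_le hle
  rw [P.card_QJ hA, Subgroup.card_map_of_injective (fun _ _ e => P.conj_inj hA e), P.card_E] at h1
  norm_num at h1

theorem QJ_sq {q : MulAut G} (hq : q ∈ P.QJ hA) : q * q = 1 ∨ q * q = MulAut.conj (d * b) := by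
  obtain ⟨e, he⟩ := P.sq_inner hA q
  have heE : e ∈ P.E := (P.conj_mem_QJ_iff hA).1 (he ▸ mul_mem hq hq)
  suffices h : InJ d b e by
    rcases h with h | h <;> rw [← he, h]
    · exact Or.inl (map_one _)
    · exact Or.inr rfl
  by_cases hi : q ∈ Cfsg.Inn G
  · obtain ⟨c, rfl⟩ := hi
    rw [← map_mul] at he
    obtain ⟨hcK, hc1⟩ := P.mem_E.1 ((P.conj_mem_QJ_iff hA).1 hq)
    rw [P.conj_inj hA he]
    exact (P.kernel_inJ (k := ⟨c, hcK⟩) hc1).1
  obtain ⟨hqd, hqb⟩ := P.outer_swap hA hq hi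
  have hqj := (P.mem_AJ hA).1 (P.QJ_le hA hq)
  have hfix : q e = e := P.conj_inj hA (by rw [← conj_map_aut, he]; group)
  obtain ⟨heK, -⟩ := P.mem_E.1 heE
  have hV : InV d b e := P.inV_of_centralizes (z := ⟨e, heK⟩) fun k hk => by
    have hkE : (k : G) ∈ P.E := P.mem_E.2 ⟨k.2, hk⟩
    obtain ⟨u, hu⟩ : ∃ u, u = q k * (k : G)⁻¹ := ⟨_, rfl⟩
    have huJ : InJ d b u := hu ▸ P.delta hA hq hkE
    have hqu : q u = u := by
      rcases huJ with h | h <;> rw [h]
      exacts [map_one q, hqj]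
    have huu : u * u = 1 := by
      rcases huJ with h | h <;> rw [h]
      · exact one_mul 1
      · rw [P.commute_db.symm.mul_mul_mul_comm, mul_self P.C.trans P.C.mem, mul_self P.C.trans P.hb.1, one_mul]
    have hk2 : e * (k : G) * e⁻¹ = k := by
      rw [← MulAut.conj_apply, he, MulAut.mul_apply, show q k = u * k by rw [hu, inv_mul_cancel_right],
        map_mul, hqu, show q k = u * k by rw [hu, inv_mul_cancel_right], ← mul_assoc, huu, one_mul]
    exact Subtype.ext (mul_inv_eq_iff_eq_mul.1 hk2).symm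
  rcases hV with h | h | h | h
  · exact Or.inl h
  · rw [h, hqd] at hfix; exact absurd hfix P.hb.2.1
  · rw [h, hqb] at hfix; exact absurd hfix.symm P.hb.2.1
  · exact Or.inr h

/-- Only `1` and `j` centralize the kernel. -/
theorem QJ_cent {φ : MulAut G} (h : ∀ q ∈ P.QJ hA, Commute φ q) : φ = 1 ∨ φ = MulAut.conj (d * b) := by
  have hfix : ∀ e ∈ P.E, φ e = e := fun e he => P.conj_inj hA (by
    rw [← conj_map_aut, (h _ ((P.conj_mem_QJ_iff hA).2 he)).eq, mul_inv_cancel_right])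
  have hd := hfix d P.E_pair.2.1
  have hb := hfix b P.E_pair.2.2
  have hj : φ ∈ AJ d b := (P.mem_AJ hA).2 (by rw [map_mul, hd, hb])
  have hQ : φ ∈ P.QJ hA := by
    refine (P.mem_QJ hA).2 ⟨hj, fun k => ?_⟩
    obtain ⟨l, hl⟩ : ∃ l, l = k⁻¹ * (⟨φ k, P.apair hA hj k.2⟩ : ↥(Subgroup.centralizer ({d, b} : Set G))) :=
      ⟨_, rfl⟩
    have hV : InV d b l := P.inV_of_centralizes fun f hf => by
      have hfE : (f : G) ∈ P.E := P.mem_E.2 ⟨f.2, hf⟩
      have h1 := hfix _ (P.E_conj (P.pair_le k.2) hfE)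
      rw [map_mul, map_mul, map_inv, hfix _ hfE] at h1
      have h2 : (l : G) * f * (l : G)⁻¹ = f := by
        rw [hl]
        simp only [Subgroup.coe_mul, Subgroup.coe_inv]
        calc (k : G)⁻¹ * φ k * f * ((k : G)⁻¹ * φ k)⁻¹ = (k : G)⁻¹ * (φ k * f * (φ k)⁻¹) * k := by group
          _ = (k : G)⁻¹ * (k * f * (k : G)⁻¹) * k := by rw [h1]
          _ = f := by group
      exact Subtype.ext (mul_inv_eq_iff_eq_mul.1 h2).symm
    have hlE : (l : G) ∈ P.E := by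
      rcases hV with e | e | e | e <;> rw [e]
      exacts [one_mem _, P.E_pair.2.1, P.E_pair.2.2, mul_mem P.E_pair.2.1 P.E_pair.2.2]
    obtain ⟨_, h1⟩ := P.mem_E.1 hlE
    rw [show (⟨φ k, P.apair hA hj k.2⟩ : ↥(Subgroup.centralizer ({d, b} : Set G))) = k * l by
      rw [hl, mul_inv_cancel_left], map_mul, show P.theta l = 1 from h1, mul_one]
  by_cases hi : φ ∈ Cfsg.Inn G
  swap
  · exact absurd ((P.outer_swap hA hQ hi).1.symm.trans hd) P.hb.2.1
  obtain ⟨c, rfl⟩ := hi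
  have hcE := (P.conj_mem_QJ_iff hA).1 hQ
  obtain ⟨hcK, -⟩ := P.mem_E.1 hcE
  have hV : InV d b c := P.inV_of_centralizes (z := ⟨c, hcK⟩) fun k hk => by
    have := hfix _ (P.mem_E.2 ⟨k.2, hk⟩)
    rw [MulAut.conj_apply] at this
    exact Subtype.ext (mul_inv_eq_iff_eq_mul.1 this).symm
  obtain ⟨q, hq, hqi⟩ := P.exists_outer_QJ hA
  obtain ⟨q1, q2⟩ := P.outer_swap hA hq hqi
  have hqc : q c = c := P.conj_inj hA (by rw [← conj_map_aut, ← (h q hq).eq, mul_inv_cancel_right])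
  rcases hV with e | e | e | e
  · exact Or.inl (by rw [e, map_one])
  · rw [e, q1] at hqc; exact absurd hqc P.hb.2.1
  · rw [e, q2] at hqc; exact absurd hqc.symm P.hb.2.1
  · exact Or.inr (by rw [e])

theorem QJ_center : (Subgroup.center ↥(P.QJ hA)).map (P.QJ hA).subtype =
    Subgroup.zpowers (MulAut.conj (d * b)) := by
  refine le_antisymm ?_ ((Subgroup.zpowers_le).2 ?_)
  · rintro _ ⟨c, hc, rfl⟩
    rcases P.QJ_cent hA (φ := (c : MulAut G)) (fun q hq =>
      (congrArg Subtype.val (Subgroup.mem_center_iff.1 hc ⟨q, hq⟩)).symm) with e | e <;>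
      show (c : MulAut G) ∈ _ <;> rw [e]
    exacts [one_mem _, Subgroup.mem_zpowers _]
  · exact ⟨⟨_, P.j_mem hA⟩, Subgroup.mem_center_iff.2 fun q => Subtype.ext (P.j_commute hA q.2).eq, rfl⟩

theorem j_order : orderOf (MulAut.conj (d * b) : MulAut G) = 2 := by
  have hD := P.C.trans
  refine orderOf_eq_prime_iff.2 ⟨?_, fun h => P.hb.2.1.symm ?_⟩
  · rw [← map_pow, pow_two, P.commute_db.symm.mul_mul_mul_comm, mul_self hD P.C.mem, mul_self hD P.hb.1, one_mul,
      map_one]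
  · have h' := P.conj_inj hA (h.trans (map_one MulAut.conj).symm)
    rw [eq_inv_of_mul_eq_one_left h', inv_eq hD P.hb.1]

theorem QJ_extraspecial : Cfsg.IsExtraspecial 2 ↥(P.QJ hA) := by
  haveI : Fact (Nat.Prime 2) := ⟨Nat.prime_two⟩
  have hJ : (⟨_, P.j_mem hA⟩ : ↥(P.QJ hA)) ∈ Subgroup.center ↥(P.QJ hA) :=
    Subgroup.mem_center_iff.2 fun q => Subtype.ext (P.j_commute hA q.2).eq
  have hsq : ∀ a : ↥(P.QJ hA), a * a ∈ Subgroup.center ↥(P.QJ hA) := fun a => by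
    rcases P.QJ_sq hA a.2 with e | e
    · rw [show a * a = 1 from Subtype.ext e]; exact one_mem _
    · rw [show a * a = ⟨_, P.j_mem hA⟩ from Subtype.ext e]; exact hJ
  refine Cfsg.Lib.Concrete.extraspecial_of_center (IsPGroup.of_card (P.card_QJ hA)) ?_ (fun a c => ?_) hsq ?_
  · rw [← Subgroup.card_map_of_injective (P.QJ hA).subtype_injective, P.QJ_center hA, Nat.card_zpowers,
      P.j_order hA]
  · have h1 := Subgroup.mem_center_iff.1 (inv_mem (hsq a)) (c⁻¹)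
    rw [show a * c * a⁻¹ * c⁻¹ = a * c * (a * c) * (c⁻¹ * (a * a)⁻¹) * c⁻¹ by group, h1,
      show a * c * (a * c) * ((a * a)⁻¹ * c⁻¹) * c⁻¹ = a * c * (a * c) * ((a * a)⁻¹ * (c * c)⁻¹) by group]
    exact mul_mem (hsq _) (mul_mem (inv_mem (hsq a)) (inv_mem (hsq c)))
  · obtain ⟨q, hq, hqi⟩ := P.exists_outer_QJ hA
    refine ⟨⟨q, hq⟩, ⟨_, (P.conj_mem_QJ_iff hA).2 P.E_pair.2.1⟩, fun h => P.hb.2.1 ?_⟩
    have h' : q * MulAut.conj d = MulAut.conj d * q := congrArg Subtype.val h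
    rw [← (P.outer_swap hA hq hqi).1]
    exact P.conj_inj hA (by rw [← conj_map_aut, h', mul_inv_cancel_right])

theorem QJ_normalized {c : MulAut G} (hc : Commute c (MulAut.conj (d * b))) :
    c ∈ Subgroup.normalizer (P.QJ hA : Set (MulAut G)) := by
  have hcJ : c ∈ AJ d b := Subgroup.mem_centralizer_singleton_iff.2 hc.eq
  refine Subgroup.mem_normalizer_fintype fun q hq => ?_
  obtain ⟨ψ, hψ, e⟩ := Subgroup.mem_map.1 hq
  refine Subgroup.mem_map.2 ⟨(⟨c, hcJ⟩ : ↥(AJ d b)) * ψ * (⟨c, hcJ⟩ : ↥(AJ d b))⁻¹,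
    (P.ractHom hA).normal_ker.conj_mem ψ hψ ⟨c, hcJ⟩, ?_⟩
  rw [map_mul, map_mul, map_inv, e]
  rfl

theorem QJ_large : Cfsg.IsLargeExtraspecial (P.QJ hA) := by
  have hzc := P.QJ_center hA
  have hC : Subgroup.centralizer (P.QJ hA : Set (MulAut G)) = (Subgroup.center ↥(P.QJ hA)).map (P.QJ hA).subtype := by
    refine le_antisymm (fun φ hφ => ?_) ?_
    · rw [hzc]
      rcases P.QJ_cent hA fun q hq => (Subgroup.mem_centralizer_iff.1 hφ q hq).symm with e | e <;> rw [e]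
      exacts [one_mem _, Subgroup.mem_zpowers _]
    · rintro _ ⟨c, hc, rfl⟩
      exact Subgroup.mem_centralizer_iff.2 fun a ha =>
        congrArg Subtype.val (Subgroup.mem_center_iff.1 hc ⟨a, ha⟩)
  have hN : Subgroup.centralizer (((Subgroup.center ↥(P.QJ hA)).map (P.QJ hA).subtype : Subgroup (MulAut G)) :
      Set (MulAut G)) ≤ Subgroup.normalizer (P.QJ hA : Set (MulAut G)) := by
    intro c hc
    rw [hzc, Subgroup.zpowers_eq_closure, Subgroup.centralizer_closure, Subgroup.mem_centralizer_singleton_iff] at hc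
    exact P.QJ_normalized hA hc
  refine ⟨P.QJ_extraspecial hA, hC, hN, fun K hK hQK => ?_⟩
  have hctx := Cfsg.Lib.Extra.ctx_of (P.QJ_extraspecial hA) hC.le hN hzc
  have hD := P.C.trans
  obtain ⟨X⟩ := P.exists_fibre
  have hne : X.x 0 ≠ X.x 1 := fun e => zero_ne_one (X.inj e)
  obtain ⟨T, hT, h0, h1⟩ := P.exists_fib (X.perp_d 0) (X.perp_b 0) (X.perp_d 1) (X.perp_b 1) (X.theta_eq 0 1)
  have hc01 := hT.comm _ h0 _ h1
  obtain ⟨g, hg⟩ := hD.trans d P.C.mem (X.x 0) (X.perp_d 0).1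
  have hgb : g * b * g⁻¹ ∈ perp D (X.x 0) := by
    rw [← hg, mem_perp_conj hD g d]
    simpa [mul_assoc] using P.hb
  obtain ⟨k, hk, ek⟩ := perp_transitive P.C.fis (X.perp_d 0).1 hgb ⟨(X.perp_d 1).1, hne.symm, hc01⟩
  have hk0 : k * X.x 0 * k⁻¹ = X.x 0 := by
    rw [(commute_of_mem_closure P.C.fis (X.perp_d 0).1 (Subgroup.closure_mono (Set.subset_insert _ _) hk)).eq,
      mul_inv_cancel_right]
  have hw : MulAut.conj (k * g) * MulAut.conj (d * b) * (MulAut.conj (k * g))⁻¹ =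
      MulAut.conj (X.x 0 * X.x 1) := by
    rw [conj_map_aut, MulAut.conj_apply]
    congr 1
    rw [← hk0, ← ek, ← hg]
    group
  have hwQ : MulAut.conj (X.x 0 * X.x 1) ∈ P.QJ hA := by
    refine (P.conj_mem_QJ_iff hA).2 (P.mem_E.2 ⟨mul_mem (X.mem_pair 0) (X.mem_pair 1), ?_⟩)
    rw [show (⟨X.x 0 * X.x 1, _⟩ : ↥(Subgroup.centralizer ({d, b} : Set G))) =
      ⟨X.x 0, X.mem_pair 0⟩ * ⟨X.x 1, X.mem_pair 1⟩ from rfl, map_mul, ← X.theta_eq 0 1, ← map_mul,
      show (⟨X.x 0, X.mem_pair 0⟩ : ↥(Subgroup.centralizer ({d, b} : Set G))) * ⟨X.x 0, X.mem_pair 0⟩ = 1 from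
      Subtype.ext (mul_self hD (X.perp_d 0).1), map_one]
  have hwne : MulAut.conj (X.x 0 * X.x 1) ≠ MulAut.conj (d * b) := fun e => by
    have e' := P.conj_inj hA e
    have hc := P.commute_db
    have hiff := mem_iff_of_prod_eq hD P.noRel (l := [X.x 0, X.x 1]) (l' := [d, b]) (by simp [hne])
      (by simp [P.hb.2.1.symm]) (by simp [(X.perp_d 0).1, (X.perp_d 1).1]) (by simp [P.C.mem, P.hb.1])
      (by simp [hc01, hc01.symm]) (by simp [hc, hc.symm]) (by simp) (by simp) (by simpa using e')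
    have := (hiff _).1 (List.mem_cons_self ..)
    simp only [List.mem_cons, List.not_mem_nil, or_false] at this
    rcases this with e | e
    exacts [(X.perp_d 0).2.1 e, (X.perp_b 0).2.1 e]
  have hR := hctx.conj (MulAut.conj (k * g))
  have hgQ : MulAut.conj (k * g) * MulAut.conj (d * b) * (MulAut.conj (k * g))⁻¹ ∈ P.QJ hA := hw.symm ▸ hwQ
  exact hctx.odd_eq_bot hgQ hR.sq_z (by rw [hw]; exact hwne) hR.ne_one hR.two (hctx.mem_symm hgQ) hR.norm hK hQK

theorem QJ_fitting :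
    Cfsg.generalizedFittingSubgroup ↥(AJ d b) = (P.ractHom hA).ker := by
  haveI : Fact (Nat.Prime 2) := ⟨Nat.prime_two⟩
  have hker : Nat.card (P.ractHom hA).ker = 2 ^ 11 := by
    rw [← P.card_QJ hA, QJ, Subgroup.card_map_of_injective (Subgroup.subtype_injective _)]
  have hp : Cfsg.pCore 2 ↥(AJ d b) = (P.ractHom hA).ker := by
    refine le_antisymm (fun c hc => ?_) (Lib.Core.le_pCore' inferInstance (IsPGroup.of_card hker))
    haveI : ((Cfsg.pCore 2 ↥(AJ d b)).map (P.ractHom hA)).Normal :=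
      Subgroup.Normal.map inferInstance _ (P.ractHom_surjective hA)
    have h := aut_two_bot hF _ ((Lib.Core.pCore_isPGroup 2 ↥(AJ d b)).map (P.ractHom hA))
    rw [MonoidHom.mem_ker, ← Subgroup.mem_bot, ← h]
    exact Subgroup.mem_map_of_mem _ hc
  rw [← hp]
  refine Lib.Core.generalizedFitting_eq_pCore_iff.2 fun c hc => ?_
  rw [hp] at hc ⊢
  obtain ⟨ψ, hψ, e⟩ : (c : MulAut G) ∈ P.QJ hA := by
    rcases P.QJ_cent hA (φ := (c : MulAut G)) (fun q hq => by
      obtain ⟨ψ, hψ, rfl⟩ := hq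
      exact (congrArg Subtype.val (Subgroup.mem_centralizer_iff.1 hc ψ hψ)).symm) with h | h <;> rw [h]
    exacts [one_mem _, P.j_mem hA]
  rwa [← Subtype.ext (e : (ψ : MulAut G) = c)]

theorem QJ_quotient : ∃ (_ : ((P.QJ hA).subgroupOf (AJ d b)).Normal),
    Nonempty (↥(AJ d b) ⧸ (P.QJ hA).subgroupOf (AJ d b) ≃* MulAut (Cfsg.PSU 4 F 2)) := by
  have e : (P.QJ hA).subgroupOf (AJ d b) = (P.ractHom hA).ker :=
    Subgroup.comap_map_eq_self_of_injective (Subgroup.subtype_injective _) _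
  haveI hn : ((P.QJ hA).subgroupOf (AJ d b)).Normal := e ▸ inferInstance
  exact ⟨hn, ⟨(QuotientGroup.quotientMulEquivOfEq e).trans
    (QuotientGroup.quotientKerEquivOfSurjective _ (P.ractHom_surjective hA))⟩⟩

end Base

end Cfsg.Lib.Fischer.Relations.TwoPair
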