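import Cfsg.Agent.Lib.Fischer.Relations.TwoPair.Fibre
import Cfsg.Prelude.Def_KGroupFacts

/-!
# The centralizer of a two-pair involution among the automorphisms

It acts on the residual group; an outer element of the kernel exchanges the pair and moves each element of
the inner kernel by `1` or `db`.
-/

set_option autoImplicit false
set_option linter.unusedSectionVars false

namespace Cfsg.Lib.Fischer.Relations.TwoPair

open Module Matrix Cfsg Cfsg.Lib.Fischer Cfsg.Lib.Linear.Herm Cfsg.Agent.S1631 Cfsg.Lib.Fischer.RadicalAbelian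
open Cfsg.Lib.Linear

variable {G : Type*} [Group G] [Finite G] {D : Set G}
  {F : Type} [Field F] [Fintype F] {hF : Fintype.card F = 2 ^ 2} {d b : G}

/-- The class is invariant and the inner automorphisms have index two. -/
structure Amb (D : Set G) : Prop where
  pres : ∀ (φ : MulAut G), ∀ x ∈ D, φ x ∈ D
  idx : (Cfsg.Inn G).index = 2

theorem conj_map_aut (φ : MulAut G) (g : G) : φ * MulAut.conj g * φ⁻¹ = MulAut.conj (φ g) := by
  ext x
  simp [MulAut.mul_apply]

/-- The centralizer of the inner automorphism of `db`. -/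
abbrev AJ (d b : G) : Subgroup (MulAut G) := Subgroup.centralizer ({MulAut.conj (d * b)} : Set (MulAut G))

namespace Base

variable (P : Base D d b hF) (hA : Amb D)
include P hA

theorem conj_inj {g h : G} (e : MulAut.conj g = MulAut.conj h) : g = h := by
  have h1 : h⁻¹ * g ∈ Subgroup.center G := Subgroup.mem_center_iff.2 fun x => by
    have := DFunLike.congr_fun e x
    simp only [MulAut.conj_apply] at this
    calc x * (h⁻¹ * g) = h⁻¹ * (h * x * h⁻¹) * g := by group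
      _ = h⁻¹ * (g * x * g⁻¹) * g := by rw [this]
      _ = h⁻¹ * g * x := by group
  rw [P.C.cen, Subgroup.mem_bot, inv_mul_eq_one] at h1
  exact h1.symm

theorem mem_AJ {φ : MulAut G} : φ ∈ AJ d b ↔ φ (d * b) = d * b := by
  rw [Subgroup.mem_centralizer_singleton_iff]
  constructor
  · intro h
    exact P.conj_inj hA (by rw [← conj_map_aut, h, mul_inv_cancel_right])
  · intro h
    rw [← mul_inv_eq_iff_eq_mul, conj_map_aut, h]

theorem aperm {φ : MulAut G} (hφ : φ ∈ AJ d b) : (φ d = d ∧ φ b = b) ∨ (φ d = b ∧ φ b = d) := by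
  have hne : d ≠ b := P.hb.2.1.symm
  have hc := P.commute_db
  have hne' : φ d ≠ φ b := fun e => hne (φ.injective e)
  have hc' : Commute (φ d) (φ b) := hc.map φ.toMonoidHom
  have hiff := mem_iff_of_prod_eq P.C.trans P.noRel (l := [φ d, φ b]) (l' := [d, b])
    (by simp [hne']) (by simp [hne]) (by simp [hA.pres φ d P.C.mem, hA.pres φ b P.hb.1]) (by simp [P.C.mem, P.hb.1])
    (by simp [hc', hc'.symm]) (by simp [hc, hc.symm]) (by simp) (by simp) (by
      simp only [List.prod_cons, List.prod_nil, mul_one]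
      rw [← map_mul, (P.mem_AJ hA).1 hφ])
  have a1 := (hiff _).1 (List.mem_cons_self ..)
  have a2 := (hiff _).1 (List.mem_cons_of_mem _ (List.mem_cons_self ..))
  simp only [List.mem_cons, List.not_mem_nil, or_false] at a1 a2
  rcases a1 with a1 | a1 <;> rcases a2 with a2 | a2
  · exact absurd (a1.trans a2.symm) hne'
  · exact Or.inl ⟨a1, a2⟩
  · exact Or.inr ⟨a1, a2⟩
  · exact absurd (a1.trans a2.symm) hne'

theorem apair {φ : MulAut G} (hφ : φ ∈ AJ d b) {k : G} (hk : k ∈ Subgroup.centralizer ({d, b} : Set G)) :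
    φ k ∈ Subgroup.centralizer ({d, b} : Set G) := by
  obtain ⟨k1, k2⟩ := mem_pair_centralizer.1 hk
  have h1 : Commute (φ k) (φ d) := k1.map φ.toMonoidHom
  have h2 : Commute (φ k) (φ b) := k2.map φ.toMonoidHom
  rcases P.aperm hA hφ with ⟨e1, e2⟩ | ⟨e1, e2⟩ <;> rw [e1] at h1 <;> rw [e2] at h2
  · exact mem_pair_centralizer.2 ⟨h1, h2⟩
  · exact mem_pair_centralizer.2 ⟨h2, h1⟩

/-- An automorphism on the centralizer of the pair. -/
def resHom (φ : ↥(AJ d b)) :
    ↥(Subgroup.centralizer ({d, b} : Set G)) →* ↥(Subgroup.centralizer ({d, b} : Set G)) :=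
  ((φ : MulAut G).toMonoidHom.comp (Subgroup.centralizer ({d, b} : Set G)).subtype).codRestrict _
    fun k => P.apair hA φ.2 k.2

theorem resHom_coe (φ : ↥(AJ d b)) (k : ↥(Subgroup.centralizer ({d, b} : Set G))) :
    (P.resHom hA φ k : G) = (φ : MulAut G) k := rfl

theorem resHom_mul (φ ψ : ↥(AJ d b)) (k : ↥(Subgroup.centralizer ({d, b} : Set G))) :
    P.resHom hA (φ * ψ) k = P.resHom hA φ (P.resHom hA ψ k) := Subtype.ext rfl

theorem resHom_one (k : ↥(Subgroup.centralizer ({d, b} : Set G))) : P.resHom hA 1 k = k := Subtype.ext rfl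

theorem res_invariant (φ : ↥(AJ d b)) {k : ↥(Subgroup.centralizer ({d, b} : Set G))} (hk : P.theta k = 1) :
    P.theta (P.resHom hA φ k) = 1 := by
  have hsurj : Function.Surjective (P.resHom hA φ) := fun l =>
    ⟨P.resHom hA φ⁻¹ l, by rw [← resHom_mul, mul_inv_cancel, resHom_one]⟩
  haveI : (P.theta.ker.map (P.theta.comp (P.resHom hA φ))).Normal :=
    Subgroup.Normal.map inferInstance _ (P.theta_surjective.comp hsurj)
  have hN := psu_four_two_bot hF (P.theta.ker.map (P.theta.comp (P.resHom hA φ)))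
    ((IsPGroup.of_card P.card_kernel).map _)
  rw [Subgroup.eq_bot_iff_forall] at hN
  exact hN _ ⟨k, hk, rfl⟩

theorem res_congr {k l : ↥(Subgroup.centralizer ({d, b} : Set G))} (h : P.theta k = P.theta l) (φ : ↥(AJ d b)) :
    P.theta (P.resHom hA φ k) = P.theta (P.resHom hA φ l) := by
  have h1 := P.res_invariant hA φ (k := k⁻¹ * l) (by rw [map_mul, map_inv, h, inv_mul_cancel])
  rwa [map_mul, map_inv, map_mul, map_inv, inv_mul_eq_one] at h1

/-- The action on the residual group. -/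
noncomputable def ract (φ : ↥(AJ d b)) : MulAut (Cfsg.PSU 4 F 2) where
  toFun x := P.theta (P.resHom hA φ (Function.surjInv P.theta_surjective x))
  invFun x := P.theta (P.resHom hA φ⁻¹ (Function.surjInv P.theta_surjective x))
  left_inv x := by
    refine (P.res_congr hA (Function.surjInv_eq P.theta_surjective _) φ⁻¹).trans ?_
    rw [← resHom_mul, inv_mul_cancel, resHom_one]
    exact Function.surjInv_eq P.theta_surjective x
  right_inv x := by
    refine (P.res_congr hA (Function.surjInv_eq P.theta_surjective _) φ).trans ?_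
    rw [← resHom_mul, mul_inv_cancel, resHom_one]
    exact Function.surjInv_eq P.theta_surjective x
  map_mul' x y := by
    rw [← map_mul, ← map_mul]
    refine P.res_congr hA ?_ φ
    rw [map_mul, Function.surjInv_eq P.theta_surjective, Function.surjInv_eq P.theta_surjective,
      Function.surjInv_eq P.theta_surjective]

theorem ract_theta (φ : ↥(AJ d b)) (k : ↥(Subgroup.centralizer ({d, b} : Set G))) :
    P.ract hA φ (P.theta k) = P.theta (P.resHom hA φ k) :=
  P.res_congr hA (Function.surjInv_eq P.theta_surjective _) φ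

/-- The action as a homomorphism. -/
noncomputable def ractHom : ↥(AJ d b) →* MulAut (Cfsg.PSU 4 F 2) :=
  MonoidHom.mk' (P.ract hA) fun φ ψ => MulEquiv.ext fun x => by
    obtain ⟨k, rfl⟩ := P.theta_surjective x
    rw [MulAut.mul_apply, ract_theta, ract_theta, ract_theta, resHom_mul]

/-- The kernel. -/
noncomputable def QJ : Subgroup (MulAut G) := (P.ractHom hA).ker.map (AJ d b).subtype

theorem mem_QJ {φ : MulAut G} : φ ∈ P.QJ hA ↔ ∃ hφ : φ ∈ AJ d b,
    ∀ k : ↥(Subgroup.centralizer ({d, b} : Set G)), P.theta ⟨φ k, P.apair hA hφ k.2⟩ = P.theta k := by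
  constructor
  · rintro ⟨ψ, hψ, rfl⟩
    refine ⟨ψ.2, fun k => ?_⟩
    have := DFunLike.congr_fun (MonoidHom.mem_ker.1 hψ) (P.theta k)
    rwa [show P.ractHom hA ψ (P.theta k) = P.ract hA ψ (P.theta k) from rfl, ract_theta] at this
  · rintro ⟨hφ, h⟩
    refine ⟨⟨φ, hφ⟩, MonoidHom.mem_ker.2 (MulEquiv.ext fun x => ?_), rfl⟩
    obtain ⟨k, rfl⟩ := P.theta_surjective x
    exact (P.ract_theta hA ⟨φ, hφ⟩ k).trans (h k)

theorem QJ_le : P.QJ hA ≤ AJ d b := Subgroup.map_subtype_le _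

theorem conj_AJ_iff {c : G} : MulAut.conj c ∈ AJ d b ↔ c ∈ Subgroup.centralizer ({d * b} : Set G) := by
  rw [P.mem_AJ hA, Subgroup.mem_centralizer_singleton_iff, MulAut.conj_apply, mul_inv_eq_iff_eq_mul]

theorem ract_conj (c : ↥(Subgroup.centralizer ({d * b} : Set G))) :
    P.ractHom hA ⟨MulAut.conj (c : G), (P.conj_AJ_iff hA).2 c.2⟩ = P.actHom c := by
  refine MulEquiv.ext fun x => ?_
  obtain ⟨k, rfl⟩ := P.theta_surjective x
  show P.ract hA _ (P.theta k) = P.act c (P.theta k)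
  rw [ract_theta, act_theta]
  exact congrArg P.theta (Subtype.ext rfl)

theorem ractHom_surjective : Function.Surjective (P.ractHom hA) := fun x => by
  obtain ⟨c, rfl⟩ := P.actHom_surjective x
  exact ⟨_, P.ract_conj hA c⟩

theorem conj_mem_QJ_iff {c : G} : MulAut.conj c ∈ P.QJ hA ↔ c ∈ P.E := by
  constructor
  · rintro ⟨ψ, hψ, e⟩
    have hc : c ∈ Subgroup.centralizer ({d * b} : Set G) := (P.conj_AJ_iff hA).1 (e ▸ ψ.2)
    refine P.mem_E_of_act (c := ⟨c, hc⟩) ?_
    rw [← P.ract_conj hA, ← MonoidHom.mem_ker.1 hψ]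
    exact congrArg _ (Subtype.ext e.symm)
  · intro h
    refine ⟨⟨_, (P.conj_AJ_iff hA).2 (P.E_le h)⟩, MonoidHom.mem_ker.2 ?_, rfl⟩
    rw [P.ract_conj hA ⟨c, P.E_le h⟩, ← MonoidHom.mem_ker, P.actHom_ker]
    exact h

theorem exists_outer : ∃ φ ∈ AJ d b, φ ∉ Cfsg.Inn G := by
  obtain ⟨σ, hσ⟩ : ∃ σ, σ ∉ Cfsg.Inn G := by
    by_contra h
    push Not at h
    have := hA.idx
    rw [show Cfsg.Inn G = ⊤ from eq_top_iff.2 fun x _ => h x, Subgroup.index_top] at this
    norm_num at this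
  have hD := P.C.trans
  obtain ⟨g, hg⟩ := hD.trans (σ d) (hA.pres σ d P.C.mem) d P.C.mem
  obtain ⟨σ₁, hσ₁⟩ : ∃ σ₁, σ₁ = MulAut.conj g * σ := ⟨_, rfl⟩
  have hd1 : σ₁ d = d := by rw [hσ₁, MulAut.mul_apply, MulAut.conj_apply, hg]
  have hb1 : σ₁ b ∈ perp D d := P.C.aut_perp hd1 (hA.pres σ₁) P.hb
  obtain ⟨k, hk, ek⟩ := perp_transitive P.C.fis P.C.mem hb1 P.hb
  have hkd : k * d * k⁻¹ = d := by
    rw [(commute_of_mem_closure P.C.fis P.C.mem (Subgroup.closure_mono (Set.subset_insert _ _) hk)).eq,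
      mul_inv_cancel_right]
  refine ⟨MulAut.conj k * σ₁, (P.mem_AJ hA).2 ?_, fun h => hσ ?_⟩
  · rw [map_mul, MulAut.mul_apply, MulAut.mul_apply, hd1, MulAut.conj_apply, MulAut.conj_apply, hkd, ek]
  · have h2 := mul_mem (inv_mem (⟨g, rfl⟩ : MulAut.conj g ∈ Cfsg.Inn G))
      (mul_mem (inv_mem (⟨k, rfl⟩ : MulAut.conj k ∈ Cfsg.Inn G)) h)
    rwa [inv_mul_cancel_left, hσ₁, inv_mul_cancel_left] at h2

theorem card_AJ : Nat.card ↥(AJ d b) = 2 * Nat.card ↥(Subgroup.centralizer ({d * b} : Set G)) := by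
  obtain ⟨s, hs, hs'⟩ := P.exists_outer hA
  have hidx : ((Cfsg.Inn G).subgroupOf (AJ d b)).index = 2 := by
    refine Subgroup.index_eq_two_iff.2 ⟨⟨s, hs⟩, fun φ => ?_⟩
    simp only [Subgroup.mem_subgroupOf, Subgroup.coe_mul]
    rw [Subgroup.mul_mem_iff_of_index_two hA.idx]
    by_cases h : (φ : MulAut G) ∈ Cfsg.Inn G
    · exact Or.inr ⟨h, fun e => hs' (e.1 h)⟩
    · exact Or.inl ⟨iff_of_false h hs', h⟩
  have hmap : (Cfsg.Inn G).subgroupOf (AJ d b) =
      ((Subgroup.centralizer ({d * b} : Set G)).map (MulAut.conj : G →* MulAut G)).subgroupOf (AJ d b) := by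
    ext φ
    simp only [Subgroup.mem_subgroupOf]
    refine ⟨?_, fun ⟨c, _, e⟩ => ⟨c, e⟩⟩
    rintro ⟨c, e⟩
    exact ⟨c, (P.conj_AJ_iff hA).1 (e ▸ φ.2), e⟩
  rw [← Subgroup.card_mul_index ((Cfsg.Inn G).subgroupOf (AJ d b)), hidx, hmap, mul_comm]
  have hle : (Subgroup.centralizer ({d * b} : Set G)).map (MulAut.conj : G →* MulAut G) ≤ AJ d b := by
    rintro _ ⟨c, hc, rfl⟩
    exact (P.conj_AJ_iff hA).2 hc
  rw [Nat.card_congr (Subgroup.subgroupOfEquivOfLe hle).toEquiv,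
    Subgroup.card_map_of_injective fun _ _ h => P.conj_inj hA h]

theorem card_QJ : Nat.card ↥(P.QJ hA) = 2 ^ 11 := by
  have h2 : Nat.card ↥(Subgroup.centralizer ({d * b} : Set G)) = 51840 * 1024 := by
    rw [Subgroup.card_eq_card_quotient_mul_card_subgroup P.actHom.ker,
      Nat.card_congr (QuotientGroup.quotientKerEquivOfSurjective _ P.actHom_surjective).toEquiv,
      card_aut (hF := hF) P, P.actHom_ker, Nat.card_congr (Subgroup.subgroupOfEquivOfLe P.E_le).toEquiv, P.card_E]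
    norm_num
  have h := Subgroup.card_eq_card_quotient_mul_card_subgroup (P.ractHom hA).ker
  rw [P.card_AJ hA, h2, Nat.card_congr (QuotientGroup.quotientKerEquivOfSurjective _ (P.ractHom_surjective hA)).toEquiv,
    card_aut (hF := hF) P] at h
  rw [QJ, Subgroup.card_map_of_injective (Subgroup.subtype_injective _)]
  omega

/-- An outer element of the kernel exchanges the pair. -/
theorem outer_swap {φ : MulAut G} (hφ : φ ∈ P.QJ hA) (ho : φ ∉ Cfsg.Inn G) : φ d = b ∧ φ b = d := by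
  obtain ⟨hj, h⟩ := (P.mem_QJ hA).1 hφ
  refine (P.aperm hA hj).resolve_left fun ⟨e1, e2⟩ => ho (P.inner_of_fix e1 (hA.pres φ) fun x hx hxb => ?_)
  have h1 := P.C.aut_perp e1 (hA.pres φ) hx
  have h2 : φ x ∈ perp D b :=
    ⟨h1.1, fun e => hxb.2.1 (φ.injective (e.trans e2.symm)), e2 ▸ hxb.2.2.map φ.toMonoidHom⟩
  exact ⟨h1, h2, h ⟨x, P.common_mem hx hxb⟩⟩

theorem sq_inner (φ : MulAut G) : φ * φ ∈ Cfsg.Inn G :=
  (Subgroup.mul_mem_iff_of_index_two hA.idx).2 Iff.rfl

theorem commutator_inJ {e k : G} (he : e ∈ P.E) (hk : k ∈ P.E) : InJ d b (e * k * e⁻¹ * k⁻¹) := by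
  obtain ⟨h1, h2⟩ := P.mem_E.1 he
  obtain ⟨h3, h4⟩ := P.mem_E.1 hk
  exact (P.kernel_inJ h4).2 ⟨e, h1⟩ h2

/-- A kernel element moves the products inside the base four by `1` or `db`. -/
theorem delta_base (X : P.Fibre) {φ : MulAut G} (hφ : φ ∈ P.QJ hA) (t s : F) :
    InJ d b (φ (X.x t * X.x s) * (X.x t * X.x s)⁻¹) := by
  obtain ⟨hj, h⟩ := (P.mem_QJ hA).1 hφ
  have himg : ∀ u, φ (X.x u) ∈ perp D d ∧ φ (X.x u) ∈ perp D b := by
    intro u
    obtain ⟨p1, p2⟩ := mem_pair_centralizer.1 (P.apair hA hj (X.mem_pair u))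
    refine ⟨⟨hA.pres φ _ (X.perp_d u).1, fun e => ?_, p1.symm⟩, ⟨hA.pres φ _ (X.perp_d u).1, fun e => ?_, p2.symm⟩⟩ <;>
      rcases P.aperm hA hj with ⟨e1, e2⟩ | ⟨e1, e2⟩
    · exact (X.perp_d u).2.1 (φ.injective (e.trans e1.symm))
    · exact (X.perp_b u).2.1 (φ.injective (e.trans e2.symm))
    · exact (X.perp_b u).2.1 (φ.injective (e.trans e2.symm))
    · exact (X.perp_d u).2.1 (φ.injective (e.trans e1.symm))
  have hπ : ∀ u, ∃ v, φ (X.x u) = X.x v := fun u =>
    X.exists_index (himg u).1 (himg u).2 (s := u) (h ⟨X.x u, X.mem_pair u⟩).symm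
  choose π hπ using hπ
  -- the square translates
  obtain ⟨c, hc⟩ := P.sq_inner hA φ
  have hcE : c ∈ P.E := (P.conj_mem_QJ_iff hA).1 (hc ▸ mul_mem hφ hφ)
  obtain ⟨hcK, hc1⟩ := P.mem_E.1 hcE
  obtain ⟨a, ha⟩ := X.translate (e := ⟨c, hcK⟩) hc1
  have hsq : ∀ u, π (π u) = u + a := fun u => X.inj (by
    rw [← hπ, ← hπ, ← MulAut.mul_apply, ← hc, MulAut.conj_apply]
    exact ha u)
  -- scaling
  obtain ⟨k₀, ν, hν0, hν1, hk₀⟩ := X.scale
  obtain ⟨l, hl⟩ : ∃ l, l = k₀⁻¹ * (⟨φ k₀, P.apair hA hj k₀.2⟩ : ↥(Subgroup.centralizer ({d, b} : Set G))) :=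
    ⟨_, rfl⟩
  have hl1 : P.theta l = 1 := by rw [hl, map_mul, map_inv, h k₀, inv_mul_cancel]
  obtain ⟨a', ha'⟩ := X.translate hl1
  have hsc : ∀ u, π (ν * u) = ν * (π u + a') := fun u => X.inj (by
    rw [← hπ, ← hk₀ u, map_mul, map_mul, map_inv, hπ, ← hk₀ (π u + a'), ← ha' (π u)]
    rw [show φ (k₀ : G) = (k₀ : G) * l by rw [hl]; simp]
    group)
  obtain ⟨g, hg⟩ : ∃ g : F → F, ∀ u, g u = π u - π 0 := ⟨_, fun _ => rfl⟩
  have hgν : ∀ u, g (ν * u) = ν * g u := fun u => by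
    have h0 := hsc 0
    rw [mul_zero] at h0
    rw [hg, hg, hsc]
    linear_combination -h0
  have h3 := (fourField hF).cube ν hν0
  have hsum : 1 + ν + ν * ν = 0 :=
    (mul_eq_zero.1 (show (ν - 1) * (1 + ν + ν * ν) = 0 by linear_combination h3)).resolve_left (sub_ne_zero.2 hν1)
  have hlin : ∀ u, g u = g 1 * u := by
    intro u
    rcases eq_or_ne u 0 with rfl | hu
    · rw [hg, sub_self, mul_zero]
    have := (fourField hF).cube u hu
    have hp : (u - 1) * ((u - ν) * (u - ν * ν)) = 0 := by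
      linear_combination this + (-(u * u) + u * ν) * hsum - h3
    rcases mul_eq_zero.1 hp with e | e
    · rw [sub_eq_zero.1 e, mul_one]
    rcases mul_eq_zero.1 e with e | e <;> rw [sub_eq_zero.1 e]
    · have e2 := hgν 1
      rw [mul_one] at e2
      rw [e2]; ring
    · have e2 := hgν 1
      rw [mul_one] at e2
      rw [hgν, e2]; ring
  have hπl : ∀ u, π u = g 1 * u + π 0 := fun u => by rw [← hlin, hg]; ring
  have hone : g 1 = 1 := by
    have q0 := hsq 0
    have q1 := hsq 1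
    rw [hπl (π 0)] at q0
    rw [hπl (π 1), hπl 1] at q1
    have e : (g 1 - 1) * (g 1 - 1) = 0 := by linear_combination q1 - q0 + (1 - g 1) * (fourField hF).two
    exact sub_eq_zero.1 (mul_self_eq_zero.1 e)
  rw [map_mul, hπ, hπ, hπl t, hπl s, hone, one_mul, one_mul]
  exact X.pair_shift t s (π 0)

/-- A kernel element moves every element of the inner kernel by `1` or `db`. -/
theorem delta {φ : MulAut G} (hφ : φ ∈ P.QJ hA) {e : G} (he : e ∈ P.E) : InJ d b (φ e * e⁻¹) := by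
  obtain ⟨hj, h⟩ := (P.mem_QJ hA).1 hφ
  obtain ⟨X⟩ := P.exists_fibre
  have hD := P.C.trans
  have hdd := mul_self hD P.C.mem
  have hbb := mul_self hD P.hb.1
  obtain ⟨heK, he1⟩ := P.mem_E.1 he
  suffices hs : ∀ k : ↥(Subgroup.centralizer ({d, b} : Set G)), k ∈ Subgroup.closure P.gens →
      InJ d b (φ (k : G) * (k : G)⁻¹) from hs ⟨e, heK⟩ (P.mem_closure_gens he1)
  intro k hk
  induction hk using Subgroup.closure_induction with
  | mem z hz =>
    rcases hz with e | e | ⟨x, x', hx, hxb, hx', hxb', hth, e⟩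
    · rw [e, inv_eq hD P.C.mem]
      rcases P.aperm hA hj with ⟨e1, -⟩ | ⟨e1, -⟩ <;> rw [e1]
      exacts [Or.inl hdd, Or.inr P.commute_db.eq.symm]
    · rw [e, inv_eq hD P.hb.1]
      rcases P.aperm hA hj with ⟨-, e1⟩ | ⟨-, e1⟩ <;> rw [e1]
      exacts [Or.inl hbb, Or.inr rfl]
    · rw [e]
      obtain ⟨g, gd, gb, gx⟩ := common_transitive P.C.fis P.C.nbr P.C.mem P.hb (X.perp_d 0) (X.perp_b 0) hx hxb
      obtain ⟨k', hk'⟩ : ∃ k' : ↥(Subgroup.centralizer ({d, b} : Set G)), (k' : G) = g :=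
        ⟨⟨g, P.mem_pair_iff.2 ⟨gd, gb⟩⟩, rfl⟩
      obtain ⟨kd, kb⟩ := mem_pair_centralizer.1 (inv_mem k'.2)
      have hy1 := P.C.conj_mem kd hx'
      have hy2 : (k' : G)⁻¹ * x' * (k' : G)⁻¹⁻¹ ∈ perp D b := by
        have h := (mem_perp_conj hD (k' : G)⁻¹ b _).2 (show (k' : G)⁻¹⁻¹ * ((k' : G)⁻¹ * x' * (k' : G)⁻¹⁻¹) *
          (k' : G)⁻¹ ∈ perp D b by simpa [mul_assoc] using hxb')
        rwa [kb.eq, mul_inv_cancel_right] at h
      obtain ⟨s, hs⟩ := X.exists_index hy1 hy2 (s := 0) (by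
        have e0 : (⟨X.x 0, X.mem_pair 0⟩ : ↥(Subgroup.centralizer ({d, b} : Set G))) =
            k'⁻¹ * ⟨x, P.common_mem hx hxb⟩ * k' := Subtype.ext (by
          simp only [Subgroup.coe_mul, Subgroup.coe_inv]
          rw [← gx, hk']; group)
        have e1 : (⟨_, P.common_mem hy1 hy2⟩ : ↥(Subgroup.centralizer ({d, b} : Set G))) =
            k'⁻¹ * ⟨x', P.common_mem hx' hxb'⟩ * k' := Subtype.ext (by
          simp only [Subgroup.coe_mul, Subgroup.coe_inv]; rw [inv_inv])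
        rw [e0, e1, map_mul, map_mul, map_mul, map_mul, hth])
      obtain ⟨p, hp⟩ : ∃ p, p = X.x 0 * X.x s := ⟨_, rfl⟩
      have hxx : x * x' = (k' : G) * p * (k' : G)⁻¹ := by
        rw [hp, ← hs, ← gx, hk']; group
      have hpE : p ∈ P.E := P.mem_E.2 ⟨hp ▸ mul_mem (X.mem_pair 0) (X.mem_pair s), by
        rw [show (⟨p, _⟩ : ↥(Subgroup.centralizer ({d, b} : Set G))) =
          ⟨X.x 0, X.mem_pair 0⟩ * ⟨X.x s, X.mem_pair s⟩ from Subtype.ext hp, map_mul, ← X.theta_eq 0 s, ← map_mul,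
          show (⟨X.x 0, X.mem_pair 0⟩ : ↥(Subgroup.centralizer ({d, b} : Set G))) * ⟨X.x 0, X.mem_pair 0⟩ = 1 from
            Subtype.ext (mul_self hD (X.perp_d 0).1), map_one]⟩
      obtain ⟨u, hu⟩ : ∃ u, u = φ p * p⁻¹ := ⟨_, rfl⟩
      have huJ : InJ d b u := by rw [hu, hp]; exact P.delta_base hA X hφ 0 s
      obtain ⟨m, hm⟩ : ∃ m : ↥(Subgroup.centralizer ({d, b} : Set G)), m = k'⁻¹ * ⟨φ k', P.apair hA hj k'.2⟩ :=
        ⟨_, rfl⟩
      have hmE : (m : G) ∈ P.E := P.mem_E.2 ⟨m.2, by rw [hm, map_mul, map_inv, h k', inv_mul_cancel]⟩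
      obtain ⟨v, hv⟩ : ∃ v, v = (m : G) * p * (m : G)⁻¹ * p⁻¹ := ⟨_, rfl⟩
      have hvJ : InJ d b v := hv ▸ P.commutator_inJ hA hmE hpE
      have huv := P.mem_inJ huJ hvJ
      have e3 : φ (x * x') * (x * x')⁻¹ = (k' : G) * (u * v) * (k' : G)⁻¹ := by
        rw [hxx, map_mul, map_mul, map_inv, show φ (k' : G) = (k' : G) * m by rw [hm]; simp,
          show φ p = u * p by rw [hu, inv_mul_cancel_right],
          show u * v = (m : G) * (u * p) * (m : G)⁻¹ * p⁻¹ by
            rw [hv, ← mul_assoc (m : G) u p, (P.commute_inJ huJ m.2).eq]; group]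
        group
      rw [e3, (P.commute_inJ huv k'.2).eq, mul_inv_cancel_right]
      exact huv
  | one => exact Or.inl (by simp)
  | mul y z _ _ hy hz =>
    rw [Subgroup.coe_mul, map_mul, _root_.mul_inv_rev,
      show φ (y : G) * φ (z : G) * ((z : G)⁻¹ * (y : G)⁻¹) = (φ (y : G) * (y : G)⁻¹) *
        ((y : G) * (φ (z : G) * (z : G)⁻¹) * (y : G)⁻¹) by group,
      (P.commute_inJ hz y.2).eq, mul_inv_cancel_right]
    exact P.mem_inJ hy hz
  | inv y _ hy =>
    rw [Subgroup.coe_inv, map_inv, inv_inv,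
      show (φ (y : G))⁻¹ * (y : G) = (y : G)⁻¹ * (φ (y : G) * (y : G)⁻¹)⁻¹ * (y : G) by group,
      (P.commute_inJ (P.inv_inJ hy) (inv_mem y.2)).eq, inv_mul_cancel_right]
    exact P.inv_inJ hy

end Base

end Cfsg.Lib.Fischer.Relations.TwoPair
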