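import Cfsg.Agent.Lib.Fischer.Relations.TwoPair.Fours
import Cfsg.Agent.S0280
import Cfsg.Agent.S0815

/-!
# The centralizer of a product of two commuting members in type M(22)

It preserves the pair, and acts on the residual space as all automorphisms of `PSU(4, 2)`.
-/

set_option autoImplicit false
set_option linter.unusedSectionVars false

namespace Cfsg.Lib.Fischer.Relations.TwoPair

open Module Matrix Cfsg Cfsg.Lib.Fischer Cfsg.Lib.Linear.Herm Cfsg.Agent.S1631 Cfsg.Lib.Fischer.RadicalAbelian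
open Cfsg.Lib.Linear

variable {G : Type*} [Group G] [Finite G] {D : Set G}
  {F : Type} [Field F] [Fintype F] {hF : Fintype.card F = 2 ^ 2} {d b : G}

theorem card_psu_four (hF : Fintype.card F = 2 ^ 2) : Nat.card (Cfsg.PSU 4 F 2) = 25920 := by
  have h := Cfsg.Agent.S0280.result (q := 2) hF 4 (by norm_num)
  simp [Finset.prod_range_succ, Nat.even_iff, show Nat.gcd 4 3 = 1 from rfl] at h
  omega

/-- Normal 2-subgroups of `PSU(4, 2)` are trivial. -/
theorem psu_four_two_bot (hF : Fintype.card F = 2 ^ 2) (N : Subgroup (Cfsg.PSU 4 F 2)) [N.Normal]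
    (hN : IsPGroup 2 N) : N = ⊥ := by
  haveI := Cfsg.Lib.Linear.Herm.psu_simple hF (n := 4) le_rfl
  refine ((show N.Normal from inferInstance).eq_bot_or_eq_top).resolve_right fun e => ?_
  haveI : Fact (Nat.Prime 2) := ⟨Nat.prime_two⟩
  obtain ⟨n, hn⟩ := IsPGroup.iff_card.1 hN
  rw [e, Subgroup.card_top, card_psu_four hF] at hn
  have h3 : 3 ∣ 2 ^ n := hn ▸ (by norm_num)
  have := Nat.le_of_dvd (by norm_num) ((Nat.prime_three).dvd_of_dvd_pow h3)
  omega

namespace Base

variable (P : Base D d b hF)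
include P

theorem noRel : NoRel D 5 :=
  noRel_five P.C.trans (fourField hF) (hB_isSymm hF 6) (hB_nondegenerate hF 6)
    (by rw [finrank_fin_fun]; norm_num) P.C.mem P.C.U ⟨d, P.C.mem, b, P.hb.1, P.hb.2.1.symm⟩

theorem pair_le : Subgroup.centralizer ({d, b} : Set G) ≤ Subgroup.centralizer ({d * b} : Set G) := fun x hx => by
  rw [Subgroup.mem_centralizer_singleton_iff]
  exact ((mem_pair_centralizer.1 hx).1.mul_right (mem_pair_centralizer.1 hx).2).eq

theorem perm {x : G} (hx : x ∈ Subgroup.centralizer ({d * b} : Set G)) :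
    (x * d * x⁻¹ = d ∧ x * b * x⁻¹ = b) ∨ (x * d * x⁻¹ = b ∧ x * b * x⁻¹ = d) := by
  have hD := P.C.trans
  have hne : d ≠ b := P.hb.2.1.symm
  have hc := P.commute_db
  rw [Subgroup.mem_centralizer_singleton_iff] at hx
  have hne' : x * d * x⁻¹ ≠ x * b * x⁻¹ := fun e => hne ((MulAut.conj x).injective e)
  have hc' : Commute (x * d * x⁻¹) (x * b * x⁻¹) := (Commute.conj_iff x).2 hc
  have hiff := mem_iff_of_prod_eq hD P.noRel (l := [x * d * x⁻¹, x * b * x⁻¹]) (l' := [d, b])
    (by simp [hne']) (by simp [hne]) (by simp [hD.conj x d P.C.mem, hD.conj x b P.hb.1]) (by simp [P.C.mem, P.hb.1])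
    (by simp [hc', hc'.symm]) (by simp [hc, hc.symm]) (by simp) (by simp) (by
      simp only [List.prod_cons, List.prod_nil, mul_one]
      calc x * d * x⁻¹ * (x * b * x⁻¹) = x * (d * b) * x⁻¹ := by group
        _ = d * b := by rw [hx, mul_inv_cancel_right])
  have a1 := (hiff _).1 (List.mem_cons_self ..)
  have a2 := (hiff _).1 (List.mem_cons_of_mem _ (List.mem_cons_self ..))
  simp only [List.mem_cons, List.not_mem_nil, or_false] at a1 a2
  rcases a1 with a1 | a1 <;> rcases a2 with a2 | a2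
  · exact absurd (a1.trans a2.symm) hne'
  · exact Or.inl ⟨a1, a2⟩
  · exact Or.inr ⟨a1, a2⟩
  · exact absurd (a1.trans a2.symm) hne'

theorem mem_pair_iff {x : G} :
    x ∈ Subgroup.centralizer ({d, b} : Set G) ↔ x * d * x⁻¹ = d ∧ x * b * x⁻¹ = b := by
  rw [mem_pair_centralizer, mul_inv_eq_iff_eq_mul, mul_inv_eq_iff_eq_mul]
  rfl

theorem index_pair :
    ((Subgroup.centralizer ({d, b} : Set G)).subgroupOf (Subgroup.centralizer ({d * b} : Set G))).index = 2 := by
  have hd : b ∈ D := P.hb.1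
  have hd' : d ∈ perp D b := ⟨P.C.mem, P.hb.2.1.symm, P.commute_db.symm⟩
  obtain ⟨g, hg⟩ := P.C.trans.trans d P.C.mem b hd
  have h1 : g * b * g⁻¹ ∈ perp D b := by
    rw [← hg, mem_perp_conj P.C.trans g d]
    simpa [mul_assoc, hg] using P.hb
  obtain ⟨k, hk, ek⟩ := perp_transitive P.C.fis hd h1 hd'
  have hkb : k * b * k⁻¹ = b := by
    rw [(commute_of_mem_closure P.C.fis hd (Subgroup.closure_mono (Set.subset_insert _ _) hk)).eq, mul_inv_cancel_right]
  obtain ⟨s, s1, s2⟩ : ∃ s : G, s * d * s⁻¹ = b ∧ s * b * s⁻¹ = d :=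
    ⟨k * g, by rw [show k * g * d * (k * g)⁻¹ = k * (g * d * g⁻¹) * k⁻¹ by group, hg, hkb],
      by rw [show k * g * b * (k * g)⁻¹ = k * (g * b * g⁻¹) * k⁻¹ by group, ek]⟩
  have hsC : s ∈ Subgroup.centralizer ({d * b} : Set G) := by
    rw [Subgroup.mem_centralizer_singleton_iff, ← mul_inv_eq_iff_eq_mul,
      show s * (d * b) * s⁻¹ = s * d * s⁻¹ * (s * b * s⁻¹) by group, s1, s2, P.commute_db.eq]
  refine Subgroup.index_eq_two_iff.2 ⟨⟨s, hsC⟩, fun y => ?_⟩
  simp only [Subgroup.mem_subgroupOf, Subgroup.coe_mul, P.mem_pair_iff]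
  have e : ∀ u, (y : G) * s * u * ((y : G) * s)⁻¹ = y * (s * u * s⁻¹) * (y : G)⁻¹ := fun u => by group
  rw [e, e, s1, s2]
  have hne : d ≠ b := P.hb.2.1.symm
  rcases P.perm y.2 with ⟨y1, y2⟩ | ⟨y1, y2⟩ <;> rw [y1, y2]
  · exact Or.inr ⟨⟨rfl, rfl⟩, fun h => hne h.1.symm⟩
  · exact Or.inl ⟨⟨rfl, rfl⟩, fun h => hne h.1.symm⟩

theorem conj_pair {c k : G} (hc : c ∈ Subgroup.centralizer ({d * b} : Set G))
    (hk : k ∈ Subgroup.centralizer ({d, b} : Set G)) :
    c * k * c⁻¹ ∈ Subgroup.centralizer ({d, b} : Set G) := by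
  obtain ⟨k1, k2⟩ := mem_pair_centralizer.1 hk
  have h1 := (Commute.conj_iff c).2 k1
  have h2 := (Commute.conj_iff c).2 k2
  rcases P.perm hc with ⟨e1, e2⟩ | ⟨e1, e2⟩ <;> rw [e1] at h1 <;> rw [e2] at h2
  · exact mem_pair_centralizer.2 ⟨h1, h2⟩
  · exact mem_pair_centralizer.2 ⟨h2, h1⟩

/-- Conjugation on the centralizer of the pair. -/
def conjHom (c : ↥(Subgroup.centralizer ({d * b} : Set G))) :
    ↥(Subgroup.centralizer ({d, b} : Set G)) →* ↥(Subgroup.centralizer ({d, b} : Set G)) :=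
  ((MulAut.conj (c : G)).toMonoidHom.comp (Subgroup.centralizer ({d, b} : Set G)).subtype).codRestrict _
    fun k => P.conj_pair c.2 k.2

theorem conjHom_coe (c : ↥(Subgroup.centralizer ({d * b} : Set G)))
    (k : ↥(Subgroup.centralizer ({d, b} : Set G))) : (P.conjHom c k : G) = c * k * (c : G)⁻¹ := rfl

theorem conjHom_mul (c c' : ↥(Subgroup.centralizer ({d * b} : Set G)))
    (k : ↥(Subgroup.centralizer ({d, b} : Set G))) : P.conjHom (c * c') k = P.conjHom c (P.conjHom c' k) :=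
  Subtype.ext (by simp only [conjHom_coe, Subgroup.coe_mul]; group)

theorem conjHom_surjective (c : ↥(Subgroup.centralizer ({d * b} : Set G))) : Function.Surjective (P.conjHom c) :=
  fun k => ⟨P.conjHom c⁻¹ k, Subtype.ext (by simp only [conjHom_coe, Subgroup.coe_inv]; group)⟩

theorem kernel_invariant (c : ↥(Subgroup.centralizer ({d * b} : Set G)))
    {k : ↥(Subgroup.centralizer ({d, b} : Set G))} (hk : P.theta k = 1) : P.theta (P.conjHom c k) = 1 := by
  haveI : (P.theta.ker.map (P.theta.comp (P.conjHom c))).Normal :=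
    Subgroup.Normal.map inferInstance _ (P.theta_surjective.comp (P.conjHom_surjective c))
  have hN := psu_four_two_bot hF (P.theta.ker.map (P.theta.comp (P.conjHom c)))
    ((IsPGroup.of_card P.card_kernel).map _)
  rw [Subgroup.eq_bot_iff_forall] at hN
  exact hN _ ⟨k, hk, rfl⟩

theorem theta_congr {k l : ↥(Subgroup.centralizer ({d, b} : Set G))} (h : P.theta k = P.theta l)
    (c : ↥(Subgroup.centralizer ({d * b} : Set G))) : P.theta (P.conjHom c k) = P.theta (P.conjHom c l) := by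
  have h1 := P.kernel_invariant c (k := k⁻¹ * l) (by rw [map_mul, map_inv, h, inv_mul_cancel])
  rwa [map_mul, map_inv, map_mul, map_inv, inv_mul_eq_one] at h1

/-- The action on the residual group. -/
noncomputable def act (c : ↥(Subgroup.centralizer ({d * b} : Set G))) : MulAut (Cfsg.PSU 4 F 2) where
  toFun x := P.theta (P.conjHom c (Function.surjInv P.theta_surjective x))
  invFun x := P.theta (P.conjHom c⁻¹ (Function.surjInv P.theta_surjective x))
  left_inv x := by
    refine (P.theta_congr (Function.surjInv_eq P.theta_surjective _) c⁻¹).trans ?_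
    rw [← conjHom_mul, inv_mul_cancel,
      show ∀ k, P.conjHom 1 k = k from fun k => Subtype.ext (by simp [conjHom_coe])]
    exact Function.surjInv_eq P.theta_surjective x
  right_inv x := by
    refine (P.theta_congr (Function.surjInv_eq P.theta_surjective _) c).trans ?_
    rw [← conjHom_mul, mul_inv_cancel,
      show ∀ k, P.conjHom 1 k = k from fun k => Subtype.ext (by simp [conjHom_coe])]
    exact Function.surjInv_eq P.theta_surjective x
  map_mul' x y := by
    rw [← map_mul, ← map_mul]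
    refine P.theta_congr ?_ c
    rw [map_mul, Function.surjInv_eq P.theta_surjective, Function.surjInv_eq P.theta_surjective,
      Function.surjInv_eq P.theta_surjective]

theorem act_theta (c : ↥(Subgroup.centralizer ({d * b} : Set G)))
    (k : ↥(Subgroup.centralizer ({d, b} : Set G))) : P.act c (P.theta k) = P.theta (P.conjHom c k) :=
  P.theta_congr (Function.surjInv_eq P.theta_surjective _) c

/-- The action as a homomorphism. -/
noncomputable def actHom : ↥(Subgroup.centralizer ({d * b} : Set G)) →* MulAut (Cfsg.PSU 4 F 2) :=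
  MonoidHom.mk' P.act fun c c' => MulEquiv.ext fun x => by
    obtain ⟨k, rfl⟩ := P.theta_surjective x
    rw [MulAut.mul_apply, act_theta, act_theta, act_theta, conjHom_mul]

/-- The kernel of the residual action. -/
noncomputable def E : Subgroup G := P.theta.ker.map (Subgroup.centralizer ({d, b} : Set G)).subtype

theorem mem_E {x : G} : x ∈ P.E ↔ ∃ hx : x ∈ Subgroup.centralizer ({d, b} : Set G), P.theta ⟨x, hx⟩ = 1 :=
  ⟨fun ⟨k, hk, e⟩ => e ▸ ⟨k.2, hk⟩, fun ⟨hx, h⟩ => ⟨⟨x, hx⟩, h, rfl⟩⟩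

theorem E_le : P.E ≤ Subgroup.centralizer ({d * b} : Set G) := fun x hx => by
  obtain ⟨h, -⟩ := P.mem_E.1 hx
  exact P.pair_le h

theorem card_E : Nat.card P.E = 2 ^ 10 := by
  rw [E, ← P.card_kernel]
  exact (Nat.card_congr (P.theta.ker.equivMapOfInjective _ (Subgroup.subtype_injective _)).toEquiv).symm

theorem E_conj {c x : G} (hc : c ∈ Subgroup.centralizer ({d * b} : Set G)) (hx : x ∈ P.E) : c * x * c⁻¹ ∈ P.E := by
  obtain ⟨h, h'⟩ := P.mem_E.1 hx
  obtain ⟨k, hk⟩ : ∃ k, k = P.conjHom ⟨c, hc⟩ ⟨x, h⟩ := ⟨_, rfl⟩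
  have hk1 : P.theta k = 1 := by rw [hk]; exact P.kernel_invariant ⟨c, hc⟩ h'
  have hkx : (k : G) = c * x * c⁻¹ := by rw [hk, conjHom_coe]
  rw [← hkx]
  exact P.mem_E.2 ⟨k.2, hk1⟩

theorem E_pair : InV d b d ∧ d ∈ P.E ∧ b ∈ P.E := by
  refine ⟨Or.inr (Or.inl rfl), P.mem_E.2 ⟨P.d_mem, ?_⟩, P.mem_E.2 ⟨P.b_mem, ?_⟩⟩
  · rw [theta, MonoidHom.comp_apply, (P.lift_eq_one_iff _).2 (Or.inr rfl), map_one]
  · obtain ⟨f, hf, hbf⟩ := AutPSU.exists_partner hF (bv_iso hF)
    rw [P.theta_eq_one_iff, P.lift_b]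
    exact tU_mem (⟨bv_iso hF, hf, hbf⟩ : AutPSU.Hyp hF (bv : Fin 6 → F) f)

/-- Only the kernel acts trivially. -/
theorem mem_E_of_act {c : ↥(Subgroup.centralizer ({d * b} : Set G))} (h : P.actHom c = 1) : (c : G) ∈ P.E := by
  have hc : ∀ k, P.theta (P.conjHom c k) = P.theta k := fun k => by
    rw [← P.act_theta, show P.act c = 1 from h, MulAut.one_apply]
  rcases P.perm c.2 with e | ⟨e1, e2⟩
  · refine P.mem_E.2 ⟨P.mem_pair_iff.2 e, P.center_psu_four _ fun y => ?_⟩
    obtain ⟨k, rfl⟩ := P.theta_surjective y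
    have := hc k
    rw [show P.conjHom c k = (⟨(c : G), P.mem_pair_iff.2 e⟩ : ↥(Subgroup.centralizer ({d, b} : Set G))) * k *
      (⟨(c : G), P.mem_pair_iff.2 e⟩ : ↥(Subgroup.centralizer ({d, b} : Set G)))⁻¹ from Subtype.ext rfl,
      map_mul, map_mul, map_inv, mul_inv_eq_iff_eq_mul] at this
    exact this.symm
  · exfalso
    have hD := P.C.trans
    -- images of common neighbours
    have hcm : ∀ x, x ∈ perp D d → x ∈ perp D b →
        (c : G) * x * (c : G)⁻¹ ∈ perp D d ∧ (c : G) * x * (c : G)⁻¹ ∈ perp D b := fun x hx hxb => by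
      constructor
      · have := (mem_perp_conj hD (c : G) b ((c : G) * x * (c : G)⁻¹)).2 (by simpa [mul_assoc] using hxb)
        rwa [e2] at this
      · have := (mem_perp_conj hD (c : G) d ((c : G) * x * (c : G)⁻¹)).2 (by simpa [mul_assoc] using hx)
        rwa [e1] at this
    obtain ⟨w, hw0, hw⟩ : ∃ w : Fin 4 → F, w ≠ 0 ∧ hB hF 4 w w = 0 := by
      refine ⟨![1, 1, 0, 0], fun h => by simpa using congrFun h 0, ?_⟩
      simp [hB_apply, Cfsg.hermForm, Fin.sum_univ_four, one_add_one_eq_two, (fourField hF).two]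
    obtain ⟨y, hy, hyb, -, -⟩ := P.exists_pair_member (⟨hw0, hw⟩ : AutPSU.Iso hF w) 0
    obtain ⟨h1, h2⟩ := hcm y hy hyb
    have hsame : P.theta ⟨_, P.common_mem h1 h2⟩ = P.theta ⟨y, P.common_mem hy hyb⟩ := hc ⟨y, _⟩
    obtain ⟨k, hk, ek⟩ := P.exists_adjust h1 h2 hy hyb hsame
    obtain ⟨k1, k2⟩ := P.mem_pair_iff.1 k.2
    have e : ∀ u, (k : G) * c * u * ((k : G) * c)⁻¹ = k * (c * u * (c : G)⁻¹) * (k : G)⁻¹ := fun u => by group
    refine no_swap P.C (s := (k : G) * c) P.C.mem P.hb hy hyb (by rw [e, ek]) (by rw [e, e1, k2])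
      (by rw [e, e2, k1]) fun x hx hxb => ?_
    obtain ⟨x1, x2⟩ := hcm x hx hxb
    obtain ⟨z1, z2, ez⟩ := P.theta_conj hk x1 x2
    obtain ⟨T, hT, hxT, hxT'⟩ := P.exists_fib hx hxb z1 z2
      ((hc ⟨x, P.common_mem hx hxb⟩).symm.trans ez.symm)
    exact ⟨T, hT, hxT, by rwa [e]⟩

theorem actHom_ker : P.actHom.ker = P.E.subgroupOf (Subgroup.centralizer ({d * b} : Set G)) := by
  ext c
  rw [MonoidHom.mem_ker, Subgroup.mem_subgroupOf]
  refine ⟨P.mem_E_of_act, fun h => MulEquiv.ext fun x => ?_⟩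
  obtain ⟨k, rfl⟩ := P.theta_surjective x
  obtain ⟨hcK, hc1⟩ := P.mem_E.1 h
  show P.act c (P.theta k) = P.theta k
  rw [act_theta, show P.conjHom c k = (⟨(c : G), hcK⟩ : ↥(Subgroup.centralizer ({d, b} : Set G))) * k *
    (⟨(c : G), hcK⟩ : ↥(Subgroup.centralizer ({d, b} : Set G)))⁻¹ from Subtype.ext rfl,
    map_mul, map_mul, map_inv, hc1, one_mul, inv_one, mul_one]

theorem card_aut : Nat.card (MulAut (Cfsg.PSU 4 F 2)) = 51840 := by
  haveI : Fact (Nat.Prime 2) := ⟨Nat.prime_two⟩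
  rw [Cfsg.Agent.S0815.result 2 1 le_rfl (q := 2) (by norm_num) hF 4 (by norm_num) (by norm_num), card_psu_four hF]
  rfl

theorem actHom_surjective : Function.Surjective P.actHom := by
  have h1 : Nat.card ↥(Subgroup.centralizer ({d, b} : Set G)) = 25920 * 1024 := by
    rw [Subgroup.card_eq_card_quotient_mul_card_subgroup P.theta.ker, P.card_kernel,
      Nat.card_congr (QuotientGroup.quotientKerEquivOfSurjective _ P.theta_surjective).toEquiv, card_psu_four hF]
    norm_num
  have h2 : Nat.card ↥(Subgroup.centralizer ({d * b} : Set G)) = 51840 * 1024 := by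
    rw [← Subgroup.card_mul_index ((Subgroup.centralizer ({d, b} : Set G)).subgroupOf
      (Subgroup.centralizer ({d * b} : Set G))), P.index_pair,
      Nat.card_congr (Subgroup.subgroupOfEquivOfLe P.pair_le).toEquiv, h1]
  have h3 : Nat.card P.actHom.range = 51840 := by
    have h := Subgroup.card_eq_card_quotient_mul_card_subgroup P.actHom.ker
    rw [h2, Nat.card_congr (QuotientGroup.quotientKerEquivRange P.actHom).toEquiv, P.actHom_ker,
      Nat.card_congr (Subgroup.subgroupOfEquivOfLe P.E_le).toEquiv, P.card_E] at h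
    omega
  rw [← MonoidHom.range_eq_top]
  exact Subgroup.eq_top_of_card_eq _ (by rw [h3, card_aut (hF := hF) P])

theorem mem_closure_pair {z : G} : z ∈ Subgroup.closure ({d, b} : Set G) ↔ InV d b z := by
  have hD := P.C.trans
  have hdd := mul_self hD P.C.mem
  have hbb := mul_self hD P.hb.1
  have hbd : b * d = d * b := P.commute_db.eq.symm
  constructor
  · intro h
    induction h using Subgroup.closure_induction with
    | mem x hx => rcases hx with rfl | rfl <;> [exact Or.inr (Or.inl rfl); exact Or.inr (Or.inr (Or.inl rfl))]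
    | one => exact Or.inl rfl
    | mul x y _ _ hx hy =>
      have a1 : d * (d * b) = b := by rw [← mul_assoc, hdd, one_mul]
      have a2 : b * (d * b) = d := by rw [← mul_assoc, hbd, mul_assoc, hbb, mul_one]
      have a3 : d * b * d = b := by rw [mul_assoc, hbd, a1]
      have a4 : d * b * b = d := by rw [mul_assoc, hbb, mul_one]
      have a5 : d * b * (d * b) = 1 := by rw [← mul_assoc, a3, hbb]
      rcases hx with rfl | rfl | rfl | rfl <;> rcases hy with rfl | rfl | rfl | rfl <;>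
        simp [InV, hdd, hbb, hbd, a1, a2, a3, a4, a5]
    | inv x _ hx =>
      rcases hx with rfl | rfl | rfl | rfl <;>
        simp [InV, inv_eq hD P.C.mem, inv_eq hD P.hb.1, hbd]
  · rintro (rfl | rfl | rfl | rfl)
    exacts [one_mem _, Subgroup.subset_closure (Or.inl rfl), Subgroup.subset_closure (Or.inr rfl),
      mul_mem (Subgroup.subset_closure (Or.inl rfl)) (Subgroup.subset_closure (Or.inr rfl))]

end Base

end Cfsg.Lib.Fischer.Relations.TwoPair
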