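import Cfsg.Agent.Lib.Fischer.Relations.TwoPair.OuterSwap
import Cfsg.Agent.Lib.Fischer.Relations.TwoPair.Main

/-!
# The four over one isotropic residual vector

Its members are indexed by the field; the kernel translates the index and some element of the pair
centralizer multiplies it by a primitive cube root of unity.
-/

set_option autoImplicit false
set_option linter.unusedSectionVars false

namespace Cfsg.Lib.Fischer.Relations.TwoPair

open Module Matrix Cfsg Cfsg.Lib.Fischer Cfsg.Lib.Linear.Herm Cfsg.Agent.S1631 Cfsg.Lib.Fischer.RadicalAbelian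
open Cfsg.Lib.Linear

variable {G : Type*} [Group G] [Finite G] {D : Set G}
  {F : Type} [Field F] [Fintype F] {hF : Fintype.card F = 2 ^ 2} {d b : G}

/-- The residual base vector. -/
def wv : Fin 4 → F := ![1, 1, 0, 0]

theorem wv_iso (hF : Fintype.card F = 2 ^ 2) : AutPSU.Iso hF (wv : Fin 4 → F) := by
  refine ⟨fun e => by simpa [wv] using congrFun e 0, ?_⟩
  simp [hB_apply, Cfsg.hermForm, wv, Fin.sum_univ_four, one_add_one_eq_two, (fourField hF).two]

/-- The members over the base vector, indexed by the field. -/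
structure Base.Fibre (P : Base D d b hF) where
  x : F → G
  perp_d : ∀ t, x t ∈ perp D d
  perp_b : ∀ t, x t ∈ perp D b
  coord : ∀ t, ∃ k : F, k ≠ 0 ∧ P.C.U.c (x t) = k • (emb wv + t • bv)

namespace Base

variable (P : Base D d b hF)
include P

theorem exists_fibre : Nonempty P.Fibre := by
  choose x h1 h2 h3 using fun t => P.exists_member (wv_iso hF) t
  exact ⟨⟨x, h1, h2, h3⟩⟩

namespace Fibre

variable {P} (X : P.Fibre)
include X

theorem mem_pair (t : F) : X.x t ∈ Subgroup.centralizer ({d, b} : Set G) :=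
  P.common_mem (X.perp_d t) (X.perp_b t)

theorem inj {s t : F} (h : X.x s = X.x t) : s = t := by
  obtain ⟨k, hk, e⟩ := X.coord s
  obtain ⟨l, hl, e'⟩ := X.coord t
  rw [h, e'] at e
  have h2 := congrFun e 2
  have h0 := congrFun e 0
  simp [emb, bv, wv] at h2 h0
  rw [h2] at h0
  exact (mul_left_cancel₀ hk h0).symm

theorem theta_eq (s t : F) :
    P.theta ⟨X.x s, X.mem_pair s⟩ = P.theta ⟨X.x t, X.mem_pair t⟩ := by
  obtain ⟨k, hk, e⟩ := X.coord s
  obtain ⟨l, hl, e'⟩ := X.coord t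
  refine P.theta_eq_of_res (X.perp_d s) (X.perp_b s) (X.perp_d t) (X.perp_b t) (a := l * k⁻¹)
    (mul_ne_zero hl (inv_ne_zero hk)) ?_
  rw [e, e', res_smul, res_smul, res_add, res_add, res_smul, res_smul, res_bv, smul_zero, smul_zero,
    smul_smul, mul_assoc, inv_mul_cancel₀ hk, mul_one]

theorem exists_index {y : G} (hy : y ∈ perp D d) (hyb : y ∈ perp D b) {s : F}
    (h : P.theta ⟨X.x s, X.mem_pair s⟩ = P.theta ⟨y, P.common_mem hy hyb⟩) : ∃ t, y = X.x t := by
  obtain ⟨a, u, ha, e⟩ := P.line_of_theta (X.perp_d s) (X.perp_b s) hy hyb h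
  obtain ⟨k, hk, ek⟩ := X.coord s
  obtain ⟨l, hl, el⟩ := X.coord (s + u * (a * k)⁻¹)
  refine ⟨s + u * (a * k)⁻¹, (P.C.eq_of_proj hy (X.perp_d _) (v := emb wv + (s + u * (a * k)⁻¹) • bv)
    ⟨a * k, mul_ne_zero ha hk, ?_⟩ ⟨l, el⟩)⟩
  rw [e, ek, smul_smul, smul_add, smul_add, smul_smul, smul_smul, add_assoc, ← add_smul]
  congr 2
  rw [show a * k * (s + u * (a * k)⁻¹) = a * k * s + u * ((a * k) * (a * k)⁻¹) by ring,
    mul_inv_cancel₀ (mul_ne_zero ha hk), mul_one]

/-- The kernel translates the index. -/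
theorem translate {e : ↥(Subgroup.centralizer ({d, b} : Set G))} (he : P.theta e = 1) :
    ∃ a : F, ∀ t, (e : G) * X.x t * (e : G)⁻¹ = X.x (t + a) := by
  obtain ⟨a, ha⟩ := ((P.theta_eq_one_iff e).1 he).2 _ (form_bv_emb hF (wv : Fin 4 → F))
  refine ⟨a, fun t => ?_⟩
  obtain ⟨k, hk, ek⟩ := X.coord t
  obtain ⟨j, hj, ej⟩ := P.lift_lifts e _ (X.perp_d t)
  obtain ⟨l, hl, el⟩ := X.coord (t + a)
  have hbv : AutPSU.act (P.lift e : ↥(Cfsg.SU 6 F 2)) bv = bv := mem_St.1 (P.lift e).2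
  refine P.C.eq_of_proj (P.C.conj_mem (mem_pair_centralizer.1 e.2).1 (X.perp_d t)) (X.perp_d _)
    (v := emb wv + (t + a) • bv) ⟨j * k, mul_ne_zero hj hk, ?_⟩ ⟨l, el⟩
  rw [ej, ek, AutPSU.act_smul, AutPSU.act_add, AutPSU.act_smul, hbv, ha, smul_smul,
    add_assoc, ← add_smul, add_comm a t]

/-- Some element of the pair centralizer multiplies the index by a primitive cube root. -/
theorem scale : ∃ (k₀ : ↥(Subgroup.centralizer ({d, b} : Set G))) (ν : F), ν ≠ 0 ∧ ν ≠ 1 ∧
    ∀ t, (k₀ : G) * X.x t * (k₀ : G)⁻¹ = X.x (ν * t) := by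
  obtain ⟨ω, hω⟩ := Linear.exists_omega (fourField hF) (hB_isSymm hF 6) (hB_nondegenerate hF 6)
  have hω0 : ω ≠ 0 := fun e => hω (by rw [e, map_zero])
  have hω1 : ω ≠ 1 := fun e => hω (by rw [e, map_one])
  have h3 := (fourField hF).cube ω hω0
  obtain ⟨B, hB, hBdet⟩ := exists_diag hF ![1, 1, ω, ω, ω, 1] (by intro i; fin_cases i <;> simp [hω0])
  have hdet : B.1.1.det = 1 := by
    rw [hBdet, Fin.prod_univ_six]
    simp [h3]
  have hfix : AutPSU.act (⟨⟨B.1.1, hdet⟩, B.2⟩ : ↥(Cfsg.SU 6 F 2)) bv = bv := by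
    show B.1.1.mulVec bv = bv
    rw [hB]
    ext i
    rw [mulVec_diagonal]
    fin_cases i <;> simp [bv]
  obtain ⟨k₀, hk₀⟩ := P.lift_surjective ⟨_, mem_St.2 hfix⟩
  refine ⟨k₀, ω * ω, mul_ne_zero hω0 hω0, fun e => hω1 ?_, fun t => ?_⟩
  · calc ω = ω * (ω * ω) := by rw [e, mul_one]
      _ = 1 := by rw [← mul_assoc, h3]
  obtain ⟨k, hk, ek⟩ := X.coord t
  obtain ⟨j, hj, ej⟩ := P.lift_lifts k₀ _ (X.perp_d t)
  obtain ⟨l, hl, el⟩ := X.coord (ω * ω * t)
  refine P.C.eq_of_proj (P.C.conj_mem (mem_pair_centralizer.1 k₀.2).1 (X.perp_d t)) (X.perp_d _)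
    (v := emb wv + (ω * ω * t) • bv) ⟨j * k * ω, mul_ne_zero (mul_ne_zero hj hk) hω0, ?_⟩ ⟨l, el⟩
  rw [ej, hk₀, ek, AutPSU.act_smul, smul_smul, mul_smul (j * k)]
  congr 1
  show B.1.1.mulVec (emb wv + t • bv) = ω • (emb wv + (ω * ω * t) • bv)
  rw [hB]
  ext i
  rw [mulVec_diagonal]
  fin_cases i <;> simp [bv, emb, wv]
  all_goals linear_combination (-t) * h3

/-- Two pairs in the four differ by `1` or `db` after a translation. -/
theorem pair_shift (t s c : F) :
    InJ d b (X.x (t + c) * X.x (s + c) * (X.x t * X.x s)⁻¹) := by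
  classical
  have hD := P.C.trans
  have h2 := (fourField hF).two
  obtain ⟨T, hT, h0T, -⟩ := P.exists_fib (X.perp_d 0) (X.perp_b 0) (X.perp_d 0) (X.perp_b 0) rfl
  have hall : ∀ u, X.x u ∈ T := fun u => by
    obtain ⟨T', hT', h0, hu⟩ := P.exists_fib (X.perp_d 0) (X.perp_b 0) (X.perp_d u) (X.perp_b u) (X.theta_eq 0 u)
    exact (Fib.unique P.C P.C.mem P.hb hT' hT h0 h0T _).1 hu
  rw [_root_.mul_inv_rev, inv_eq hD (X.perp_d t).1, inv_eq hD (X.perp_d s).1]
  have hcts := hT.comm _ (hall t) _ (hall s)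
  rcases eq_or_ne c 0 with rfl | hc
  · refine Or.inl ?_
    rw [add_zero, add_zero, mul_assoc, ← mul_assoc (X.x s), mul_self hD (X.perp_d s).1, one_mul,
      mul_self hD (X.perp_d t).1]
  rcases eq_or_ne t s with rfl | hts
  · refine Or.inl ?_
    rw [mul_self hD (X.perp_d _).1, mul_self hD (X.perp_d _).1, one_mul]
  rcases eq_or_ne (t + c) s with e | e
  · refine Or.inl ?_
    rw [e, show s + c = t by linear_combination c * h2 - e, hcts.mul_mul_mul_comm,
      mul_self hD (X.perp_d s).1, mul_self hD (X.perp_d t).1, one_mul]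
  refine Or.inr ?_
  have hsub : [X.x (t + c), X.x (s + c), X.x s, X.x t] ⊆ T := by
    intro z hz
    simp only [List.mem_cons, List.not_mem_nil, or_false] at hz
    rcases hz with rfl | rfl | rfl | rfl <;> exact hall _
  have n1 : X.x (t + c) ≠ X.x (s + c) := fun h => hts (add_right_cancel (X.inj h))
  have n2 : X.x (t + c) ≠ X.x s := fun h => e (X.inj h)
  have n3 : X.x (t + c) ≠ X.x t := fun h => hc (by simpa using X.inj h)
  have n4 : X.x (s + c) ≠ X.x s := fun h => hc (by simpa using X.inj h)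
  have n5 : X.x (s + c) ≠ X.x t := fun h => e (by linear_combination c * h2 - X.inj h)
  have n6 : X.x s ≠ X.x t := fun h => hts (X.inj h).symm
  have hnd : [X.x (t + c), X.x (s + c), X.x s, X.x t].Nodup := by simp [n1, n2, n3, n4, n5, n6]
  have hperm := (List.Nodup.subperm hnd hsub).perm_of_length_le (by rw [hT.len]; simp)
  rw [← hT.prod, ← prod_perm hperm fun u hu w hw => hT.comm u (hsub hu) w (hsub hw)]
  simp [mul_assoc]

end Fibre

end Base

end Cfsg.Lib.Fischer.Relations.TwoPair
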