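import Cfsg.Agent.Lib.Fischer.Relations.TwoPair.OuterSwap
import Cfsg.Agent.Lib.Fischer.Relations.TwoPair.Main

/-!
# Elements fixing every four of a pair

An element of the centralizer of `d * b` mapping every common neighbour into its own four lies in the kernel of
the residual action.
-/

set_option autoImplicit false
set_option linter.unusedSectionVars false

namespace Cfsg.Lib.Fischer.Relations.TwoPair

open Module Matrix Cfsg Cfsg.Lib.Fischer Cfsg.Lib.Linear.Herm Cfsg.Agent.S1631 Cfsg.Lib.Fischer.RadicalAbelian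
open Cfsg.Lib.Linear

variable {G : Type*} [Group G] [Finite G] {D : Set G}
  {F : Type} [Field F] [Fintype F] {hF : Fintype.card F = 2 ^ 2} {d b : G}

namespace Base

variable (P : Base D d b hF)
include P

/-- The members of one four have one residual transvection. -/
theorem theta_of_fib {T : List G} (hT : Fib D d b T) {x x' : G} (hx : x ∈ T) (hx' : x' ∈ T) :
    P.theta ⟨x, P.common_mem (hT.mem x hx).1 (hT.mem x hx).2⟩ =
      P.theta ⟨x', P.common_mem (hT.mem x' hx').1 (hT.mem x' hx').2⟩ := by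
  classical
  rcases eq_or_ne x' x with rfl | hne
  · rfl
  have hD := P.C.trans
  have hK := fourField hF
  have h5 : 5 ≤ finrank F (Fin 6 → F) := by rw [finrank_fin_fun]; norm_num
  obtain ⟨t, ht⟩ : ∃ t, t = T.erase x := ⟨_, rfl⟩
  have hperm : T.Perm (x :: t) := ht ▸ List.perm_cons_erase hx
  have htlen : t.length = 3 := by rw [ht, List.length_erase_of_mem hx, hT.len]
  have hbT : ∀ z ∈ b :: x :: t, z = b ∨ z ∈ T := fun z hz => by
    rcases List.mem_cons.1 hz with rfl | hz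
    exacts [Or.inl rfl, Or.inr (hperm.mem_iff.2 hz)]
  have hnd : (b :: x :: t).Nodup := List.nodup_cons.2 ⟨fun h =>
    (hT.mem b (hperm.mem_iff.2 h)).2.2.1 rfl, hperm.nodup_iff.1 hT.nodup⟩
  have hin : ∀ z ∈ b :: x :: t, z ∈ perp D d := fun z hz => by
    rcases hbT z hz with rfl | h
    exacts [P.hb, (hT.mem z h).1]
  have hc : ∀ z ∈ b :: x :: t, ∀ w ∈ b :: x :: t, Commute z w := fun z hz w hw => by
    rcases hbT z hz with rfl | h <;> rcases hbT w hw with rfl | h'
    exacts [Commute.refl _, (hT.mem w h').2.2.2, (hT.mem z h).2.2.2.symm, hT.comm z h w h']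
  have hprod : (b :: x :: t).prod = d := by
    rw [List.prod_cons, ← hperm.prod_eq' (List.Pairwise.imp_of_mem (fun {z w} hz hw _ => hT.comm z hz w hw) hT.nodup),
      hT.prod, P.commute_db.eq, ← mul_assoc, mul_self hD P.hb.1, one_mul]
  obtain ⟨α, β, hαβ⟩ := P.C.U.five_span hK (hB_isSymm hF 6) (hB_nondegenerate hF 6) h5 htlen hnd hin hc
    (fun y hy => by rw [hprod]; exact hy.2.2) (s := x')
    ((List.mem_cons.1 (hperm.mem_iff.1 hx')).resolve_left hne)
  obtain ⟨j, hj, ej⟩ := P.hcb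
  have hres : res (P.C.U.c x') = β • res (P.C.U.c x) := by
    rw [hαβ, ej, res_add, res_smul, res_smul, res_smul, res_bv, smul_zero, smul_zero, zero_add]
  refine P.theta_eq_of_res (hT.mem x hx).1 (hT.mem x hx).2 (hT.mem x' hx').1 (hT.mem x' hx').2 (a := β) ?_ hres
  intro h0
  rw [h0, zero_smul] at hres
  exact P.res_ne (hT.mem x' hx').1 (hT.mem x' hx').2 hres

/-- The common neighbours generate the residual group. -/
theorem theta_gen :
    Subgroup.closure {y | ∃ (x : G) (hx : x ∈ perp D d) (hxb : x ∈ perp D b),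
      P.theta ⟨x, P.common_mem hx hxb⟩ = y} = ⊤ := by
  haveI := Cfsg.Lib.Linear.Herm.psu_simple hF (n := 4) le_rfl
  haveI : Fact (Nat.Prime 2) := ⟨Nat.prime_two⟩
  haveI : CharP F 2 := CharTwo.of_one_ne_zero_of_two_eq_zero one_ne_zero (fourField hF).two
  obtain ⟨S, hS⟩ : ∃ S, S = {y | ∃ (x : G) (hx : x ∈ perp D d) (hxb : x ∈ perp D b),
      P.theta ⟨x, P.common_mem hx hxb⟩ = y} := ⟨_, rfl⟩
  rw [← hS]
  have hSP : ∀ y, y ∈ S ↔ ∃ w : Fin 4 → F, AutPSU.Iso hF w ∧ AutPSU.tP hF w 1 = y := by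
    intro y
    rw [hS]
    constructor
    · rintro ⟨x, hx, hxb, rfl⟩
      exact ⟨_, P.res_iso hx hxb, (P.theta_member hx hxb).symm⟩
    · rintro ⟨w, hw, rfl⟩
      obtain ⟨x, hx, hxb, k, hk, e⟩ := P.exists_member hw 0
      refine ⟨x, hx, hxb, ?_⟩
      rw [P.theta_member hx hxb, e, zero_smul, add_zero, res_smul, res_emb]
      refine congrArg QuotientGroup.mk ?_
      rw [AutPSU.tU_smul hF hw.2 (skew_one hF), mul_one, (fourField hF).sq, (fourField hF).cube k hk]
  haveI : (Subgroup.closure S).Normal := by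
    refine ⟨fun y hy g => ?_⟩
    induction hy using Subgroup.closure_induction with
    | mem y hy =>
      obtain ⟨w, hw, rfl⟩ := (hSP y).1 hy
      obtain ⟨A, rfl⟩ := QuotientGroup.mk_surjective g
      refine Subgroup.subset_closure ((hSP _).2 ⟨_, hw.act hF A, ?_⟩)
      exact (AutPSU.conj_tP hF A hw.2 (skew_one hF)).symm
    | one => simp
    | mul a b _ _ ha hb =>
      rw [show g * (a * b) * g⁻¹ = g * a * g⁻¹ * (g * b * g⁻¹) by group]
      exact mul_mem ha hb
    | inv a _ ha =>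
      rw [show g * a⁻¹ * g⁻¹ = (g * a * g⁻¹)⁻¹ by group]
      exact inv_mem ha
  refine ((show (Subgroup.closure S).Normal from inferInstance).eq_bot_or_eq_top).resolve_left fun hbot => ?_
  have hone : ∀ w : Fin 4 → F, AutPSU.Iso hF w → AutPSU.tP hF w 1 = 1 := fun w hw => by
    have : AutPSU.tP hF w 1 ∈ Subgroup.closure S := Subgroup.subset_closure ((hSP _).2 ⟨w, hw, rfl⟩)
    rwa [hbot, Subgroup.mem_bot] at this
  obtain ⟨w', hw'⟩ : ∃ w' : Fin 4 → F, w' = ![0, 0, 1, 1] := ⟨_, rfl⟩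
  have hw'i : AutPSU.Iso hF w' := by
    refine ⟨fun e => by simpa [hw'] using congrFun e 2, ?_⟩
    simp [hB_apply, Cfsg.hermForm, hw', Fin.sum_univ_four, one_add_one_eq_two, (fourField hF).two]
  obtain ⟨w, hw⟩ : ∃ w : Fin 4 → F, w = ![1, 1, 0, 0] := ⟨_, rfl⟩
  have hwi : AutPSU.Iso hF w := by
    refine ⟨fun e => by simpa [hw] using congrFun e 0, ?_⟩
    simp [hB_apply, Cfsg.hermForm, hw, Fin.sum_univ_four, one_add_one_eq_two, (fourField hF).two]
  obtain ⟨a, ha, e, -⟩ := AutPSU.tP_inj hF 2 (by norm_num : 2 ≤ 4) hwi hw'i one_ne_zero (skew_one hF) (skew_one hF)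
    ((hone w hwi).trans (hone w' hw'i).symm)
  simpa [hw, hw'] using congrFun e 2

/-- An element keeping every four lies in the kernel. -/
theorem mem_E_of_fours {s : G} (hs : s ∈ Subgroup.centralizer ({d * b} : Set G))
    (hfix : ∀ x ∈ perp D d, x ∈ perp D b → ∃ T, Fib D d b T ∧ x ∈ T ∧ s * x * s⁻¹ ∈ T) : s ∈ P.E := by
  refine P.mem_E_of_act (c := ⟨s, hs⟩) (MulEquiv.ext fun y => ?_)
  have h : Set.EqOn (P.act ⟨s, hs⟩) (1 : MulAut (Cfsg.PSU 4 F 2))
      {y | ∃ (x : G) (hx : x ∈ perp D d) (hxb : x ∈ perp D b), P.theta ⟨x, P.common_mem hx hxb⟩ = y} := by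
    rintro _ ⟨x, hx, hxb, rfl⟩
    obtain ⟨T, hT, h1, h2⟩ := hfix x hx hxb
    rw [act_theta, MulAut.one_apply]
    exact (congrArg P.theta (Subtype.ext rfl)).trans (P.theta_of_fib hT h2 h1)
  exact DFunLike.congr_fun (MonoidHom.eq_of_eqOn_dense P.theta_gen (f := (P.act ⟨s, hs⟩).toMonoidHom)
    (g := MonoidHom.id _) h) y

end Base

end Cfsg.Lib.Fischer.Relations.TwoPair
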