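import Cfsg.Agent.Lib.Fischer.Relations.TwoPair.Kernel

/-!
# Members of one four generate the kernel

Two members in one four have one residual transvection, and their product is an involution in the kernel.
These products generate the kernel modulo the pair, and its commutators with them never reach `d` or `b`.
-/

set_option autoImplicit false
set_option linter.unusedSectionVars false

namespace Cfsg.Lib.Fischer.Relations.TwoPair

open Module Matrix Cfsg Cfsg.Lib.Fischer Cfsg.Lib.Linear.Herm Cfsg.Agent.S1631 Cfsg.Lib.Fischer.RadicalAbelian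
open Cfsg.Lib.Linear

variable {G : Type*} [Group G] [Finite G] {D : Set G}
  {F : Type} [Field F] [Fintype F] {hF : Fintype.card F = 2 ^ 2} {d b : G}

/-- The subgroup `{1, db}` as a predicate. -/
def InJ (d b z : G) : Prop := z = 1 ∨ z = d * b

theorem pair_translation (hF : Fintype.card F = 2 ^ 2) {f : Fin 6 → F} (hf : hB hF 6 bv f = 1) {w : Fin 4 → F}
    (hw : hB hF 4 w w = 0) (m : F) :
    res (AutPSU.act (AutPSU.tU hF (emb w + (0 : F) • bv) 1 * AutPSU.tU hF (emb w + m • bv) 1) f - f) =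
      frob hF m • w := by
  obtain ⟨v, hv⟩ : ∃ v, v = emb w + m • (bv : Fin 6 → F) := ⟨_, rfl⟩
  rw [zero_smul, add_zero, ← hv]
  have h0 : hB hF 6 bv (emb w) = 0 := form_bv_emb hF w
  have hee : hB hF 6 (emb w) (emb w) = 0 := by rw [form_perp hF h0 h0, res_emb, hw]
  have hev : hB hF 6 (emb w) v = 0 := by
    rw [hv, map_add, AutPSU.form_smul_right, hee, (AutPSU.form_comm_zero hF).1 h0, mul_zero, add_zero]
  have hbv' : hB hF 6 bv v = 0 := by
    rw [hv, map_add, h0, AutPSU.form_smul_right, (bv_iso hF).2, mul_zero, add_zero]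
  have hvres : res v = w := by rw [hv, res_add, res_emb, res_smul, res_bv, smul_zero, add_zero]
  have hvv : hB hF 6 v v = 0 := by rw [form_perp hF hbv' hbv', hvres, hw]
  have hvf : hB hF 6 v f = hB hF 6 (emb w) f + frob hF m := by
    rw [hv, map_add, LinearMap.add_apply, AutPSU.form_smul_left, hf, mul_one]
  rw [AutPSU.act_mul, AutPSU.act_tU hF hvv (skew_one hF), AutPSU.act_tU hF hee (skew_one hF), one_mul, one_mul,
    map_add, AutPSU.form_smul_right, hev, mul_zero, add_zero, add_assoc, add_sub_cancel_left, res_add, res_smul,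
    res_smul, hvres, res_emb, hvf, add_smul]
  rw [add_comm (hB hF 6 (emb w) f • w), add_assoc, ← two_smul F, smul_smul, (fourField hF).two, zero_mul, zero_smul,
    add_zero]

theorem iso_lines_span (hF : Fintype.card F = 2 ^ 2) (A : Set (Fin 4 → F))
    (hadd : ∀ v w, v ∈ A → w ∈ A → v + w ∈ A) (hline : ∀ (l : F) (w : Fin 4 → F), AutPSU.Iso hF w → l • w ∈ A) :
    ∀ w, w ∈ A := by
  intro w
  obtain ⟨ω, hω⟩ := Linear.exists_omega (fourField hF) (hB_isSymm hF 6) (hB_nondegenerate hF 6)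
  have hω0 : ω ≠ 0 := fun e => hω (by rw [e, map_zero])
  have hω1 : ω ≠ 1 := fun e => hω (by rw [e, map_one])
  have h3 := (fourField hF).cube ω hω0
  have hsum : ω + ω * ω = 1 := by
    have h2 : ω * ω + ω + 1 = 0 := by
      have : (ω - 1) * (ω * ω + ω + 1) = 0 := by linear_combination h3
      exact (mul_eq_zero.1 this).resolve_left (sub_ne_zero.2 hω1)
    linear_combination h2 - (fourField hF).two
  have hiso : ∀ (i j : Fin 4) (c : F), i ≠ j → c * c * c = 1 →
      AutPSU.Iso hF ((Pi.single i 1 : Fin 4 → F) + Pi.single j c) := fun i j c hij hc => by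
    refine ⟨fun e => by simpa [Pi.single_eq_of_ne hij] using congrFun e i, ?_⟩
    rw [hB_apply, Cfsg.hermForm, Fin.sum_univ_four]
    fin_cases i <;> fin_cases j <;> simp at hij ⊢ <;> linear_combination (fourField hF).two + hc
  have hsingle : ∀ (j : Fin 4) (l : F), Pi.single j l ∈ A := by
    intro j l
    obtain ⟨i, hij⟩ : ∃ i : Fin 4, i ≠ j := exists_ne j
    have e : Pi.single j l = (l * ω) • ((Pi.single i 1 : Fin 4 → F) + Pi.single j 1) +
        (l * ω) • ((Pi.single i 1 : Fin 4 → F) + Pi.single j ω) := by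
      ext m
      simp only [Pi.add_apply, Pi.smul_apply, smul_eq_mul]
      rcases eq_or_ne m j with rfl | hm
      · simp [Pi.single_eq_of_ne hij.symm]
        linear_combination -l * hsum
      · rcases eq_or_ne m i with rfl | hm'
        · simp [Pi.single_eq_of_ne hm]
          linear_combination -(l * ω) * (fourField hF).two
        · simp [Pi.single_eq_of_ne hm, Pi.single_eq_of_ne hm']
    rw [e]
    exact hadd _ _ (hline _ _ (hiso i j 1 hij (by ring))) (hline _ _ (hiso i j ω hij h3))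
  have : w = Pi.single 0 (w 0) + Pi.single 1 (w 1) + Pi.single 2 (w 2) + Pi.single 3 (w 3) := by
    ext m; fin_cases m <;> simp
  rw [this]
  exact hadd _ _ (hadd _ _ (hadd _ _ (hsingle _ _) (hsingle _ _)) (hsingle _ _)) (hsingle _ _)

namespace Base

variable (P : Base D d b hF)
include P

theorem common_mem {x : G} (hx : x ∈ perp D d) (hxb : x ∈ perp D b) :
    x ∈ Subgroup.centralizer ({d, b} : Set G) :=
  mem_pair_centralizer.2 ⟨hx.2.2.symm, hxb.2.2.symm⟩

theorem res_ne {x : G} (hx : x ∈ perp D d) (hxb : x ∈ perp D b) : res (P.C.U.c x) ≠ 0 := fun h => by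
  obtain ⟨j, hj, ej⟩ := P.hcb
  have h0 := P.form_bv_of_commute hx hxb.2.2
  have e := eq_add hF (v := (0 : Fin 6 → F)) (map_zero _) h0 (by rw [h, res_zero])
  rw [zero_add] at e
  exact hxb.2.1 (P.C.U.inj b P.hb x hx _ (by
    rw [ej, smul_smul]
    refine e.trans ?_
    congr 1
    exact (div_mul_cancel₀ _ hj).symm)).symm

theorem res_iso {x : G} (hx : x ∈ perp D d) (hxb : x ∈ perp D b) : AutPSU.Iso hF (res (P.C.U.c x)) :=
  ⟨P.res_ne hx hxb, by
    rw [← form_perp hF (P.form_bv_of_commute hx hxb.2.2) (P.form_bv_of_commute hx hxb.2.2)]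
    exact P.C.U.iso x hx⟩

/-- A common neighbour acts as the transvection of its residue. -/
theorem theta_member {x : G} (hx : x ∈ perp D d) (hxb : x ∈ perp D b) :
    P.theta ⟨x, P.common_mem hx hxb⟩ = AutPSU.tP hF (res (P.C.U.c x)) 1 :=
  proj4_tU hF (P.C.U.iso x hx) (P.form_bv_of_commute hx hxb.2.2) (P.lift_member ⟨x, P.common_mem hx hxb⟩ hx)

theorem line_of_theta {x x' : G} (hx : x ∈ perp D d) (hxb : x ∈ perp D b) (hx' : x' ∈ perp D d)
    (hxb' : x' ∈ perp D b) (h : P.theta ⟨x, P.common_mem hx hxb⟩ = P.theta ⟨x', P.common_mem hx' hxb'⟩) :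
    ∃ a t : F, a ≠ 0 ∧ P.C.U.c x' = a • P.C.U.c x + t • bv := by
  haveI : Fact (Nat.Prime 2) := ⟨Nat.prime_two⟩
  haveI : CharP F 2 := CharTwo.of_one_ne_zero_of_two_eq_zero one_ne_zero (fourField hF).two
  rw [P.theta_member hx hxb, P.theta_member hx' hxb'] at h
  obtain ⟨a, ha, e, -⟩ := AutPSU.tP_inj hF 2 (by norm_num : 2 ≤ 4) (P.res_iso hx hxb) (P.res_iso hx' hxb')
    one_ne_zero (skew_one hF) (skew_one hF) h
  exact ⟨a, _, ha, eq_add hF (v := a • P.C.U.c x)
    (by rw [AutPSU.form_smul_right, P.form_bv_of_commute hx hxb.2.2, mul_zero])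
    (P.form_bv_of_commute hx' hxb'.2.2) (by rw [e, res_smul])⟩

/-- Members with one residual transvection lie in one four. -/
theorem exists_fib {x x' : G} (hx : x ∈ perp D d) (hxb : x ∈ perp D b) (hx' : x' ∈ perp D d)
    (hxb' : x' ∈ perp D b) (h : P.theta ⟨x, P.common_mem hx hxb⟩ = P.theta ⟨x', P.common_mem hx' hxb'⟩) :
    ∃ T, Fib D d b T ∧ x ∈ T ∧ x' ∈ T := by
  have hK := fourField hF
  have hS := hB_isSymm hF 6
  have hB' := hB_nondegenerate hF 6
  have h5 : 5 ≤ finrank F (Fin 6 → F) := by rw [finrank_fin_fun]; norm_num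
  obtain ⟨e, f, g, he, hf, hg, hnd, hc, hp, hline⟩ :=
    P.C.U.exists_five hK hS hB' h5 P.hb hx hxb.2.1.symm hxb.2.2
  have hin : ∀ z ∈ [b, x, e, f, g], z ∈ perp D d := by simp [P.hb, hx, he, hf, hg]
  have hprod : [b, x, e, f, g].prod = d :=
    line_prod P.C.trans hK hS hB' h5 P.C.prim P.C.cen P.C.sep P.C.mem P.C.U (b := b) (t := [x, e, f, g]) rfl
      hnd hin hc hp
  have hnd' := (List.nodup_cons.1 hnd)
  have hfib : Fib D d b [x, e, f, g] := by
    refine ⟨hnd'.2, rfl, fun z hz => ⟨hin z (List.mem_cons_of_mem _ hz), (hin z (List.mem_cons_of_mem _ hz)).1,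
      fun e => hnd'.1 (e ▸ hz), hc b (by simp) z (List.mem_cons_of_mem _ hz)⟩, fun z hz w hw =>
      hc z (List.mem_cons_of_mem _ hz) w (List.mem_cons_of_mem _ hw), ?_⟩
    rw [P.commute_db.eq]
    have h1 : b * [x, e, f, g].prod = d := by rw [← List.prod_cons]; exact hprod
    calc [x, e, f, g].prod = b * (b * [x, e, f, g].prod) := by
          rw [← mul_assoc, mul_self P.C.trans P.hb.1, one_mul]
      _ = b * d := by rw [h1]
  refine ⟨_, hfib, by simp, ?_⟩
  obtain ⟨a, t, ha, e'⟩ := P.line_of_theta hx hxb hx' hxb' h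
  obtain ⟨j, hj, ej⟩ := P.hcb
  have := hline x' hx' ⟨t * j⁻¹, a, by
    rw [e', ej, smul_smul, mul_assoc, inv_mul_cancel₀ hj, mul_one, add_comm]⟩
  rcases List.mem_cons.1 this with rfl | h'
  · exact absurd rfl hxb'.2.1
  · exact h'

/-- Conjugation by the kernel keeps the residual transvection. -/
theorem theta_conj {k : ↥(Subgroup.centralizer ({d, b} : Set G))} (hk : P.theta k = 1) {x : G}
    (hx : x ∈ perp D d) (hxb : x ∈ perp D b) :
    ∃ (h1 : (k : G) * x * (k : G)⁻¹ ∈ perp D d) (h2 : (k : G) * x * (k : G)⁻¹ ∈ perp D b),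
      P.theta ⟨_, P.common_mem h1 h2⟩ = P.theta ⟨x, P.common_mem hx hxb⟩ := by
  obtain ⟨k1, k2⟩ := mem_pair_centralizer.1 k.2
  have h1 := P.C.conj_mem k1 hx
  have h2 : (k : G) * x * (k : G)⁻¹ ∈ perp D b := by
    have h := (mem_perp_conj P.C.trans (k : G) b ((k : G) * x * (k : G)⁻¹)).2 (by simpa [mul_assoc] using hxb)
    rwa [k2.eq, mul_inv_cancel_right] at h
  refine ⟨h1, h2, ?_⟩
  rw [show (⟨_, P.common_mem h1 h2⟩ : ↥(Subgroup.centralizer ({d, b} : Set G))) =
    k * ⟨x, P.common_mem hx hxb⟩ * k⁻¹ from Subtype.ext rfl, map_mul, map_mul, map_inv, hk, one_mul, inv_one, mul_one]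

/-- The kernel is transitive on the members with one residual transvection. -/
theorem exists_adjust {x x' : G} (hx : x ∈ perp D d) (hxb : x ∈ perp D b) (hx' : x' ∈ perp D d)
    (hxb' : x' ∈ perp D b) (h : P.theta ⟨x, P.common_mem hx hxb⟩ = P.theta ⟨x', P.common_mem hx' hxb'⟩) :
    ∃ k, P.theta k = 1 ∧ (k : G) * x * (k : G)⁻¹ = x' := by
  haveI : Fact (Nat.Prime 2) := ⟨Nat.prime_two⟩
  haveI : CharP F 2 := CharTwo.of_one_ne_zero_of_two_eq_zero one_ne_zero (fourField hF).two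
  obtain ⟨a, t, ha, e⟩ := P.line_of_theta hx hxb hx' hxb' h
  have h0 := P.form_bv_of_commute hx hxb.2.2
  obtain ⟨z, hz⟩ := AutPSU.exists_pair hF (P.res_ne hx hxb)
  obtain ⟨u, hu⟩ : ∃ u, u = emb ((frob hF (-(t * a⁻¹))) • z) := ⟨_, rfl⟩
  have hbu : hB hF 6 bv u = 0 := hu ▸ form_bv_emb hF _
  have hux : hB hF 6 u (P.C.U.c x) = -(t * a⁻¹) := by
    rw [form_perp hF hbu h0, hu, res_emb, AutPSU.form_smul_left, ← AutPSU.form_symm hF (res (P.C.U.c x)) z, hz,
      map_one, mul_one, frob_frob hF]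
  obtain ⟨c, hc⟩ := AutPSU.exists_trace hF (-(hB hF 6 u u)) (by rw [map_neg, AutPSU.self_mem])
  obtain ⟨g, hg, hgx⟩ := AutPSU.exists_radU hF 2 (bv_iso hF) hbu (c := c) (by linear_combination hc)
  obtain ⟨k, hk, ek⟩ := P.exists_kernel hg
  refine ⟨k, hk, ?_⟩
  obtain ⟨j, hj, ej⟩ := P.lift_lifts k x hx
  rw [ek, hgx, h0, zero_smul, add_zero, hux, mul_zero, zero_sub, neg_neg] at ej
  refine P.C.eq_of_proj (P.C.conj_mem (mem_pair_centralizer.1 k.2).1 hx) hx'
    ⟨j, hj, ej⟩ ⟨a, ?_⟩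
  rw [e, smul_add, smul_smul]
  congr 2
  field_simp

theorem mem_inJ {z w : G} (hz : InJ d b z) (hw : InJ d b w) : InJ d b (z * w) := by
  have h : d * b * (d * b) = 1 := by
    rw [show d * b * (d * b) = d * (b * d) * b by group, ← P.commute_db.eq,
      show d * (d * b) * b = d * d * (b * b) by group, mul_self P.C.trans P.C.mem, mul_self P.C.trans P.hb.1, one_mul]
  rcases hz with rfl | rfl
  · rwa [one_mul]
  · rcases hw with rfl | rfl
    · exact Or.inr (mul_one _)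
    · exact Or.inl h

theorem inv_inJ {z : G} (hz : InJ d b z) : InJ d b z⁻¹ := by
  rcases hz with rfl | rfl
  · exact Or.inl inv_one
  · exact Or.inr (by rw [_root_.mul_inv_rev, inv_eq P.C.trans P.C.mem, inv_eq P.C.trans P.hb.1, P.commute_db.eq])

theorem commute_inJ {z k : G} (hz : InJ d b z) (hk : k ∈ Subgroup.centralizer ({d, b} : Set G)) : Commute k z := by
  rcases hz with rfl | rfl
  · exact Commute.one_right k
  · exact (mem_pair_centralizer.1 hk).1.mul_right (mem_pair_centralizer.1 hk).2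

/-- Commutators in the kernel lie in the pair. -/
theorem inV_commutator {k l : ↥(Subgroup.centralizer ({d, b} : Set G))} (hk : P.theta k = 1)
    (hl : P.theta l = 1) : InV d b ((k * l * k⁻¹ * l⁻¹ : ↥(Subgroup.centralizer ({d, b} : Set G))) : G) := by
  obtain ⟨f, hf, hbf⟩ := AutPSU.exists_partner hF (bv_iso hF)
  have hP : AutPSU.Hyp hF (bv : Fin 6 → F) f := ⟨bv_iso hF, hf, hbf⟩
  have hc : P.theta (k * l * k⁻¹ * l⁻¹) = 1 := by simp [map_mul, map_inv, hk, hl]
  refine P.inV_of_commute hc fun g hg => ?_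
  have h1 : transl hP (P.kerLift (⟨k, hk⟩ * ⟨l, hl⟩ * ⟨k, hk⟩⁻¹ * ⟨l, hl⟩⁻¹)) = 1 := by
    simp only [map_mul, map_inv]
    rw [mul_comm (transl hP (P.kerLift ⟨k, hk⟩)), mul_inv_cancel_right, mul_inv_cancel]
  exact commute_of_transl hP h1 hg

/-- No member pair of a four multiplies to a member of the pair. -/
theorem pair_ne {T : List G} (hT : Fib D d b T) {u w y : G} (hu : u ∈ T) (hw : w ∈ T) (hy : y = d ∨ y = b) :
    u * w ≠ y := by
  have hD := P.C.trans
  have hyD : y ∈ D := by rcases hy with rfl | rfl; exacts [P.C.mem, P.hb.1]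
  intro e
  rcases eq_or_ne u w with rfl | hne
  · rw [mul_self hD (hT.mem u hu).1.1] at e
    have h2 := hD.set.1 y hyD
    rw [← e, orderOf_one] at h2
    norm_num at h2
  have hyu : ∀ z ∈ T, z ≠ y ∧ Commute z y := fun z hz => by
    rcases hy with rfl | rfl
    exacts [⟨(hT.mem z hz).1.2.1, (hT.mem z hz).1.2.2.symm⟩, ⟨(hT.mem z hz).2.2.1, (hT.mem z hz).2.2.2.symm⟩]
  have h5 := noRel_five hD (fourField hF) (hB_isSymm hF 6) (hB_nondegenerate hF 6)
    (by rw [finrank_fin_fun]; norm_num) P.C.mem P.C.U ⟨d, P.C.mem, b, P.hb.1, P.hb.2.1.symm⟩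
  have := h5 [u, w, y] (by simp [hne, (hyu u hu).1, (hyu w hw).1])
    (by simp [(hT.mem u hu).1.1, (hT.mem w hw).1.1, hyD])
    (by simp [hT.comm u hu w hw, (hT.comm u hu w hw).symm, (hyu u hu).2, (hyu u hu).2.symm, (hyu w hw).2,
      (hyu w hw).2.symm])
    (fun z _ => by
      rw [show [u, w, y].prod = u * w * y by simp [mul_assoc], e, mul_self hD hyD]
      exact Commute.one_left z) (by simp)
  simp at this

/-- The kernel commutes with a product of two members of one four up to `db`. -/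
theorem inJ_commutator {k : ↥(Subgroup.centralizer ({d, b} : Set G))} (hk : P.theta k = 1) {x x' : G}
    (hx : x ∈ perp D d) (hxb : x ∈ perp D b) (hx' : x' ∈ perp D d) (hxb' : x' ∈ perp D b)
    (h : P.theta ⟨x, P.common_mem hx hxb⟩ = P.theta ⟨x', P.common_mem hx' hxb'⟩) :
    InJ d b ((k : G) * (x * x') * (k : G)⁻¹ * (x * x')⁻¹) := by
  classical
  have hD := P.C.trans
  rcases eq_or_ne x x' with rfl | hne
  · exact Or.inl (by rw [mul_self hD hx.1]; simp)
  obtain ⟨T, hT, hxT, hxT'⟩ := P.exists_fib hx hxb hx' hxb' h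
  have hin : ∀ z ∈ T, (k : G) * z * (k : G)⁻¹ ∈ T := fun z hz => by
    obtain ⟨h1, h2, e⟩ := P.theta_conj hk (hT.mem z hz).1 (hT.mem z hz).2
    obtain ⟨T', hT', hzT', hcT'⟩ := P.exists_fib (hT.mem z hz).1 (hT.mem z hz).2 h1 h2 e.symm
    exact (Fib.unique P.C P.C.mem P.hb hT' hT hzT' hz _).1 hcT'
  have hp := hin x hxT
  have hq := hin x' hxT'
  have hpq : (k : G) * x * (k : G)⁻¹ ≠ (k : G) * x' * (k : G)⁻¹ := fun e => hne ((MulAut.conj (k : G)).injective e)
  have hxx : P.theta (⟨x, P.common_mem hx hxb⟩ * ⟨x', P.common_mem hx' hxb'⟩) = 1 := by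
    rw [map_mul, ← h, ← map_mul, show (⟨x, P.common_mem hx hxb⟩ : ↥(Subgroup.centralizer ({d, b} : Set G))) *
      ⟨x, P.common_mem hx hxb⟩ = 1 from Subtype.ext (mul_self hD hx.1), map_one]
  have hV := P.inV_commutator hk hxx
  simp only [Subgroup.coe_mul, Subgroup.coe_inv] at hV
  obtain ⟨p, hpdef⟩ : ∃ p, p = (k : G) * x * (k : G)⁻¹ := ⟨_, rfl⟩
  obtain ⟨q, hqdef⟩ : ∃ q, q = (k : G) * x' * (k : G)⁻¹ := ⟨_, rfl⟩
  rw [← hpdef] at hp hpq
  rw [← hqdef] at hq hpq
  have hc : (k : G) * (x * x') * (k : G)⁻¹ * (x * x')⁻¹ = p * q * (x' * x) := by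
    rw [_root_.mul_inv_rev, inv_eq hD hx.1, inv_eq hD hx'.1, hpdef, hqdef]; group
  rw [hc] at hV ⊢
  have cpx := hT.comm p hp x hxT
  have cqx := hT.comm q hq x hxT
  have cpx' := hT.comm p hp x' hxT'
  have cqx' := hT.comm q hq x' hxT'
  have cxx := hT.comm x hxT x' hxT'
  have key : (∃ u w, u ∈ T ∧ w ∈ T ∧ p * q * (x' * x) = u * w) ∨ p * q * (x' * x) = d * b := by
    by_cases e1 : p = x
    · refine Or.inl ⟨q, x', hq, hxT', ?_⟩
      rw [e1, show x * q * (x' * x) = x * (q * x') * x by group, (cqx.symm.mul_right cxx).eq, mul_assoc,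
        mul_self hD hx.1, mul_one]
    by_cases e2 : p = x'
    · refine Or.inl ⟨q, x, hq, hxT, ?_⟩
      rw [e2, cqx'.symm.eq, show q * x' * (x' * x) = q * (x' * x' * x) by group, mul_self hD hx'.1, one_mul]
    by_cases e3 : q = x
    · refine Or.inl ⟨p, x', hp, hxT', ?_⟩
      rw [e3, cxx.symm.eq, show p * x * (x * x') = p * (x * x * x') by group, mul_self hD hx.1, one_mul]
    by_cases e4 : q = x'
    · refine Or.inl ⟨p, x, hp, hxT, ?_⟩
      rw [e4, show p * x' * (x' * x) = p * (x' * x' * x) by group, mul_self hD hx'.1, one_mul]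
    refine Or.inr ?_
    have hsub : [p, q, x', x] ⊆ T := by
      intro z hz
      simp only [List.mem_cons, List.not_mem_nil, or_false] at hz
      rcases hz with rfl | rfl | rfl | rfl <;> assumption
    have hnd : [p, q, x', x].Nodup := by simp [hpq, e1, e2, e3, e4, hne.symm]
    have hperm := (List.Nodup.subperm hnd hsub).perm_of_length_le (by rw [hT.len]; simp)
    rw [← hT.prod, ← prod_perm hperm fun u hu w hw => hT.comm u (hsub hu) w (hsub hw)]
    simp [mul_assoc]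
  rcases key with ⟨u, w, hu, hw, e⟩ | e
  · rcases hV with h' | h' | h' | h'
    · exact Or.inl h'
    · exact absurd (e ▸ h') (P.pair_ne hT hu hw (Or.inl rfl))
    · exact absurd (e ▸ h') (P.pair_ne hT hu hw (Or.inr rfl))
    · exact Or.inr h'
  · exact Or.inr e

theorem exists_pair_member {w : Fin 4 → F} (hw : AutPSU.Iso hF w) (t : F) :
    ∃ (x : G) (hx : x ∈ perp D d) (hxb : x ∈ perp D b), res (P.C.U.c x) ∈ {v | ∃ k : F, k ≠ 0 ∧ v = k • w} ∧
      (P.lift ⟨x, P.common_mem hx hxb⟩ : ↥(Cfsg.SU 6 F 2)) = AutPSU.tU hF (emb w + t • bv) 1 := by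
  obtain ⟨v, hv⟩ : ∃ v, v = emb w + t • (bv : Fin 6 → F) := ⟨_, rfl⟩
  have hbv : hB hF 6 bv v = 0 := by
    rw [hv, map_add, form_bv_emb, AutPSU.form_smul_right, (bv_iso hF).2, mul_zero, add_zero]
  have hres : res v = w := by rw [hv, res_add, res_emb, res_smul, res_bv, smul_zero, add_zero]
  have hvv : hB hF 6 v v = 0 := by rw [form_perp hF hbv hbv, hres]; exact hw.2
  have hv0 : v ≠ 0 := fun e => hw.1 (by rw [← hres, e, res_zero])
  obtain ⟨x, hx, k, hk, e⟩ := P.C.exists_point hv0 hvv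
  obtain ⟨j, hj, ej⟩ := P.hcb
  have hxb : x ∈ perp D b := by
    refine ⟨hx.1, fun h => ?_, (P.C.U.comm b P.hb x hx).2 ?_⟩
    · rw [h, ej] at e
      have := congrArg res e
      rw [res_smul, res_smul, res_bv, smul_zero, hres] at this
      exact hw.1 ((smul_eq_zero.1 this.symm).resolve_left hk)
    · rw [ej, e, AutPSU.form_smul_left, AutPSU.form_smul_right, hbv, mul_zero, mul_zero]
  refine ⟨x, hx, hxb, ⟨k, hk, by rw [e, res_smul, hres]⟩, ?_⟩
  rw [P.lift_member _ hx, ← hv]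
  show AutPSU.tU hF (P.C.U.c x) 1 = _
  rw [e, AutPSU.tU_smul hF hvv (skew_one hF), mul_one, (fourField hF).sq, (fourField hF).cube k hk]

/-- The two members and the products inside fours. -/
def gens : Set ↥(Subgroup.centralizer ({d, b} : Set G)) :=
  {k | (k : G) = d ∨ (k : G) = b ∨ ∃ (x x' : G) (hx : x ∈ perp D d) (hxb : x ∈ perp D b) (hx' : x' ∈ perp D d)
    (hxb' : x' ∈ perp D b), P.theta ⟨x, P.common_mem hx hxb⟩ = P.theta ⟨x', P.common_mem hx' hxb'⟩ ∧
      (k : G) = x * x'}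

theorem inV_mem {k : ↥(Subgroup.centralizer ({d, b} : Set G))} (hk : InV d b k) :
    k ∈ Subgroup.closure P.gens := by
  rcases hk with e | e | e | e
  · rw [show k = 1 from Subtype.ext e]; exact one_mem _
  · exact Subgroup.subset_closure (Or.inl e)
  · exact Subgroup.subset_closure (Or.inr (Or.inl e))
  · rw [show k = ⟨d, P.d_mem⟩ * ⟨b, P.b_mem⟩ from Subtype.ext e]
    exact mul_mem (Subgroup.subset_closure (Or.inl rfl)) (Subgroup.subset_closure (Or.inr (Or.inl rfl)))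

theorem theta_eq_of_res {x x' : G} (hx : x ∈ perp D d) (hxb : x ∈ perp D b) (hx' : x' ∈ perp D d)
    (hxb' : x' ∈ perp D b) {a : F} (ha : a ≠ 0) (h : res (P.C.U.c x') = a • res (P.C.U.c x)) :
    P.theta ⟨x, P.common_mem hx hxb⟩ = P.theta ⟨x', P.common_mem hx' hxb'⟩ := by
  rw [P.theta_member hx hxb, P.theta_member hx' hxb', h]
  refine congrArg QuotientGroup.mk ?_
  rw [AutPSU.tU_smul hF (P.res_iso hx hxb).2 (skew_one hF), mul_one, (fourField hF).sq, (fourField hF).cube a ha]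

/-- The residual translation of a kernel element. -/
noncomputable def kerTransl {f : Fin 6 → F} (hP : AutPSU.Hyp hF (bv : Fin 6 → F) f) :
    ↥P.theta.ker →* Multiplicative (Fin 4 → F) := (transl hP).comp P.kerLift

theorem kerTransl_apply {f : Fin 6 → F} (hP : AutPSU.Hyp hF (bv : Fin 6 → F) f) (s : ↥P.theta.ker) :
    (P.kerTransl hP s).toAdd =
      res (AutPSU.act (P.lift (s : ↥(Subgroup.centralizer ({d, b} : Set G))) : ↥(Cfsg.SU 6 F 2)) f - f) := by
  rw [kerTransl, MonoidHom.comp_apply, transl_apply]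
  rfl

theorem exists_gen {f : Fin 6 → F} (hP : AutPSU.Hyp hF (bv : Fin 6 → F) f) (l : F) {w : Fin 4 → F}
    (hw : AutPSU.Iso hF w) : ∃ s : ↥P.theta.ker,
      (s : ↥(Subgroup.centralizer ({d, b} : Set G))) ∈ Subgroup.closure P.gens ∧
        (P.kerTransl hP s).toAdd = l • w := by
  obtain ⟨x, hx, hxb, ⟨k₁, hk₁, r₁⟩, l₁⟩ := P.exists_pair_member hw 0
  obtain ⟨x', hx', hxb', ⟨k₂, hk₂, r₂⟩, l₂⟩ := P.exists_pair_member hw (frob hF l)
  have hsame : P.theta ⟨x, P.common_mem hx hxb⟩ = P.theta ⟨x', P.common_mem hx' hxb'⟩ :=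
    P.theta_eq_of_res hx hxb hx' hxb' (a := k₂ * k₁⁻¹) (mul_ne_zero hk₂ (inv_ne_zero hk₁))
      (by rw [r₂, r₁, smul_smul, mul_assoc, inv_mul_cancel₀ hk₁, mul_one])
  have hs : P.theta (⟨x, P.common_mem hx hxb⟩ * ⟨x', P.common_mem hx' hxb'⟩) = 1 := by
    rw [map_mul, ← hsame, ← map_mul, show (⟨x, P.common_mem hx hxb⟩ :
      ↥(Subgroup.centralizer ({d, b} : Set G))) * ⟨x, P.common_mem hx hxb⟩ = 1 from
      Subtype.ext (mul_self P.C.trans hx.1), map_one]
  refine ⟨⟨_, hs⟩, Subgroup.subset_closure (Or.inr (Or.inr ⟨x, x', hx, hxb, hx', hxb', hsame, rfl⟩)), ?_⟩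
  refine (P.kerTransl_apply hP _).trans ?_
  show res (AutPSU.act (P.lift (⟨x, P.common_mem hx hxb⟩ * ⟨x', P.common_mem hx' hxb'⟩) : ↥(Cfsg.SU 6 F 2)) f - f) =
    l • w
  rw [map_mul, Subgroup.coe_mul, l₁, l₂, pair_translation hF hP.hxf hw.2, frob_frob hF]

theorem transl_surj_gens {f : Fin 6 → F} (hP : AutPSU.Hyp hF (bv : Fin 6 → F) f) (w : Fin 4 → F) :
    ∃ s : ↥P.theta.ker, (s : ↥(Subgroup.centralizer ({d, b} : Set G))) ∈ Subgroup.closure P.gens ∧
      (P.kerTransl hP s).toAdd = w :=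
  iso_lines_span hF {w | ∃ s : ↥P.theta.ker, (s : ↥(Subgroup.centralizer ({d, b} : Set G))) ∈
    Subgroup.closure P.gens ∧ (P.kerTransl hP s).toAdd = w}
    (fun v w ⟨s, hs, es⟩ ⟨s', hs', es'⟩ => ⟨s * s', by rw [Subgroup.coe_mul]; exact mul_mem hs hs', by
      rw [map_mul, toAdd_mul, es, es']⟩)
    (fun l _ hw => P.exists_gen hP l hw) w

/-- The products inside fours generate the kernel modulo the pair. -/
theorem mem_closure_gens {k : ↥(Subgroup.centralizer ({d, b} : Set G))} (hk : P.theta k = 1) :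
    k ∈ Subgroup.closure P.gens := by
  obtain ⟨f, hf, hbf⟩ := AutPSU.exists_partner hF (bv_iso hF)
  have hP : AutPSU.Hyp hF (bv : Fin 6 → F) f := ⟨bv_iso hF, hf, hbf⟩
  obtain ⟨k', hk'⟩ : ∃ k' : ↥P.theta.ker, (k' : ↥(Subgroup.centralizer ({d, b} : Set G))) = k := ⟨⟨k, hk⟩, rfl⟩
  obtain ⟨s, hs, es⟩ := P.transl_surj_gens hP (P.kerTransl hP k').toAdd
  obtain ⟨t, ht⟩ : ∃ t : ↥P.theta.ker, t = s⁻¹ * k' := ⟨_, rfl⟩
  have h1 : P.kerTransl hP t = 1 := by
    rw [ht, map_mul, map_inv, Multiplicative.toAdd.injective es, inv_mul_cancel]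
  have h1' : transl hP (P.kerLift t) = 1 := by rw [← h1, kerTransl, MonoidHom.comp_apply]
  have hV : InV d b (t : ↥(Subgroup.centralizer ({d, b} : Set G))) :=
    P.inV_of_commute t.2 fun g hg => commute_of_transl hP h1' hg
  have := mul_mem hs (P.inV_mem hV)
  rwa [ht, Subgroup.coe_mul, Subgroup.coe_inv, mul_inv_cancel_left, hk'] at this

/-- Squares and commutators in the kernel are `1` or `db`. -/
theorem kernel_inJ {k : ↥(Subgroup.centralizer ({d, b} : Set G))} (hk : P.theta k = 1) :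
    InJ d b ((k : G) * k) ∧ ∀ l : ↥(Subgroup.centralizer ({d, b} : Set G)), P.theta l = 1 →
      InJ d b ((l : G) * k * (l : G)⁻¹ * (k : G)⁻¹) := by
  have hD := P.C.trans
  suffices h : P.theta k = 1 ∧ InJ d b ((k : G) * k) ∧ ∀ l : ↥(Subgroup.centralizer ({d, b} : Set G)),
      P.theta l = 1 → InJ d b ((l : G) * k * (l : G)⁻¹ * (k : G)⁻¹) from h.2
  refine Subgroup.closure_induction (p := fun k _ => P.theta k = 1 ∧ InJ d b ((k : G) * k) ∧
    ∀ l : ↥(Subgroup.centralizer ({d, b} : Set G)), P.theta l = 1 →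
      InJ d b ((l : G) * k * (l : G)⁻¹ * (k : G)⁻¹)) ?_ ?_ ?_ ?_ (P.mem_closure_gens hk)
  · rintro z (e | e | ⟨x, x', hx, hxb, hx', hxb', h, e⟩)
    · refine ⟨?_, Or.inl (by rw [e, mul_self hD P.C.mem]), fun l _ => Or.inl ?_⟩
      · rw [theta, MonoidHom.comp_apply, (P.lift_eq_one_iff z).2 (Or.inr e), map_one]
      · rw [e, (mem_pair_centralizer.1 l.2).1.eq, mul_inv_cancel_right, mul_inv_cancel]
    · refine ⟨?_, Or.inl (by rw [e, mul_self hD P.hb.1]), fun l _ => Or.inl ?_⟩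
      · rw [P.theta_eq_one_iff, show z = ⟨b, P.b_mem⟩ from Subtype.ext e, P.lift_b]
        obtain ⟨f, hf, hbf⟩ := AutPSU.exists_partner hF (bv_iso hF)
        exact tU_mem (⟨bv_iso hF, hf, hbf⟩ : AutPSU.Hyp hF (bv : Fin 6 → F) f)
      · rw [e, (mem_pair_centralizer.1 l.2).2.eq, mul_inv_cancel_right, mul_inv_cancel]
    · obtain ⟨T, hT, hxT, hxT'⟩ := P.exists_fib hx hxb hx' hxb' h
      refine ⟨?_, Or.inl ?_, fun l hl => by rw [e]; exact P.inJ_commutator hl hx hxb hx' hxb' h⟩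
      · rw [show z = ⟨x, P.common_mem hx hxb⟩ * ⟨x', P.common_mem hx' hxb'⟩ from Subtype.ext e, map_mul, ← h,
          ← map_mul, show (⟨x, P.common_mem hx hxb⟩ : ↥(Subgroup.centralizer ({d, b} : Set G))) *
          ⟨x, P.common_mem hx hxb⟩ = 1 from Subtype.ext (mul_self hD hx.1), map_one]
      · rw [e, show x * x' * (x * x') = x * (x' * x) * x' by group, ← (hT.comm x hxT x' hxT').eq,
          show x * (x * x') * x' = x * x * (x' * x') by group, mul_self hD hx.1, mul_self hD hx'.1, one_mul]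
  · exact ⟨map_one _, Or.inl (by simp), fun l _ => Or.inl (by simp)⟩
  · rintro s t - - ⟨hs, hs2, hsc⟩ ⟨ht, ht2, htc⟩
    refine ⟨by rw [map_mul, hs, ht, one_mul], ?_, fun l hl => ?_⟩
    · obtain ⟨z, hz⟩ : ∃ z, z = (t : G) * s * (t : G)⁻¹ * (s : G)⁻¹ := ⟨_, rfl⟩
      have hzJ : InJ d b z := hz ▸ hsc t ht
      rw [Subgroup.coe_mul, show (s : G) * t * (s * t) = s * z * (s * t * t) by rw [hz]; group,
        (P.commute_inJ hzJ s.2).eq, show z * (s : G) * (s * t * t) = z * ((s : G) * s * ((t : G) * t)) by group]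
      exact P.mem_inJ hzJ (P.mem_inJ hs2 ht2)
    · obtain ⟨z, hz⟩ : ∃ z, z = (l : G) * t * (l : G)⁻¹ * (t : G)⁻¹ := ⟨_, rfl⟩
      have hzJ : InJ d b z := hz ▸ htc l hl
      rw [Subgroup.coe_mul, show (l : G) * (s * t) * (l : G)⁻¹ * ((s : G) * t)⁻¹ =
        (l : G) * s * (l : G)⁻¹ * z * (s : G)⁻¹ by rw [hz]; group,
        mul_assoc _ z, ← (P.commute_inJ hzJ (inv_mem s.2)).eq, ← mul_assoc]
      exact P.mem_inJ (hsc l hl) hzJ
  · rintro s - ⟨hs, hs2, hsc⟩
    refine ⟨by rw [map_inv, hs, inv_one], by rw [Subgroup.coe_inv, ← _root_.mul_inv_rev]; exact P.inv_inJ hs2,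
      fun l hl => ?_⟩
    obtain ⟨z, hz⟩ : ∃ z, z = (l : G) * s * (l : G)⁻¹ * (s : G)⁻¹ := ⟨_, rfl⟩
    have hzJ : InJ d b z := hz ▸ hsc l hl
    rw [Subgroup.coe_inv, inv_inv, show (l : G) * (s : G)⁻¹ * (l : G)⁻¹ * s = (s : G)⁻¹ * z⁻¹ * s by
      rw [hz]; group, (P.commute_inJ (P.inv_inJ hzJ) (inv_mem s.2)).eq, inv_mul_cancel_right]
    exact P.inv_inJ hzJ

end Base

end Cfsg.Lib.Fischer.Relations.TwoPair
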