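import Cfsg.Agent.Lib.Fischer.Relations.M22
import Cfsg.Agent.Lib.Fischer.Relations.Centralizer.Main
import Cfsg.Agent.Lib.Fischer.Relations.Centralizer.Triples

/-!
# Hexads through a commuting pair and the elements exchanging the pair

The common neighbours of a commuting pair fall into fours completing hexads. An element exchanging the
pair and fixing some common neighbour moves one of these fours: on an isotropic plane it is linear, while
keeping every four would make it agree with a field automorphism.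
-/

set_option autoImplicit false
set_option linter.unusedSectionVars false

namespace Cfsg.Lib.Fischer.Relations.TwoPair

open Module Cfsg Cfsg.Lib.Fischer Cfsg.Lib.Linear.Herm Cfsg.Agent.S1631 Cfsg.Lib.Fischer.RadicalAbelian
open Cfsg.Lib.Linear

variable {G : Type*} [Group G] [Finite G] {D : Set G}
  {F : Type} [Field F] [Fintype F] {hF : Fintype.card F = 2 ^ 2} {d : G}

/-- Four common neighbours of `a` and `b` completing a hexad. -/
structure Fib (D : Set G) (a b : G) (T : List G) : Prop where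
  nodup : T.Nodup
  len : T.length = 4
  mem : ∀ z ∈ T, z ∈ perp D a ∧ z ∈ perp D b
  comm : ∀ z ∈ T, ∀ w ∈ T, Commute z w
  prod : T.prod = a * b

theorem Fib.conj (hD : Trans D) {a b : G} {T : List G} (h : Fib D a b T) (g : G) :
    Fib D (g * a * g⁻¹) (g * b * g⁻¹) (T.map fun x => g * x * g⁻¹) := by
  refine ⟨h.nodup.map (MulAut.conj g).injective, by rw [List.length_map, h.len], ?_, ?_, ?_⟩
  · intro z hz
    obtain ⟨x, hx, rfl⟩ := List.mem_map.1 hz
    exact ⟨(mem_perp_conj hD g a _).2 (by simpa [mul_assoc] using (h.mem x hx).1),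
      (mem_perp_conj hD g b _).2 (by simpa [mul_assoc] using (h.mem x hx).2)⟩
  · intro z hz w hw
    obtain ⟨x, hx, rfl⟩ := List.mem_map.1 hz
    obtain ⟨y, hy, rfl⟩ := List.mem_map.1 hw
    exact (Commute.conj_iff g).2 (h.comm x hx y hy)
  · rw [prod_conj_list hD, h.prod]
    group

theorem Fib.six {a b : G} {T : List G} (h : Fib D a b T) (ha : a ∈ D) (hb : b ∈ perp D a) :
    (a :: b :: T).Nodup ∧ (∀ x ∈ a :: b :: T, x ∈ D) ∧
      ∀ x ∈ a :: b :: T, ∀ y ∈ a :: b :: T, Commute x y := by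
  refine ⟨?_, ?_, ?_⟩
  · rw [List.nodup_cons, List.nodup_cons, List.mem_cons, not_or]
    exact ⟨⟨hb.2.1.symm, fun e => (h.mem a e).1.2.1 rfl⟩, fun e => (h.mem b e).2.2.1 rfl, h.nodup⟩
  · intro x hx
    simp only [List.mem_cons] at hx
    rcases hx with rfl | rfl | hx
    exacts [ha, hb.1, (h.mem x hx).1.1]
  · intro x hx y hy
    simp only [List.mem_cons] at hx hy
    rcases hx with rfl | rfl | hx <;> rcases hy with rfl | rfl | hy
    · exact Commute.refl _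
    · exact hb.2.2
    · exact (h.mem y hy).1.2.2
    · exact hb.2.2.symm
    · exact Commute.refl _
    · exact (h.mem y hy).2.2.2
    · exact (h.mem x hx).1.2.2.symm
    · exact (h.mem x hx).2.2.2.symm
    · exact h.comm x hx y hy

theorem Fib.six_prod (hD : Trans D) {a b : G} {T : List G} (h : Fib D a b T) (ha : a ∈ D) (hb : b ∈ perp D a) :
    (a :: b :: T).prod = 1 := by
  rw [List.prod_cons, List.prod_cons, h.prod, hb.2.2.eq, ← mul_assoc b, mul_self hD hb.1, one_mul, mul_self hD ha]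

namespace Fib

variable (C : Coord D d hF)
include C

/-- A common neighbour lies in one four only. -/
theorem unique {a b z : G} {T T' : List G} (ha : a ∈ D) (hb : b ∈ perp D a) (h : Fib D a b T) (h' : Fib D a b T')
    (hz : z ∈ T) (hz' : z ∈ T') (x : G) : x ∈ T ↔ x ∈ T' := by
  classical
  have hD := C.trans
  obtain ⟨hzA, hzB⟩ := h.mem z hz
  have hsub : ∀ y ∈ [a, b, z], y ∈ a :: b :: T := fun y hy => by
    simp only [List.mem_cons, List.not_mem_nil, or_false] at hy ⊢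
    rcases hy with rfl | rfl | rfl
    exacts [Or.inl rfl, Or.inr (Or.inl rfl), Or.inr (Or.inr hz)]
  obtain ⟨-, hl6, hc6⟩ := h.six ha hb
  have hnd : [a, b, z].Nodup := by simp [hb.2.1.symm, hzA.2.1.symm, hzB.2.1.symm]
  obtain ⟨e, f, g, -, -, hex⟩ := three_exactly_two hD C.prim C.cen C.sep C.nbr hnd (fun y hy => hl6 y (hsub y hy))
    (fun y hy w hw => hc6 y (hsub y hy) w (hsub w hw))
  have key : ∀ S : List G, Fib D a b S → z ∈ S → ∀ y, y ∈ S.erase z ↔ y ∈ [e, f, g] := by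
    intro S hS hzS
    have hp := List.perm_cons_erase hzS
    have hmem : ∀ y ∈ S.erase z, y ∈ S := fun y hy => List.mem_of_mem_erase hy
    rcases hex (S.erase z) (hS.nodup.erase z) (by rw [List.length_erase_of_mem hzS, hS.len])
      (fun y hy => (hS.mem y (hmem y hy)).1.1) (fun y hy w hw => hS.comm y (hmem y hy) w (hmem w hw)) (by
        have h1 : z * (S.erase z).prod = a * b := by rw [← List.prod_cons, ← prod_perm hp hS.comm, hS.prod]
        calc (S.erase z).prod = z * (z * (S.erase z).prod) := by rw [← mul_assoc, mul_self hD hzA.1, one_mul]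
          _ = [a, b, z].prod := by
            rw [h1, (hzA.2.2.symm.mul_right hzB.2.2.symm).eq]
            simp [mul_assoc]) with h1 | h1
    · exact absurd rfl (hS.mem a (hmem a ((h1 a).2 (by simp)))).1.2.1
    · exact h1
  rw [(List.perm_cons_erase hz).mem_iff, (List.perm_cons_erase hz').mem_iff, List.mem_cons, List.mem_cons,
    key T h hz, key T' h' hz']

/-- A four with a member among the neighbours of `d` off the line of the pair lies among them. -/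
theorem perp_d {a b x : G} {T : List G} (ha : a ∈ perp D d) (hb : b ∈ perp D d) (hba : b ∈ perp D a)
    (h : Fib D a b T) (hxT : x ∈ T) (hxS : x ∈ perp D d)
    (hx : ∀ α β : F, C.U.c x ≠ α • C.U.c a + β • C.U.c b) {z : G} (hz : z ∈ T) : z ∈ perp D d := by
  classical
  have hD := C.trans
  obtain ⟨hnd, hl, hc⟩ := h.six ha.1 hba
  have hall : ∀ w ∈ a :: b :: T, Commute d w := by
    intro w hw
    by_contra hdw
    rcases pattern hD C.mem hnd hl hc (by rw [h.six_prod hD ha.1 hba]; exact Commute.one_left d) with h0 | h4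
    · rw [List.length_eq_zero_iff, List.filter_eq_nil_iff] at h0
      exact h0 w hw (by simpa using hdw)
    · have hsub : ((a :: b :: T).filter fun u => decide (¬ Commute d u)) ⊆ T.erase x := by
        intro u hu
        simp only [List.mem_filter, List.mem_cons, decide_eq_true_eq] at hu
        obtain ⟨hu, hdu⟩ := hu
        rcases hu with rfl | rfl | hu
        · exact absurd ha.2.2 hdu
        · exact absurd hb.2.2 hdu
        · exact (List.mem_erase_of_ne (fun e => hdu (by rw [e]; exact hxS.2.2))).2 hu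
      have h3 := (List.Nodup.subperm (hnd.filter _) hsub).length_le
      rw [List.length_erase_of_mem hxT, h.len] at h3
      omega
  refine ⟨(h.mem z hz).1.1, fun e => ?_, hall z (by simp [hz])⟩
  rw [e] at hz
  have hp := List.perm_cons_erase hz
  have hxe : x ∈ T.erase d := (List.mem_erase_of_ne hxS.2.1).2 hxT
  have hin : ∀ w ∈ a :: b :: T.erase d, w ∈ perp D d := fun w hw => by
    simp only [List.mem_cons] at hw
    rcases hw with rfl | rfl | hw
    · exact ha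
    · exact hb
    · rw [h.nodup.mem_erase_iff] at hw
      exact ⟨(h.mem w hw.2).1.1, hw.1, hall w (by simp [hw.2])⟩
  have hsub : ∀ w ∈ a :: b :: T.erase d, w ∈ a :: b :: T := fun w hw => by
    simp only [List.mem_cons] at hw ⊢
    exact hw.imp_right (Or.imp_right List.mem_of_mem_erase)
  have hp5 : (a :: b :: T.erase d).prod = d := by
    have h1 : (d :: a :: b :: T.erase d).prod = 1 := by
      rw [← h.six_prod hD ha.1 hba]
      refine prod_perm (((List.Perm.swap a d _).trans ((List.Perm.swap b d _).cons a)).trans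
        ((hp.symm.cons b).cons a)) fun u hu v hv => ?_
      have hm : ∀ u ∈ d :: a :: b :: T.erase d, u ∈ a :: b :: T := fun u hu => by
        rcases List.mem_cons.1 hu with rfl | hu
        · simp [hz]
        · exact hsub u hu
      exact hc u (hm u hu) v (hm v hv)
    rw [List.prod_cons] at h1
    rw [eq_inv_of_mul_eq_one_right h1, inv_eq hD C.mem]
  obtain ⟨α, β, e'⟩ := C.U.five_span (fourField hF) (hB_isSymm hF 6) (hB_nondegenerate hF 6)
    (by rw [finrank_fin_fun]; norm_num) (by rw [List.length_erase_of_mem hz, h.len])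
    (hnd.sublist (((List.erase_sublist (a := d) (l := T)).cons₂ b).cons₂ a)) hin
    (fun u hu v hv => hc u (hsub u hu) v (hsub v hv)) (fun y hy => by rw [hp5]; exact hy.2.2) hxe
  exact hx α β e'

end Fib

theorem sq_add (hF : Fintype.card F = 2 ^ 2) (x y : F) : (x + y) * (x + y) = x * x + y * y := by
  linear_combination x * y * (fourField hF).two

theorem fourth (hF : Fintype.card F = 2 ^ 2) (x : F) : x * x * (x * x) = x := by
  rcases eq_or_ne x 0 with rfl | hx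
  · simp
  · linear_combination x * (fourField hF).cube x hx

/-- The solutions of the equations of a four through `(0, q, 1)`. -/
theorem four_graph (hF : Fintype.card F = 2 ^ 2) {q p₂ p₃ p₄ q₂ q₃ q₄ : F}
    (hp : p₂ + p₃ + p₄ = 0) (hN : p₂ * p₂ * p₂ + p₃ * p₃ * p₃ + p₄ * p₄ * p₄ + 1 = 0)
    (hq : q + q₂ + q₃ + q₄ = 0) (hpq : p₂ * p₂ * q₂ + p₃ * p₃ * q₃ + p₄ * p₄ * q₄ = 0) :
    ∃ c : F, q₂ = c * (p₂ * p₂) + q ∧ q₃ = c * (p₃ * p₃) + q ∧ q₄ = c * (p₄ * p₄) + q := by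
  have h2 := (fourField hF).two
  have hne : ∀ x y : F, x + y = 0 → x * x * x + y * y * y + 1 = 0 → False := fun x y hxy hx => by
    have e : x = y := by linear_combination hxy - y * h2
    subst e
    exact one_ne_zero (by linear_combination hx - x * x * x * h2)
  have h20 : p₂ ≠ 0 := fun e => hne p₃ p₄ (by linear_combination hp - e)
    (by linear_combination hN - (p₂ * p₂) * e)
  have hsq : p₂ * p₂ + p₃ * p₃ + p₄ * p₄ = 0 := by
    linear_combination (p₂ + p₃ + p₄) * hp - (p₂ * p₃ + p₂ * p₄ + p₃ * p₄) * h2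
  have hc2 := (fourField hF).cube p₂ h20
  obtain ⟨c, hc⟩ : ∃ c, c = (q₂ + q) * p₂ := ⟨_, rfl⟩
  have e2 : q₂ + q = c * (p₂ * p₂) := by rw [hc]; linear_combination -(q₂ + q) * hc2
  -- the third and fourth residues
  have hr : (q₂ + q) + (q₃ + q) + (q₄ + q) = 0 := by linear_combination hq + q * h2
  have hpr : p₂ * p₂ * (q₂ + q) + p₃ * p₃ * (q₃ + q) + p₄ * p₄ * (q₄ + q) = 0 := by
    linear_combination hpq + q * hsq
  have e3' : p₂ * p₂ * (q₃ + q) = p₃ * p₃ * (q₂ + q) := by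
    linear_combination hpr - p₄ * p₄ * hr + ((q₂ + q) + (q₃ + q)) * hsq
      - (p₂ * p₂ * (q₂ + q) + p₃ * p₃ * (q₃ + q) + p₃ * p₃ * (q₂ + q)) * h2
  have e3 : q₃ + q = c * (p₃ * p₃) := by
    rw [hc]; linear_combination p₂ * e3' - (q₃ + q) * hc2
  have e4 : q₄ + q = c * (p₄ * p₄) := by
    linear_combination hr - e2 - e3 - c * hsq
  exact ⟨c, by linear_combination e2 - q * h2, by linear_combination e3 - q * h2,
    by linear_combination e4 - q * h2⟩

theorem hB_pv_single (hF : Fintype.card F = 2 ^ 2) (p q r : F) :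
    hB hF 6 (pv p q r) (Pi.single 0 1) = p * p ∧ hB hF 6 (pv p q r) (Pi.single 2 1) = q * q ∧
      hB hF 6 (pv p q r) (Pi.single 4 1) = r * r := by
  refine ⟨?_, ?_, ?_⟩ <;> rw [hB_single_right] <;> simp [pv, pow_two]

section Std

variable (C : Coord D d hF) {M : F → F → F → G} (hM : ∀ a b c, a ≠ 0 ∨ b ≠ 0 ∨ c ≠ 0 →
    M a b c ∈ perp D d ∧ ∃ k : F, k ≠ 0 ∧ C.U.c (M a b c) = k • pv a b c)
include C hM

/-- A four through a point of the plane is the graph of a semilinear map. -/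
theorem graph_of_fib {q : F} {T : List G} (h : Fib D (M 1 0 0) (M 0 1 0) T) (hx : M 0 q 1 ∈ T) :
    ∃ c : F, (∀ z ∈ T, ∃ p : F, z = M p (c * (p * p) + q) 1) ∧ ∀ p : F, M p (c * (p * p) + q) 1 ∈ T := by
  classical
  have hK := fourField hF
  have hS := hB_isSymm hF 6
  have hB' := hB_nondegenerate hF 6
  have h5 : 5 ≤ finrank F (Fin 6 → F) := by rw [finrank_fin_fun]; norm_num
  have h1 : (1 : F) ≠ 0 ∨ (0 : F) ≠ 0 ∨ (0 : F) ≠ 0 := Or.inl one_ne_zero
  have h2 : (0 : F) ≠ 0 ∨ (1 : F) ≠ 0 ∨ (0 : F) ≠ 0 := Or.inr (Or.inl one_ne_zero)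
  have h3 : ∀ p q : F, p ≠ 0 ∨ q ≠ 0 ∨ (1 : F) ≠ 0 := fun _ _ => Or.inr (Or.inr one_ne_zero)
  obtain ⟨haS, ja, hja, eja⟩ := hM 1 0 0 h1
  obtain ⟨hbS, jb, hjb, ejb⟩ := hM 0 1 0 h2
  obtain ⟨hxS, jx, hjx, ejx⟩ := hM 0 q 1 (h3 0 q)
  have hba : M 0 1 0 ∈ perp D (M 1 0 0) := ⟨hbS.1, fun e => by
    obtain ⟨k, -, -, e2, -⟩ := C.pm_eq hM h2 h1 e
    simp at e2, C.pm_commute hM h1 h2⟩
  have hspan : ∀ α β : F, C.U.c (M 0 q 1) ≠ α • C.U.c (M 1 0 0) + β • C.U.c (M 0 1 0) := fun α β e => by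
    rw [ejx, eja, ejb, smul_pv, smul_pv, smul_pv, smul_pv, smul_pv, add_pv] at e
    have := (pv_inj e).2.2
    simp at this
    exact hjx this
  have hperp : ∀ z ∈ T, z ∈ perp D d := fun z hz => Fib.perp_d C haS hbS hba h hx hxS hspan hz
  -- the four lies in the plane
  have hplane : ∀ z ∈ T, ∃ p q r : F, (p ≠ 0 ∨ q ≠ 0 ∨ r ≠ 0) ∧ z = M p q r := by
    intro z hz
    have hz' := hperp z hz
    have o1 := (C.U.comm _ haS z hz').1 (h.mem z hz).1.2.2
    have o2 := (C.U.comm _ hbS z hz').1 (h.mem z hz).2.2.2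
    have o3 := (C.U.comm _ hxS z hz').1 (h.comm _ hx z hz)
    rw [eja, AutPSU.form_smul_left, mul_eq_zero, map_eq_zero] at o1
    rw [ejb, AutPSU.form_smul_left, mul_eq_zero, map_eq_zero] at o2
    rw [ejx, AutPSU.form_smul_left, mul_eq_zero, map_eq_zero] at o3
    have p1 := o1.resolve_left hja
    have p2 := o2.resolve_left hjb
    have p3 := o3.resolve_left hjx
    simp [hB_apply, Cfsg.hermForm, pv, Fin.sum_univ_six] at p1 p2 p3
    have e1 : C.U.c z 1 = C.U.c z 0 := by linear_combination p1 - C.U.c z 0 * hK.two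
    have e2 : C.U.c z 3 = C.U.c z 2 := by linear_combination p2 - C.U.c z 2 * hK.two
    have e3 : C.U.c z 5 = C.U.c z 4 := by
      linear_combination p3 - C.U.c z 4 * hK.two - q ^ 2 * p2
    have e : C.U.c z = pv (C.U.c z 0) (C.U.c z 2) (C.U.c z 4) := by
      ext i; fin_cases i <;> simp [pv, e1, e2, e3]
    have hne : C.U.c z 0 ≠ 0 ∨ C.U.c z 2 ≠ 0 ∨ C.U.c z 4 ≠ 0 := by
      by_contra hh
      push Not at hh
      apply C.U.ne z hz'
      rw [e, hh.1, hh.2.1, hh.2.2]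
      ext i; fin_cases i <;> simp [pv]
    obtain ⟨hs, k, hk, ek⟩ := hM _ _ _ hne
    exact ⟨_, _, _, hne, C.eq_of_proj hz' hs ⟨1, one_ne_zero, by rw [one_smul]; exact e⟩ ⟨k, ek⟩⟩
  obtain ⟨hnd, -, hc⟩ := h.six haS.1 hba
  -- the equation of the six
  have hp := List.perm_cons_erase hx
  obtain ⟨z₂, z₃, z₄, hE⟩ : ∃ u v w, T.erase (M 0 q 1) = [u, v, w] := by
    have hl : (T.erase (M 0 q 1)).length = 3 := by rw [List.length_erase_of_mem hx, h.len]
    match T.erase (M 0 q 1), hl with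
    | [u, v, w], _ => exact ⟨u, v, w, rfl⟩
  rw [hE] at hp
  have hin : ∀ z ∈ [z₂, z₃, z₄], z ∈ T := fun z hz => hp.mem_iff.2 (List.mem_cons_of_mem _ hz)
  obtain ⟨p₂, q₂, r₂, n₂, ez₂⟩ := hplane z₂ (hin z₂ (by simp))
  obtain ⟨p₃, q₃, r₃, n₃, ez₃⟩ := hplane z₃ (hin z₃ (by simp))
  obtain ⟨p₄, q₄, r₄, n₄, ez₄⟩ := hplane z₄ (hin z₄ (by simp))
  have hl6 : ∀ z ∈ M 1 0 0 :: M 0 1 0 :: T, z ∈ perp D d := by
    intro z hz
    simp only [List.mem_cons] at hz
    rcases hz with rfl | rfl | hz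
    exacts [haS, hbS, hperp z hz]
  have hperm6 := (hp.cons (M 0 1 0)).cons (M 1 0 0)
  have hl6' : ∀ z ∈ [M 1 0 0, M 0 1 0, M 0 q 1, z₂, z₃, z₄], z ∈ M 1 0 0 :: M 0 1 0 :: T :=
    fun z hz => hperm6.mem_iff.2 hz
  have hact : ∀ y, Linear.act (hB hF 6)
      [pv 1 0 0, pv 0 1 0, pv 0 q 1, pv p₂ q₂ r₂, pv p₃ q₃ r₃, pv p₄ q₄ r₄] y = 0 := by
    intro y
    have h0 := (C.U.central_iff hK hS hB' h5 (l := [M 1 0 0, M 0 1 0, M 0 q 1, z₂, z₃, z₄])
      (fun z hz => hl6 z (hl6' z hz)) (fun z hz w hw => hc z (hl6' z hz) w (hl6' w hw))).1 (fun w _ => by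
        rw [← prod_perm hperm6 hc, h.six_prod C.trans haS.1 hba]; exact Commute.one_left w) y
    rw [act_scale (vs := [pv 1 0 0, pv 0 1 0, pv 0 q 1, pv p₂ q₂ r₂, pv p₃ q₃ r₃, pv p₄ q₄ r₄])] at h0
    · exact h0
    · refine .cons ⟨ja, hja, eja⟩ (.cons ⟨jb, hjb, ejb⟩ (.cons ⟨jx, hjx, ejx⟩ (.cons ?_ (.cons ?_ (.cons ?_ .nil)))))
      · rw [ez₂]; exact (hM _ _ _ n₂).2
      · rw [ez₃]; exact (hM _ _ _ n₃).2
      · rw [ez₄]; exact (hM _ _ _ n₄).2
  have get : ∀ y, ∀ i : Fin 6, _ = (0 : F) := fun y i => congrFun (hact y) i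
  have z00 := get (Pi.single 0 1) 0
  have z02 := get (Pi.single 0 1) 2
  have z04 := get (Pi.single 0 1) 4
  have z40 := get (Pi.single 4 1) 0
  have z42 := get (Pi.single 4 1) 2
  have z44 := get (Pi.single 4 1) 4
  simp only [Linear.act_cons, show ∀ v, Linear.act (hB hF 6) ([] : List (Fin 6 → F)) v = 0 from fun _ => rfl,
    (hB_pv_single hF _ _ _).1, (hB_pv_single hF _ _ _).2.2] at z00 z02 z04 z40 z42 z44
  simp [pv] at z00 z02 z04 z40 z42 z44
  -- every member has a third coordinate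
  have hne4 : (M 0 q 1 :: [z₂, z₃, z₄]).Nodup := (hp.nodup_iff).1 h.nodup
  simp at hne4
  have hcube : ∀ r : F, r ≠ 0 → r * r * r = 1 := hK.cube
  have hsingle : ∀ p' q' r' : F, r' ≠ 0 → r' * r' * p' = 0 → q + r' * r' * q' = 0 → M p' q' r' = M 0 q 1 := by
    intro p' q' r' hr hp' hq'
    have hr2 : r' * r' ≠ 0 := mul_ne_zero hr hr
    obtain ⟨hs, k, hk, ek⟩ := hM p' q' r' (Or.inr (Or.inr hr))
    refine C.eq_of_proj hs hxS ⟨k * r', mul_ne_zero hk hr, ?_⟩ ⟨jx, ejx⟩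
    have hp0 : p' = 0 := (mul_eq_zero.1 hp').resolve_left hr2
    rw [ek, mul_smul, smul_pv r', mul_zero, mul_one]
    congr 2
    linear_combination r' * hq' - q' * hcube r' hr - r' * q * hK.two
  have hr : r₂ ≠ 0 ∧ r₃ ≠ 0 ∧ r₄ ≠ 0 := by
    rcases eq_or_ne r₂ 0 with e2 | e2 <;> rcases eq_or_ne r₃ 0 with e3 | e3 <;>
      rcases eq_or_ne r₄ 0 with e4 | e4
    · simp [e2, e3, e4] at z44
    · simp [e2, e3] at z40 z42
      exact absurd (hsingle _ _ _ e4 (by rcases z40 with h | h <;> simp [h]) z42)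
        (ez₄ ▸ Ne.symm hne4.1.2.2)
    · simp [e2, e4] at z40 z42
      exact absurd (hsingle _ _ _ e3 (by rcases z40 with h | h <;> simp [h]) z42)
        (ez₃ ▸ Ne.symm hne4.1.2.1)
    · simp [e2, hcube _ e3, hcube _ e4] at z44
      exact absurd z44 (fun hh => one_ne_zero (α := F) (by linear_combination hh - hK.two))
    · simp [e3, e4] at z40 z42
      exact absurd (hsingle _ _ _ e2 (by rcases z40 with h | h <;> simp [h]) z42)
        (ez₂ ▸ Ne.symm hne4.1.1)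
    · simp [e3, hcube _ e2, hcube _ e4] at z44
      exact absurd z44 (fun hh => one_ne_zero (α := F) (by linear_combination hh - hK.two))
    · simp [e4, hcube _ e2, hcube _ e3] at z44
      exact absurd z44 (fun hh => one_ne_zero (α := F) (by linear_combination hh - hK.two))
    · exact ⟨e2, e3, e4⟩
  obtain ⟨hr₂, hr₃, hr₄⟩ := hr
  have hnorm : ∀ p' q' r' : F, r' ≠ 0 → M p' q' r' = M (r' * r' * p') (r' * r' * q') 1 := by
    intro p' q' r' hr
    obtain ⟨hs, k, hk, ek⟩ := hM p' q' r' (Or.inr (Or.inr hr))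
    obtain ⟨hs', k', -, ek'⟩ := hM (r' * r' * p') (r' * r' * q') 1 (h3 _ _)
    refine C.eq_of_proj hs hs' ⟨k * r', mul_ne_zero hk hr, ?_⟩ ⟨k', ek'⟩
    rw [ek, mul_smul, smul_pv r']
    congr 2
    · linear_combination -p' * hcube r' hr
    · linear_combination -q' * hcube r' hr
    · rw [mul_one]
  have c2 := hcube r₂ hr₂
  have c3 := hcube r₃ hr₃
  have c4 := hcube r₄ hr₄
  obtain ⟨c, g₂, g₃, g₄⟩ := four_graph hF (q := q) (p₂ := r₂ * r₂ * p₂) (p₃ := r₃ * r₃ * p₃)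
    (p₄ := r₄ * r₄ * p₄) (q₂ := r₂ * r₂ * q₂) (q₃ := r₃ * r₃ * q₃) (q₄ := r₄ * r₄ * q₄)
    (by linear_combination z40)
    (by linear_combination z00 + p₂ * p₂ * p₂ * (r₂ * r₂ * r₂ + 1) * c2
      + p₃ * p₃ * p₃ * (r₃ * r₃ * r₃ + 1) * c3 + p₄ * p₄ * p₄ * (r₄ * r₄ * r₄ + 1) * c4)
    (by linear_combination z42)
    (by linear_combination z02 + p₂ * p₂ * q₂ * (r₂ * r₂ * r₂ + 1) * c2
      + p₃ * p₃ * q₃ * (r₃ * r₃ * r₃ + 1) * c3 + p₄ * p₄ * q₄ * (r₄ * r₄ * r₄ + 1) * c4)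
  have hform : ∀ z ∈ T, ∃ p : F, z = M p (c * (p * p) + q) 1 := by
    intro z hz
    rw [hp.mem_iff] at hz
    simp only [List.mem_cons, List.not_mem_nil, or_false] at hz
    rcases hz with rfl | rfl | rfl | rfl
    · exact ⟨0, by simp⟩
    · exact ⟨r₂ * r₂ * p₂, by rw [ez₂, hnorm _ _ _ hr₂, g₂]⟩
    · exact ⟨r₃ * r₃ * p₃, by rw [ez₃, hnorm _ _ _ hr₃, g₃]⟩
    · exact ⟨r₄ * r₄ * p₄, by rw [ez₄, hnorm _ _ _ hr₄, g₄]⟩
  refine ⟨c, hform, fun p => ?_⟩
  choose f hf using fun z : ↥T.toFinset => hform z (List.mem_toFinset.1 z.2)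
  have hinj : Function.Injective f := fun u v e => Subtype.ext (by rw [hf u, hf v, e])
  have hbij : Function.Bijective f := (Fintype.bijective_iff_injective_and_card f).2
    ⟨hinj, by rw [Fintype.card_coe, List.toFinset_card_of_nodup h.nodup, h.len, hF]; norm_num⟩
  obtain ⟨z, hz⟩ := hbij.2 p
  rw [← hz, ← hf z]
  exact List.mem_toFinset.1 z.2

/-- An exchange of the base pair fixing `d` moves a four. -/
theorem no_swap_std {s : G} (hs : Commute s d) (hsa : s * M 1 0 0 * s⁻¹ = M 0 1 0) (hsb : s * M 0 1 0 * s⁻¹ = M 1 0 0)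
    (hfix : ∀ x ∈ perp D (M 1 0 0), x ∈ perp D (M 0 1 0) →
      ∃ T, Fib D (M 1 0 0) (M 0 1 0) T ∧ x ∈ T ∧ s * x * s⁻¹ ∈ T) : False := by
  classical
  have hK := fourField hF
  obtain ⟨A, τ, hA⟩ := C.semi s hs
  have hτ := C.tau_id hs hA
  have hA' : ∀ t ∈ perp D d, ∃ a : F, a ≠ 0 ∧ C.U.c (s * t * s⁻¹) = a • A.1.1.mulVec (C.U.c t) := fun t ht => by
    obtain ⟨a, ha, e⟩ := hA t ht
    exact ⟨a, ha, by rw [e, show τ ∘ C.U.c t = C.U.c t from funext fun i => hτ _]⟩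
  have h1 : (1 : F) ≠ 0 ∨ (0 : F) ≠ 0 ∨ (0 : F) ≠ 0 := Or.inl one_ne_zero
  have h2 : (0 : F) ≠ 0 ∨ (1 : F) ≠ 0 ∨ (0 : F) ≠ 0 := Or.inr (Or.inl one_ne_zero)
  have h3 : ∀ p q : F, p ≠ 0 ∨ q ≠ 0 ∨ (1 : F) ≠ 0 := fun _ _ => Or.inr (Or.inr one_ne_zero)
  have himg : ∀ a b c a' b' c' : F, (a ≠ 0 ∨ b ≠ 0 ∨ c ≠ 0) → (a' ≠ 0 ∨ b' ≠ 0 ∨ c' ≠ 0) →
      s * M a b c * s⁻¹ = M a' b' c' → ∃ k : F, k ≠ 0 ∧ A.1.1.mulVec (pv a b c) = k • pv a' b' c' := by
    intro a b c a' b' c' hn hn' e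
    obtain ⟨hS, j, hj, ej⟩ := hM a b c hn
    obtain ⟨hS', j', hj', ej'⟩ := hM a' b' c' hn'
    obtain ⟨k, hk, ek⟩ := hA' _ hS
    rw [e, ej', ej, Matrix.mulVec_smul, smul_smul] at ek
    refine ⟨(k * j)⁻¹ * j', mul_ne_zero (inv_ne_zero (mul_ne_zero hk hj)) hj', ?_⟩
    rw [mul_smul, ek, smul_smul, inv_mul_cancel₀ (mul_ne_zero hk hj), one_smul]
  obtain ⟨k, hk, eA⟩ := himg _ _ _ _ _ _ h1 h2 hsa
  obtain ⟨k', hk', eB⟩ := himg _ _ _ _ _ _ h2 h1 hsb
  have hab : ∀ q : F, M 0 q 1 ∈ perp D (M 1 0 0) ∧ M 0 q 1 ∈ perp D (M 0 1 0) := fun q => by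
    refine ⟨⟨(hM 0 q 1 (h3 0 q)).1.1, fun e => ?_, C.pm_commute hM h1 (h3 0 q)⟩,
      ⟨(hM 0 q 1 (h3 0 q)).1.1, fun e => ?_, C.pm_commute hM h2 (h3 0 q)⟩⟩
    · obtain ⟨l, -, -, -, e'⟩ := C.pm_eq hM (h3 0 q) h1 e; simp at e'
    · obtain ⟨l, -, -, -, e'⟩ := C.pm_eq hM (h3 0 q) h2 e; simp at e'
  choose T hT hxT hsT using fun q => hfix _ (hab q).1 (hab q).2
  choose c hc hc' using fun q => graph_of_fib C hM (hT q) (hxT q)
  -- one coefficient for all fours
  have hcc : ∀ q, c q = c 0 := by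
    intro q
    by_contra hne
    rcases eq_or_ne q 0 with rfl | hq
    · exact hne rfl
    obtain ⟨u, hu⟩ : ∃ u, u = c q + c 0 := ⟨_, rfl⟩
    have hu0 : u ≠ 0 := fun e => hne (by linear_combination e - hu - c 0 * hK.two)
    obtain ⟨p, hpdef⟩ : ∃ p, p = q * u⁻¹ * (q * u⁻¹) := ⟨_, rfl⟩
    have hpp : p * p = q * u⁻¹ := by rw [hpdef]; exact fourth hF _
    have e : c q * (p * p) + q = c 0 * (p * p) + 0 := by
      rw [hpp]
      linear_combination (-(q * u⁻¹)) * hu + q * (mul_inv_cancel₀ hu0) - c 0 * (q * u⁻¹) * hK.two + q * hK.two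
    have hba : M 0 1 0 ∈ perp D (M 1 0 0) := ⟨(hM 0 1 0 h2).1.1, fun e => by
      obtain ⟨l, -, -, e2, -⟩ := C.pm_eq hM h2 h1 e; simp at e2, C.pm_commute hM h1 h2⟩
    have hmem : M 0 q 1 ∈ T 0 := (Fib.unique C (hM 1 0 0 h1).1.1 hba (hT q) (hT 0) (hc' q p)
      (e ▸ hc' 0 p) _).1 (hxT q)
    obtain ⟨p', ep⟩ := hc 0 _ hmem
    obtain ⟨l, -, l1, l2, l3⟩ := C.pm_eq hM (h3 0 q) (h3 _ _) ep
    rw [mul_one] at l3
    rw [← l3, one_mul] at l1 l2
    rw [← l1] at l2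
    exact hq (by simpa using l2)
  -- the image of the third base vector
  obtain ⟨e, he⟩ := hc 0 _ (hsT 0)
  obtain ⟨k₀, hk₀, eC⟩ := himg _ _ _ _ _ _ (h3 0 0) (h3 _ _) he
  obtain ⟨μ, hμ⟩ : ∃ μ, μ = k' * k₀⁻¹ := ⟨_, rfl⟩
  have hμ0 : μ ≠ 0 := hμ ▸ mul_ne_zero hk' (inv_ne_zero hk₀)
  have hkey : ∀ q : F, c 0 * (μ * μ) * (q * q) + q = 0 := by
    intro q
    have himq : s * M 0 q 1 * s⁻¹ = M (μ * q + e) (c 0 * (e * e) + 0) 1 := by
      refine C.pm_conj hM hs (A := k₀⁻¹ • A.1.1) (τ := RingEquiv.refl F) (fun t ht => ?_) (h3 0 q) (h3 _ _) ?_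
      · obtain ⟨a, ha, ea⟩ := hA' t ht
        refine ⟨a * k₀, mul_ne_zero ha hk₀, ?_⟩
        rw [ea, Matrix.smul_mulVec, smul_smul, mul_assoc, mul_inv_cancel₀ hk₀, mul_one]
        congr 1
      · show (k₀⁻¹ • A.1.1).mulVec (pv 0 q 1) = _
        rw [show pv 0 q 1 = q • pv 0 1 0 + pv (0 : F) 0 1 by rw [smul_pv, add_pv]; simp,
          Matrix.smul_mulVec, Matrix.mulVec_add, Matrix.mulVec_smul, eB, eC, smul_add, smul_smul, smul_smul,
          smul_smul, inv_mul_cancel₀ hk₀, smul_pv, smul_pv, add_pv, hμ]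
        congr 1 <;> ring
    obtain ⟨p', ep⟩ := hc q _ (himq ▸ hsT q)
    obtain ⟨l, -, l1, l2, l3⟩ := C.pm_eq hM (h3 _ _) (h3 _ _) ep
    rw [mul_one] at l3
    rw [← l3, one_mul] at l1 l2
    rw [← l1, hcc q] at l2
    linear_combination -l2 - c 0 * sq_add hF (μ * q) e
  obtain ⟨ω, hω⟩ := Linear.exists_omega hK (hB_isSymm hF 6) (hB_nondegenerate hF 6)
  have k1 := hkey 1
  have k2 := hkey ω
  refine hω ?_
  rw [hK.sq]
  linear_combination k1 * (ω * ω) - k2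

end Std

/-- An element exchanging a commuting pair and fixing a common neighbour moves one of the fours. -/
theorem no_swap (C : Coord D d hF) {a b y s : G} (ha : a ∈ D) (hb : b ∈ perp D a)
    (hy : y ∈ perp D a) (hyb : y ∈ perp D b) (hsy : s * y * s⁻¹ = y) (hsa : s * a * s⁻¹ = b)
    (hsb : s * b * s⁻¹ = a)
    (hfix : ∀ x ∈ perp D a, x ∈ perp D b → ∃ T, Fib D a b T ∧ x ∈ T ∧ s * x * s⁻¹ ∈ T) : False := by
  classical
  have hD := C.trans
  obtain ⟨M, hM⟩ := C.exists_pm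
  have h1 : (1 : F) ≠ 0 ∨ (0 : F) ≠ 0 ∨ (0 : F) ≠ 0 := Or.inl one_ne_zero
  have h2 : (0 : F) ≠ 0 ∨ (1 : F) ≠ 0 ∨ (0 : F) ≠ 0 := Or.inr (Or.inl one_ne_zero)
  have hA := (hM 1 0 0 h1).1
  have hB1 := (hM 0 1 0 h2).1
  have hne : M 1 0 0 ≠ M 0 1 0 := fun e => by
    obtain ⟨k, -, e1, -, -⟩ := C.pm_eq hM h1 h2 e
    simp at e1
  have t1 : IsTriple D (y, a, b) := IsTriple.mk hy.1 ha hb.1 hy.2.1 hyb.2.1 hb.2.1.symm hy.2.2.symm hyb.2.2.symm
    hb.2.2
  have t2 : IsTriple D (d, M 1 0 0, M 0 1 0) := IsTriple.mk C.mem hA.1 hB1.1 hA.2.1.symm hB1.2.1.symm hne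
    hA.2.2 hB1.2.2 (C.pm_commute hM h1 h2)
  obtain ⟨g, gy, ga, gb⟩ := triple_transitive C.fis C.nbr t1 t2
  have e : ∀ u, g * s * g⁻¹ * (g * u * g⁻¹) * (g * s * g⁻¹)⁻¹ = g * (s * u * s⁻¹) * g⁻¹ := fun u => by group
  refine no_swap_std C hM (s := g * s * g⁻¹) ?_ (by rw [← ga, e, hsa, gb]) (by rw [← gb, e, hsb, ga])
    fun x hx hxb => ?_
  · rw [← gy]
    exact (Commute.conj_iff g).2 (mul_inv_eq_iff_eq_mul.1 hsy)
  · rw [← ga, mem_perp_conj hD] at hx
    rw [← gb, mem_perp_conj hD] at hxb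
    obtain ⟨T, hT, h1', h2'⟩ := hfix _ hx hxb
    refine ⟨T.map fun u => g * u * g⁻¹, ga ▸ gb ▸ hT.conj hD g, List.mem_map.2 ⟨_, h1', by group⟩,
      List.mem_map.2 ⟨_, h2', by group⟩⟩

end Cfsg.Lib.Fischer.Relations.TwoPair
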