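import Cfsg.Agent.Lib.Fischer.Relations.TwoPair.Lift
import Cfsg.Agent.Lib.Fischer.Relations.TwoPair.Swap

/-!
# The kernel of the action of a pair centralizer on the residual space

It has order `2 ^ 10`, is generated modulo the pair by products of two members of one four, and all its
commutators and squares lie in the group of order 2 generated by the product of the pair.
-/

set_option autoImplicit false
set_option linter.unusedSectionVars false

namespace Cfsg.Lib.Fischer.Relations.TwoPair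

open Module Matrix Cfsg Cfsg.Lib.Fischer Cfsg.Lib.Linear.Herm Cfsg.Agent.S1631 Cfsg.Lib.Fischer.RadicalAbelian
open Cfsg.Lib.Linear

variable {G : Type*} [Group G] [Finite G] {D : Set G}
  {F : Type} [Field F] [Fintype F] {hF : Fintype.card F = 2 ^ 2} {d b : G}

/-- The pair generates `{1, d, b, db}`. -/
def InV (d b z : G) : Prop := z = 1 ∨ z = d ∨ z = b ∨ z = d * b

theorem skew_one (hF : Fintype.card F = 2 ^ 2) : AutPSU.Skew hF (1 : F) := by
  show (1 : F) + frob hF 1 = 0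
  rw [map_one, one_add_one_eq_two, (fourField hF).two]

theorem skew_cases {c : F} (hc : AutPSU.Skew hF c) : c = 0 ∨ c = 1 := by
  have h : c + frob hF c = 0 := hc
  rw [(fourField hF).sq] at h
  have : c * (c + 1) = 0 := by linear_combination h
  rcases mul_eq_zero.1 this with h | h
  · exact Or.inl h
  · exact Or.inr (by linear_combination h - (fourField hF).two)

theorem radU_le_St : AutPSU.radU hF (bv : Fin 6 → F) ≤ St (F := F) := fun _ hg => mem_St.2 hg.1

section Radical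

variable {f : Fin 6 → F} (hf : AutPSU.Hyp hF (bv : Fin 6 → F) f)
include hf

theorem sub_perp {g : ↥(Cfsg.SU 6 F 2)} (hg : g ∈ AutPSU.radU hF bv) (x : Fin 6 → F) :
    hB hF 6 bv (AutPSU.act g x - x) = 0 := by
  have h := AutPSU.form_act hF g bv x
  rw [hg.1] at h
  rw [map_sub, h, sub_self]

/-- The residual translation of an element of the radical. -/
noncomputable def transl : ↥(AutPSU.radU hF (bv : Fin 6 → F)) →* Multiplicative (Fin 4 → F) :=
  MonoidHom.mk' (fun g => Multiplicative.ofAdd (res (AutPSU.act (g : ↥(Cfsg.SU 6 F 2)) f - f))) fun g k => by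
    rw [← ofAdd_add, ← res_add]
    congr 1
    obtain ⟨a, ha⟩ := g.2.2 _ (sub_perp hf k.2 f)
    rw [Subgroup.coe_mul, AutPSU.act_mul]
    rw [AutPSU.act_sub] at ha
    rw [show AutPSU.act (g : ↥(Cfsg.SU 6 F 2)) (AutPSU.act (k : ↥(Cfsg.SU 6 F 2)) f) - f =
      (AutPSU.act (g : ↥(Cfsg.SU 6 F 2)) (AutPSU.act (k : ↥(Cfsg.SU 6 F 2)) f) -
        AutPSU.act (g : ↥(Cfsg.SU 6 F 2)) f) + (AutPSU.act (g : ↥(Cfsg.SU 6 F 2)) f - f) by abel, ha]
    simp only [res_add, res_smul, res_bv, smul_zero, add_zero]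
    exact add_comm _ _

theorem transl_apply (g : ↥(AutPSU.radU hF (bv : Fin 6 → F))) :
    (transl hf g).toAdd = res (AutPSU.act (g : ↥(Cfsg.SU 6 F 2)) f - f) := rfl

theorem commute_of_transl {g : ↥(AutPSU.radU hF (bv : Fin 6 → F))} (hg : transl hf g = 1)
    {k : ↥(Cfsg.SU 6 F 2)} (hk : k ∈ AutPSU.radU hF bv) : Commute k (g : ↥(Cfsg.SU 6 F 2)) := by
  obtain ⟨hgb, hgu⟩ := g.2
  have h1 : res (AutPSU.act (g : ↥(Cfsg.SU 6 F 2)) f - f) = 0 := by
    rw [← transl_apply hf, hg]; rfl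
  obtain ⟨c, hc⟩ : ∃ c : F, AutPSU.act (g : ↥(Cfsg.SU 6 F 2)) f = f + c • bv := by
    have h2 := eq_add hF (v := (0 : Fin 6 → F)) (map_zero _) (sub_perp hf g.2 f) (by rw [h1, res_zero])
    rw [zero_add] at h2
    exact ⟨_, by rw [← h2, add_sub_cancel]⟩
  have hfix : ∀ w, hB hF 6 bv w = 0 → AutPSU.act (g : ↥(Cfsg.SU 6 F 2)) w = w := fun w hw => by
    obtain ⟨a, ha⟩ := hgu w hw
    have h := AutPSU.form_act hF (g : ↥(Cfsg.SU 6 F 2)) f w
    rw [hc, ha] at h
    simp only [map_add, LinearMap.add_apply, AutPSU.form_smul_left, AutPSU.form_smul_right, hw, hf.hx.2, hf.hfx,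
      mul_one, mul_zero, add_zero, add_eq_left] at h
    rw [ha, h, zero_smul, add_zero]
  refine AutPSU.su_ext fun x => ?_
  obtain ⟨w, hw, hx⟩ : ∃ w, hB hF 6 bv w = 0 ∧ x = hB hF 6 bv x • f + w :=
    ⟨x - hB hF 6 bv x • f, by rw [map_sub, AutPSU.form_smul_right, hf.hxf, mul_one, sub_self], by abel⟩
  have hx' : AutPSU.act (g : ↥(Cfsg.SU 6 F 2)) x = x + (hB hF 6 bv x * c) • bv := by
    conv_lhs => rw [hx]
    conv_rhs => arg 1; rw [hx]
    rw [AutPSU.act_add, AutPSU.act_smul, hc, hfix w hw, smul_add, smul_smul]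
    abel
  rw [AutPSU.act_mul, AutPSU.act_mul, hx', AutPSU.act_add, AutPSU.act_smul, hk.1,
    show AutPSU.act (g : ↥(Cfsg.SU 6 F 2)) (AutPSU.act k x) =
      AutPSU.act (g : ↥(Cfsg.SU 6 F 2)) x + AutPSU.act (g : ↥(Cfsg.SU 6 F 2)) (AutPSU.act k x - x) by
        rw [← AutPSU.act_add, add_sub_cancel], hx', hfix _ (sub_perp hf hk x)]
  abel

theorem transl_surjective : Function.Surjective (transl hf) := by
  intro w
  haveI : Fact (Nat.Prime 2) := ⟨Nat.prime_two⟩
  haveI : CharP F 2 := CharTwo.of_one_ne_zero_of_two_eq_zero one_ne_zero (fourField hF).two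
  obtain ⟨c, hc⟩ := AutPSU.exists_trace hF (-(hB hF 6 (emb w.toAdd) (emb w.toAdd)))
    (by rw [map_neg, AutPSU.self_mem])
  obtain ⟨g, hg, hgx⟩ := AutPSU.exists_radU hF 2 (bv_iso hF) (form_bv_emb hF w.toAdd) (c := c)
    (by linear_combination hc)
  refine ⟨⟨g, hg⟩, ?_⟩
  apply Multiplicative.toAdd.injective
  rw [transl_apply]
  show res (AutPSU.act g f - f) = _
  rw [hgx, hf.hxf, one_smul, add_assoc, add_sub_cancel_left, res_add, res_smul, res_bv, smul_zero, add_zero,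
    res_emb]

/-- What commutes with the radical inside it is a transvection at the fixed vector. -/
theorem eq_tU_of_commute {g : ↥(Cfsg.SU 6 F 2)} (hg : g ∈ AutPSU.radU hF (bv : Fin 6 → F))
    (h : ∀ k ∈ AutPSU.radU hF (bv : Fin 6 → F), Commute k g) : g = 1 ∨ g = AutPSU.tU hF bv 1 := by
  haveI : Fact (Nat.Prime 2) := ⟨Nat.prime_two⟩
  haveI : CharP F 2 := CharTwo.of_one_ne_zero_of_two_eq_zero one_ne_zero (fourField hF).two
  obtain ⟨c, hc, e⟩ := AutPSU.eq_tU_of_commute hF 2 hf.hx (AutPSU.pow_four_of_radU hF 2 hf.hx hg) h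
  rcases skew_cases hc with rfl | rfl
  · exact Or.inl (e.trans (AutPSU.tU_zero hF hf.hx.2))
  · exact Or.inr e

theorem tU_mem : AutPSU.tU hF (bv : Fin 6 → F) 1 ∈ AutPSU.radU hF bv := by
  refine ⟨?_, fun u _ => ⟨(1 : F) * hB hF 6 bv u, AutPSU.act_tU hF hf.hx.2 (skew_one hF) u⟩⟩
  rw [AutPSU.act_tU hF hf.hx.2 (skew_one hF), hf.hx.2, mul_zero, zero_smul, add_zero]

theorem transl_tU : transl hf ⟨AutPSU.tU hF bv 1, tU_mem hf⟩ = 1 := by
  apply Multiplicative.toAdd.injective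
  rw [transl_apply]
  show res (AutPSU.act (AutPSU.tU hF bv 1) f - f) = 0
  rw [AutPSU.act_tU hF hf.hx.2 (skew_one hF), add_sub_cancel_left, res_smul, res_bv, smul_zero]

theorem card_radU : Nat.card ↥(AutPSU.radU hF (bv : Fin 6 → F)) = 512 := by
  have hk : (transl hf).ker = Subgroup.zpowers (⟨AutPSU.tU hF bv 1, tU_mem hf⟩ :
      ↥(AutPSU.radU hF (bv : Fin 6 → F))) := by
    ext g
    rw [MonoidHom.mem_ker]
    constructor
    · intro h
      rcases eq_tU_of_commute hf g.2 (fun k hk => commute_of_transl hf h hk) with e | e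
      · rw [show g = 1 from Subtype.ext e]; exact one_mem _
      · rw [show g = ⟨AutPSU.tU hF bv 1, tU_mem hf⟩ from Subtype.ext e]; exact Subgroup.mem_zpowers _
    · rintro ⟨n, rfl⟩
      rw [map_zpow, show transl hf _ = 1 from transl_tU hf, _root_.one_zpow]
  have h2 : Nat.card (transl hf).ker = 2 := by
    rw [hk, Nat.card_zpowers]
    haveI : Fact (Nat.Prime 2) := ⟨Nat.prime_two⟩
    haveI : CharP F 2 := CharTwo.of_one_ne_zero_of_two_eq_zero one_ne_zero (fourField hF).two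
    refine orderOf_eq_prime (Subtype.ext ?_) fun e => AutPSU.tU_ne_one hF hf.hx one_ne_zero (skew_one hF)
      (congrArg Subtype.val e)
    exact AutPSU.tU_pow_char hF 2 hf.hx.2 (skew_one hF)
  rw [Subgroup.card_eq_card_quotient_mul_card_subgroup (transl hf).ker, h2,
    Nat.card_congr (QuotientGroup.quotientKerEquivOfSurjective _ (transl_surjective hf)).toEquiv,
    Nat.card_eq_fintype_card, Fintype.card_multiplicative, Fintype.card_fun, Fintype.card_fin, hF]
  norm_num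

end Radical

namespace Base

variable (P : Base D d b hF)
include P

/-- The action on the residual space. -/
noncomputable def theta : ↥(Subgroup.centralizer ({d, b} : Set G)) →* Cfsg.PSU 4 F 2 :=
  (proj4 hF).comp P.lift

theorem theta_surjective : Function.Surjective P.theta :=
  (proj4_surjective hF).comp P.lift_surjective

theorem theta_eq_one_iff (k : ↥(Subgroup.centralizer ({d, b} : Set G))) :
    P.theta k = 1 ↔ (P.lift k : ↥(Cfsg.SU 6 F 2)) ∈ AutPSU.radU hF bv :=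
  proj4_eq_one_iff hF _

theorem d_mem : d ∈ Subgroup.centralizer ({d, b} : Set G) :=
  mem_pair_centralizer.2 ⟨Commute.refl d, P.commute_db⟩

theorem b_mem : b ∈ Subgroup.centralizer ({d, b} : Set G) :=
  mem_pair_centralizer.2 ⟨P.commute_db.symm, Commute.refl b⟩

theorem lift_b : (P.lift ⟨b, P.b_mem⟩ : ↥(Cfsg.SU 6 F 2)) = AutPSU.tU hF bv 1 := by
  obtain ⟨j, hj, ej⟩ := P.hcb
  rw [P.lift_member _ P.hb, ej, AutPSU.tU_smul hF (bv_iso hF).2 (skew_one hF), mul_one, (fourField hF).sq,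
    (fourField hF).cube j hj]

theorem inV_of_commute {k : ↥(Subgroup.centralizer ({d, b} : Set G))} (hk : P.theta k = 1)
    (h : ∀ g ∈ AutPSU.radU hF (bv : Fin 6 → F), Commute g (P.lift k : ↥(Cfsg.SU 6 F 2))) : InV d b k := by
  obtain ⟨f, hf, hbf⟩ := AutPSU.exists_partner hF (bv_iso hF)
  have P' : AutPSU.Hyp hF (bv : Fin 6 → F) f := ⟨bv_iso hF, hf, hbf⟩
  rcases eq_tU_of_commute P' ((P.theta_eq_one_iff k).1 hk) h with e | e
  · rcases (P.lift_eq_one_iff k).1 (Subtype.ext e) with e | e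
    · exact Or.inl e
    · exact Or.inr (Or.inl e)
  · have h1 : P.lift (⟨b, P.b_mem⟩⁻¹ * k) = 1 := by
      rw [map_mul, map_inv, inv_mul_eq_one]
      exact Subtype.ext (P.lift_b.trans e.symm)
    rcases (P.lift_eq_one_iff _).1 h1 with e | e <;> rw [Subgroup.coe_mul, Subgroup.coe_inv, inv_mul_eq_iff_eq_mul] at e
    · exact Or.inr (Or.inr (Or.inl (e.trans (mul_one b))))
    · exact Or.inr (Or.inr (Or.inr (e.trans P.commute_db.eq.symm)))

theorem exists_kernel {g : ↥(Cfsg.SU 6 F 2)} (hg : g ∈ AutPSU.radU hF (bv : Fin 6 → F)) :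
    ∃ k, P.theta k = 1 ∧ (P.lift k : ↥(Cfsg.SU 6 F 2)) = g := by
  obtain ⟨k, hk⟩ := P.lift_surjective ⟨g, radU_le_St hg⟩
  have e : (P.lift k : ↥(Cfsg.SU 6 F 2)) = g := congrArg Subtype.val hk
  exact ⟨k, (P.theta_eq_one_iff k).2 (e.symm ▸ hg), e⟩

/-- The kernel restricted to the radical. -/
noncomputable def kerLift : ↥P.theta.ker →* ↥(AutPSU.radU hF (bv : Fin 6 → F)) :=
  ((St (F := F)).subtype.comp (P.lift.comp P.theta.ker.subtype)).codRestrict _ fun k =>
    (P.theta_eq_one_iff _).1 k.2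

theorem card_kernel : Nat.card ↥P.theta.ker = 2 ^ 10 := by
  obtain ⟨f, hf, hbf⟩ := AutPSU.exists_partner hF (bv_iso hF)
  have hs : Function.Surjective P.kerLift := by
    intro g
    obtain ⟨k, hk, e⟩ := P.exists_kernel g.2
    exact ⟨⟨k, hk⟩, Subtype.ext e⟩
  have hk2 : Nat.card P.kerLift.ker = 2 := by
    have hd1 : P.theta ⟨d, P.d_mem⟩ = 1 := by
      rw [theta, MonoidHom.comp_apply, (P.lift_eq_one_iff _).2 (Or.inr rfl), map_one]
    have : P.kerLift.ker = Subgroup.zpowers (⟨⟨d, P.d_mem⟩, hd1⟩ : ↥P.theta.ker) := by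
      ext k
      rw [MonoidHom.mem_ker]
      constructor
      · intro h
        have h' : P.lift (k : ↥(Subgroup.centralizer ({d, b} : Set G))) = 1 :=
          Subtype.ext (congrArg Subtype.val h :)
        rcases (P.lift_eq_one_iff _).1 h' with e | e
        · rw [show k = 1 from Subtype.ext (Subtype.ext e)]; exact one_mem _
        · exact ⟨1, (zpow_one _).trans (Subtype.ext (Subtype.ext e.symm))⟩
      · rintro ⟨n, rfl⟩
        rw [map_zpow, show P.kerLift ⟨⟨d, P.d_mem⟩, hd1⟩ = 1 from Subtype.ext (show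
          (P.lift ⟨d, P.d_mem⟩ : ↥(Cfsg.SU 6 F 2)) = ((1 : St (F := F)) : ↥(Cfsg.SU 6 F 2)) from congrArg Subtype.val
          ((P.lift_eq_one_iff ⟨d, P.d_mem⟩).2 (Or.inr rfl))), _root_.one_zpow]
    rw [this, Nat.card_zpowers, ← Subgroup.orderOf_coe, ← Subgroup.orderOf_coe]
    exact P.C.fis.set.1 d P.C.mem
  rw [Subgroup.card_eq_card_quotient_mul_card_subgroup P.kerLift.ker, hk2,
    Nat.card_congr (QuotientGroup.quotientKerEquivOfSurjective _ hs).toEquiv,
    card_radU (⟨bv_iso hF, hf, hbf⟩ : AutPSU.Hyp hF (bv : Fin 6 → F) f)]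
  norm_num

theorem center_psu_four (x : Cfsg.PSU 4 F 2) (hx : ∀ y, Commute y x) : x = 1 := by
  haveI : Fact (Nat.Prime 2) := ⟨Nat.prime_two⟩
  haveI : CharP F 2 := CharTwo.of_one_ne_zero_of_two_eq_zero one_ne_zero (fourField hF).two
  refine AutPSU.inn_injective hF 2 (by norm_num : 3 ≤ 4) ?_
  rw [map_one]
  ext y
  rw [MulAut.conj_apply, MulAut.one_apply, ← (hx y).eq, mul_inv_cancel_right]

/-- The centre is the pair. -/
theorem inV_of_central {z : ↥(Subgroup.centralizer ({d, b} : Set G))} (hz : ∀ k, Commute k z) : InV d b z := by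
  have h1 : P.theta z = 1 := by
    refine P.center_psu_four _ fun y => ?_
    obtain ⟨k, rfl⟩ := P.theta_surjective y
    exact (hz k).map P.theta
  refine P.inV_of_commute h1 fun g hg => ?_
  obtain ⟨k, -, e⟩ := P.exists_kernel hg
  rw [← e]
  exact ((hz k).map P.lift).map (St (F := F)).subtype

/-- Only the pair centralizes the kernel. -/
theorem inV_of_centralizes {z : ↥(Subgroup.centralizer ({d, b} : Set G))}
    (hz : ∀ k, P.theta k = 1 → Commute k z) : InV d b z := by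
  obtain ⟨f, hf, hbf⟩ := AutPSU.exists_partner hF (bv_iso hF)
  have hP : AutPSU.Hyp hF (bv : Fin 6 → F) f := ⟨bv_iso hF, hf, hbf⟩
  have hc : ∀ g ∈ AutPSU.radU hF (bv : Fin 6 → F), Commute g (P.lift z : ↥(Cfsg.SU 6 F 2)) := fun g hg => by
    obtain ⟨k, hk, e⟩ := P.exists_kernel hg
    rw [← e]
    exact ((hz k hk).map P.lift).map (St (F := F)).subtype
  refine P.inV_of_commute ((P.theta_eq_one_iff z).2 ⟨mem_St.1 (P.lift z).2, fun u hu => ?_⟩) hc
  obtain ⟨A, hA⟩ : ∃ A, A = (P.lift z : ↥(Cfsg.SU 6 F 2)) := ⟨_, rfl⟩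
  rw [← hA]
  obtain ⟨g, hgr⟩ := transl_surjective hP (Multiplicative.ofAdd (res u))
  have hgf : res (AutPSU.act (g : ↥(Cfsg.SU 6 F 2)) f - f) = res u := by rw [← transl_apply hP, hgr]; rfl
  obtain ⟨a₁, e₁⟩ : ∃ a, AutPSU.act (g : ↥(Cfsg.SU 6 F 2)) f = f + (u + a • bv) :=
    ⟨_, by rw [← eq_add hF hu (sub_perp hP g.2 f) hgf, add_sub_cancel]⟩
  have hAb : AutPSU.act A bv = bv := hA ▸ mem_St.1 (P.lift z).2
  have hperp : hB hF 6 bv (AutPSU.act A f - f) = 0 := by
    rw [map_sub, hA, St.form_bv_act hF, sub_self]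
  obtain ⟨a₂, e₂⟩ := g.2.2 _ hperp
  rw [AutPSU.act_sub, e₁] at e₂
  have h := congrArg (fun m : ↥(Cfsg.SU 6 F 2) => AutPSU.act m f) (hc g g.2).eq
  simp only [← hA, AutPSU.act_mul, e₁, AutPSU.act_add, AutPSU.act_smul, hAb] at h
  refine ⟨a₂ + 0, ?_⟩
  rw [sub_eq_iff_eq_add] at e₂
  rw [e₂] at h
  linear_combination (norm := module) (-1 : F) • h

end Base

end Cfsg.Lib.Fischer.Relations.TwoPair
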