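import Cfsg.Agent.Lib.Fischer.Relations.TwoPair.Residual
import Cfsg.Agent.Lib.Fischer.Relations.Involutions.Action

/-!
# The centralizer of a commuting pair as a cover of a point stabilizer in `SU(6, 2)`

Coordinates may be carried to any member and turned by any unitary matrix, so that the second member of a
pair sits on `(1, 1, 0, 0, 0, 0)`.
-/

set_option autoImplicit false
set_option linter.unusedSectionVars false

namespace Cfsg.Lib.Fischer.Relations.TwoPair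

open Module Matrix Cfsg Cfsg.Lib.Fischer Cfsg.Lib.Linear.Herm Cfsg.Agent.S1631 Cfsg.Lib.Fischer.RadicalAbelian
open Cfsg.Lib.Linear

variable {G : Type*} [Group G] [Finite G] {D : Set G}
  {F : Type} [Field F] [Fintype F] {hF : Fintype.card F = 2 ^ 2} {d b : G}

theorem conj_perp_iff (hD : Trans D) (g s : G) :
    s ∈ perp D (g * d * g⁻¹) ↔ g⁻¹ * s * g ∈ perp D d := mem_perp_conj hD g d s

/-- Coordinates at a conjugate member. -/
noncomputable def conjCoord (C : Coord D d hF) (g : G) : Coord D (g * d * g⁻¹) hF where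
  fis := C.fis
  prim := C.prim
  cen := C.cen
  sep := C.sep
  nbr := C.nbr
  mem := C.trans.conj g d C.mem
  U := C.U.conj C.trans g
  semiAut ψ hψd hψD := by
    obtain ⟨A, τ, hA⟩ := C.semiAut ((MulAut.conj g)⁻¹ * ψ * MulAut.conj g) (by
      simp only [MulAut.mul_apply, MulAut.conj_apply, hψd]
      simp [mul_assoc]) (fun x hx => by
      simp only [MulAut.mul_apply, MulAut.conj_apply]
      have := C.trans.conj g⁻¹ _ (hψD _ (C.trans.conj g x hx))
      simpa [mul_assoc] using this)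
    refine ⟨A, τ, fun s hs => ?_⟩
    obtain ⟨a, ha, e⟩ := hA _ ((mem_perp_conj C.trans g d s).1 hs)
    refine ⟨a, ha, ?_⟩
    show C.U.c (g⁻¹ * ψ s * g) = a • A.1.1.mulVec (τ ∘ C.U.c (g⁻¹ * s * g))
    rw [← e]
    simp [MulAut.mul_apply, mul_assoc]
  real T := by
    obtain ⟨k, hk, h⟩ := C.real T
    refine ⟨g * k * g⁻¹, ?_, fun s hs => ?_⟩
    · rw [← map_conj_closure_perp C.trans g d]
      exact ⟨k, hk, rfl⟩
    · obtain ⟨a, ha, e⟩ := h _ ((mem_perp_conj C.trans g d s).1 hs)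
      refine ⟨a, ha, ?_⟩
      show C.U.c (g⁻¹ * (g * k * g⁻¹ * s * (g * k * g⁻¹)⁻¹) * g) = a • AutPSU.act T (C.U.c (g⁻¹ * s * g))
      rw [← e]
      congr 1
      group

theorem act_map (g : ↥(Cfsg.GU 6 F 2)) (hF : Fintype.card F = 2 ^ 2) {α : Type*} (f : α → Fin 6 → F) :
    ∀ (l : List α) (x : Fin 6 → F), Linear.act (hB hF 6) (l.map fun a => g.1.1 *ᵥ f a) (g.1.1 *ᵥ x) =
      g.1.1 *ᵥ Linear.act (hB hF 6) (l.map f) x
  | [], x => by simp [Linear.act]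
  | a :: t, x => by
    rw [List.map_cons, List.map_cons, Linear.act_cons, Linear.act_cons, act_map g hF f t x, AutPSU.form_GU hF g,
      Matrix.mulVec_add, Matrix.mulVec_smul]

theorem gu_inj (g : ↥(Cfsg.GU 6 F 2)) {v w : Fin 6 → F} (h : g.1.1 *ᵥ v = g.1.1 *ᵥ w) : v = w := by
  have := congrArg (fun u => (g.1⁻¹).1 *ᵥ u) h
  simpa [Matrix.mulVec_mulVec] using this

theorem gu_inv_mulVec (g : ↥(Cfsg.GU 6 F 2)) (v : Fin 6 → F) : g.1.1 *ᵥ ((g⁻¹).1.1 *ᵥ v) = v := by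
  rw [Matrix.mulVec_mulVec, show g.1.1 * (g⁻¹).1.1 = 1 from Units.mul_inv g.1, Matrix.one_mulVec]

theorem gu_inv_mulVec' (g : ↥(Cfsg.GU 6 F 2)) (v : Fin 6 → F) : (g⁻¹).1.1 *ᵥ (g.1.1 *ᵥ v) = v := by
  rw [Matrix.mulVec_mulVec, show (g⁻¹).1.1 * g.1.1 = 1 from Units.inv_mul g.1, Matrix.one_mulVec]

/-- Coordinates turned by a unitary matrix. -/
noncomputable def turnCoord (C : Coord D d hF) (g : ↥(Cfsg.GU 6 F 2)) : Coord D d hF where
  fis := C.fis
  prim := C.prim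
  cen := C.cen
  sep := C.sep
  nbr := C.nbr
  mem := C.mem
  U :=
    { c := fun s => g.1.1 *ᵥ C.U.c s
      iso := fun s hs => by rw [AutPSU.form_GU hF g]; exact C.U.iso s hs
      ne := fun s hs h => C.U.ne s hs (gu_inj g (h.trans (Matrix.mulVec_zero _).symm))
      comm := fun a ha b hb => by rw [AutPSU.form_GU hF g]; exact C.U.comm a ha b hb
      every := fun w hw hw0 => by
        obtain ⟨s, hs, k, hk, e⟩ := C.U.every ((g⁻¹).1.1 *ᵥ w) (by rw [AutPSU.form_GU hF g⁻¹, hw])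
          (fun h => hw0 (by rw [← gu_inv_mulVec g w, h, Matrix.mulVec_zero]))
        refine ⟨s, hs, k, hk, ?_⟩
        show g.1.1 *ᵥ C.U.c s = k • w
        rw [e, Matrix.mulVec_smul, gu_inv_mulVec]
      inj := fun a ha b hb k h => C.U.inj a ha b hb k (gu_inj g (by rw [h, Matrix.mulVec_smul]))
      rel := fun l hl hc y hy => by
        rw [C.U.rel l hl hc y hy, act_map g hF C.U.c l]
        exact ⟨fun h => by rw [h, Matrix.mulVec_zero], fun h => gu_inj g (h.trans (Matrix.mulVec_zero _).symm)⟩ }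
  semiAut ψ hψd hψD := by
    obtain ⟨A, τ, hA⟩ := C.semiAut ψ hψd hψD
    refine ⟨g * A * AutPSU.smGU τ g⁻¹, τ, fun s hs => ?_⟩
    obtain ⟨a, ha, e⟩ := hA s hs
    refine ⟨a, ha, ?_⟩
    show g.1.1 *ᵥ C.U.c (ψ s) = a • ((g.1.1 * A.1.1 * ((g⁻¹).1.1).map τ) *ᵥ (τ ∘ (g.1.1 *ᵥ C.U.c s)))
    rw [e, Matrix.mulVec_smul, ← Matrix.mulVec_mulVec, ← Matrix.mulVec_mulVec, AutPSU.mulVec_comp,
      gu_inv_mulVec' g (C.U.c s)]
  real T := by
    obtain ⟨k, hk, h⟩ := C.real (AutPSU.cnj g⁻¹ T)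
    refine ⟨k, hk, fun s hs => ?_⟩
    obtain ⟨a, ha, e⟩ := h s hs
    refine ⟨a, ha, ?_⟩
    show g.1.1 *ᵥ C.U.c (k * s * k⁻¹) = a • AutPSU.act T (g.1.1 *ᵥ C.U.c s)
    rw [e, Matrix.mulVec_smul, AutPSU.act_cnj, gu_inv_mulVec]
    congr 3

/-- An element of the special unitary group giving the permutation of the points induced by `g`. -/
def Lifts (C : Coord D d hF) (g : G) (A : ↥(Cfsg.SU 6 F 2)) : Prop :=
  ∀ s ∈ perp D d, ∃ k : F, k ≠ 0 ∧ C.U.c (g * s * g⁻¹) = k • AutPSU.act A (C.U.c s)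

/-- Coordinates at `d` with the member `b` on the fixed vector. -/
structure Base (D : Set G) (d b : G) (hF : Fintype.card F = 2 ^ 2) where
  C : Coord D d hF
  hb : b ∈ perp D d
  hcb : ∃ j : F, j ≠ 0 ∧ C.U.c b = j • bv

theorem exists_base (hT : Trans D) (hprim : Cfsg.IsPrimitiveUnderConj D) (h22 : Cfsg.IsOfTypeM22 G D)
    {d b : G} (hd : d ∈ D) (hb : b ∈ perp D d) :
    ∃ (F : Type) (_ : Field F) (_ : Fintype F) (hF : Fintype.card F = 2 ^ 2), Nonempty (Base D d b hF) := by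
  obtain ⟨F, i1, i2, hF, d₀, ⟨C⟩⟩ := m22_coord hT hprim h22
  obtain ⟨g, rfl⟩ := hT.trans d₀ C.mem d hd
  obtain ⟨C', -⟩ : ∃ C' : Coord D (g * d₀ * g⁻¹) hF, C' = conjCoord C g := ⟨_, rfl⟩
  obtain ⟨h, hh⟩ := AutPSU.exists_GU_iso hF (v := C'.U.c b) (w := (bv : Fin 6 → F))
    ⟨C'.U.ne b hb, C'.U.iso b hb⟩ (bv_iso hF)
  exact ⟨F, i1, i2, hF, ⟨⟨turnCoord C' h, hb, 1, one_ne_zero, by rw [one_smul]; exact hh⟩⟩⟩

theorem mem_pair_centralizer {k : G} :
    k ∈ Subgroup.centralizer ({d, b} : Set G) ↔ Commute k d ∧ Commute k b := by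
  rw [Subgroup.mem_centralizer_iff]
  simp only [Set.mem_insert_iff, Set.mem_singleton_iff, forall_eq_or_imp, forall_eq]
  exact ⟨fun h => ⟨h.1.symm, h.2.symm⟩, fun h => ⟨h.1.eq.symm, h.2.eq.symm⟩⟩

namespace Base

variable (P : Base D d b hF)
include P

theorem hd : d ∈ D := P.C.mem

theorem commute_db : Commute d b := P.hb.2.2

theorem exists_lifts {g : G} (hg : Commute g d) : ∃ A, Lifts P.C g A := by
  obtain ⟨A, τ, hA⟩ := P.C.semi g hg
  have hτ := P.C.tau_id hg hA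
  have hdet := P.C.det_eq_one hg hA hτ
  refine ⟨⟨⟨A.1.1, hdet⟩, A.2⟩, fun s hs => ?_⟩
  obtain ⟨a, ha, e⟩ := hA s hs
  refine ⟨a, ha, ?_⟩
  rw [e, show τ ∘ P.C.U.c s = P.C.U.c s from funext fun i => hτ _]
  rfl

theorem lifts_scalar {g : G} {A B : ↥(Cfsg.SU 6 F 2)} (hA : Lifts P.C g A) (hB' : Lifts P.C g B) :
    ∃ c : F, ∀ v, AutPSU.act B v = c • AutPSU.act A v := by
  obtain ⟨c, hc⟩ := exists_scalar_of_iso (hF := hF) (AutPSU.mat (A⁻¹ * B)).mulVecLin fun v hv hv0 => by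
    obtain ⟨s, hs, j, hj, e⟩ := P.C.exists_point hv0 hv
    obtain ⟨k, hk, e1⟩ := hA s hs
    obtain ⟨k', hk', e2⟩ := hB' s hs
    rw [e1, e, AutPSU.act_smul, AutPSU.act_smul, smul_smul, smul_smul] at e2
    refine ⟨(k' * j)⁻¹ * (k * j), ?_⟩
    show AutPSU.act (A⁻¹ * B) v = _
    rw [AutPSU.act_mul, show AutPSU.act B v = ((k' * j)⁻¹ * (k * j)) • AutPSU.act A v by
      rw [mul_smul, e2, smul_smul, inv_mul_cancel₀ (mul_ne_zero hk' hj), one_smul],
      AutPSU.act_smul, AutPSU.act_inv_cancel]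
  refine ⟨c, fun v => ?_⟩
  have := hc v
  rw [Matrix.mulVecLin_apply] at this
  rw [← AutPSU.act_smul, ← this]
  show _ = AutPSU.act A (AutPSU.act (A⁻¹ * B) v)
  rw [← AutPSU.act_mul, mul_inv_cancel_left]

theorem lifts_mul {g h : G} {A B : ↥(Cfsg.SU 6 F 2)} (hh : Commute h d) (hA : Lifts P.C g A)
    (hB' : Lifts P.C h B) : Lifts P.C (g * h) (A * B) := fun s hs => by
  obtain ⟨k, hk, e⟩ := hB' s hs
  obtain ⟨j, hj, e'⟩ := hA _ (P.C.conj_mem hh hs)
  refine ⟨j * k, mul_ne_zero hj hk, ?_⟩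
  rw [show g * h * s * (g * h)⁻¹ = g * (h * s * h⁻¹) * g⁻¹ by group, e', e, AutPSU.act_smul, smul_smul,
    AutPSU.act_mul]

theorem exists_normal {g : G} (hg : Commute g d) (hgb : Commute g b) :
    ∃! A, Lifts P.C g A ∧ A ∈ St (F := F) := by
  obtain ⟨A, hA⟩ := P.exists_lifts hg
  obtain ⟨j, hj, ej⟩ := P.hcb
  obtain ⟨k, hk, e⟩ := hA b P.hb
  rw [hgb.eq, mul_inv_cancel_right, ej, AutPSU.act_smul, smul_smul] at e
  obtain ⟨μ, hμ⟩ : ∃ μ, μ = j⁻¹ * (k * j) := ⟨_, rfl⟩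
  have hμ0 : μ ≠ 0 := hμ ▸ mul_ne_zero (inv_ne_zero hj) (mul_ne_zero hk hj)
  have hAb : bv = μ • AutPSU.act A bv := by
    rw [hμ, mul_smul, ← e, smul_smul, inv_mul_cancel₀ hj, one_smul]
  have hc3 : μ * μ * μ = 1 := (fourField hF).cube μ hμ0
  have hdet : (μ • AutPSU.mat A).det = 1 := by
    rw [Matrix.det_smul, Fintype.card_fin, show (AutPSU.mat A).det = 1 from A.1.2, mul_one]
    linear_combination (μ ^ 3 + 1) * hc3
  have hmem : (⟨μ • AutPSU.mat A, hdet⟩ : Matrix.SpecialLinearGroup (Fin 6) F) ∈ Cfsg.SU 6 F 2 :=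
    mem_SU.2 fun u v => by
      show Cfsg.hermForm 6 F 2 ((μ • AutPSU.mat A) *ᵥ u) ((μ • AutPSU.mat A) *ᵥ v) = _
      rw [Matrix.smul_mulVec, Matrix.smul_mulVec, ← hB_apply hF 6, AutPSU.form_smul_left, AutPSU.form_smul_right]
      show frob hF μ * (μ * hB hF 6 (AutPSU.act A v) (AutPSU.act A u)) = _
      rw [AutPSU.form_act, hB_apply, (fourField hF).sq]
      linear_combination (Cfsg.hermForm 6 F 2 u v) * hc3
  have hact : ∀ v, AutPSU.act (⟨⟨μ • AutPSU.mat A, hdet⟩, hmem⟩ : ↥(Cfsg.SU 6 F 2)) v = μ • AutPSU.act A v :=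
    fun v => Matrix.smul_mulVec _ _ _
  refine ⟨⟨⟨μ • AutPSU.mat A, hdet⟩, hmem⟩, ⟨fun s hs => ?_, mem_St.2 ((hact _).trans hAb.symm)⟩, ?_⟩
  · obtain ⟨a, ha, ea⟩ := hA s hs
    exact ⟨a * μ⁻¹, mul_ne_zero ha (inv_ne_zero hμ0), by
      rw [ea, hact, smul_smul, mul_assoc, inv_mul_cancel₀ hμ0, mul_one]⟩
  · rintro B ⟨hB', hBb⟩
    obtain ⟨c, hc⟩ := P.lifts_scalar hA hB'
    refine AutPSU.su_ext fun v => ?_
    rw [hact, hc]
    congr 1
    have h := hc bv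
    rw [mem_St.1 hBb, hAb] at h
    conv_rhs at h => rw [← hAb]
    have h' : (μ - c) • AutPSU.act A bv = 0 := by rw [sub_smul, ← h, sub_self]
    exact (sub_eq_zero.1 ((smul_eq_zero.1 h').resolve_right (AutPSU.act_ne_zero A (bv_iso hF).1))).symm

theorem commute_of_mem_cent {k : G} (hk : k ∈ Subgroup.centralizer ({d, b} : Set G)) :
    Commute k d ∧ Commute k b := by
  rw [Subgroup.mem_centralizer_iff] at hk
  exact ⟨(hk d (Or.inl rfl)).symm, (hk b (Or.inr rfl)).symm⟩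

/-- The map to the stabilizer. -/
noncomputable def lift : ↥(Subgroup.centralizer ({d, b} : Set G)) →* St (F := F) :=
  MonoidHom.mk'
    (fun k => ⟨(P.exists_normal (P.commute_of_mem_cent k.2).1 (P.commute_of_mem_cent k.2).2).choose,
      (P.exists_normal (P.commute_of_mem_cent k.2).1 (P.commute_of_mem_cent k.2).2).choose_spec.1.2⟩)
    fun k l => Subtype.ext (by
      have hk := (P.exists_normal (P.commute_of_mem_cent k.2).1 (P.commute_of_mem_cent k.2).2).choose_spec.1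
      have hl := (P.exists_normal (P.commute_of_mem_cent l.2).1 (P.commute_of_mem_cent l.2).2).choose_spec.1
      exact ((P.exists_normal (P.commute_of_mem_cent (k * l).2).1 (P.commute_of_mem_cent (k * l).2).2).choose_spec.2
        _ ⟨P.lifts_mul (P.commute_of_mem_cent l.2).1 hk.1 hl.1, mul_mem hk.2 hl.2⟩).symm)

theorem lift_lifts (k : ↥(Subgroup.centralizer ({d, b} : Set G))) :
    Lifts P.C k (P.lift k : ↥(Cfsg.SU 6 F 2)) :=
  (P.exists_normal (P.commute_of_mem_cent k.2).1 (P.commute_of_mem_cent k.2).2).choose_spec.1.1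

theorem lift_eq (k : ↥(Subgroup.centralizer ({d, b} : Set G))) {A : ↥(Cfsg.SU 6 F 2)} (hA : Lifts P.C k A)
    (hAb : A ∈ St (F := F)) : (P.lift k : ↥(Cfsg.SU 6 F 2)) = A :=
  ((P.exists_normal (P.commute_of_mem_cent k.2).1 (P.commute_of_mem_cent k.2).2).choose_spec.2 A ⟨hA, hAb⟩).symm

theorem lift_eq_one_iff (k : ↥(Subgroup.centralizer ({d, b} : Set G))) :
    P.lift k = 1 ↔ (k : G) = 1 ∨ (k : G) = d := by
  constructor
  · intro h
    refine P.C.eq_or_eq (P.commute_of_mem_cent k.2).1 fun s hs => ?_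
    obtain ⟨a, -, e⟩ := P.lift_lifts k s hs
    rw [h, Subgroup.coe_one, AutPSU.act_one] at e
    exact ⟨a, e⟩
  · intro h
    refine Subtype.ext (P.lift_eq k (A := ((1 : St (F := F)) : ↥(Cfsg.SU 6 F 2))) (fun s hs => ⟨1, one_ne_zero, ?_⟩) (one_mem _))
    rw [one_smul, show ∀ v, AutPSU.act ((1 : St (F := F)) : ↥(Cfsg.SU 6 F 2)) v = v from AutPSU.act_one]
    rcases h with e | e <;> rw [e]
    · simp
    · rw [(hs.2.2).eq, mul_inv_cancel_right]

theorem lift_surjective : Function.Surjective P.lift := by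
  rintro ⟨A, hA⟩
  obtain ⟨k, hk, h⟩ := P.C.real A
  have hkd := P.C.commute_of_mem hk
  obtain ⟨j, hj, ej⟩ := P.hcb
  have hkb : k * b * k⁻¹ = b := by
    obtain ⟨a, ha, e⟩ := h b P.hb
    rw [ej, AutPSU.act_smul, mem_St.1 hA, smul_smul] at e
    exact P.C.eq_of_proj (P.C.conj_mem hkd P.hb) P.hb ⟨_, mul_ne_zero ha hj, e⟩ ⟨j, ej⟩
  exact ⟨⟨k, mem_pair_centralizer.2 ⟨hkd, mul_inv_eq_iff_eq_mul.1 hkb⟩⟩,
    Subtype.ext (P.lift_eq _ h hA)⟩

theorem form_bv_of_commute {x : G} (hx : x ∈ perp D d) (hxb : Commute b x) :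
    hB hF 6 bv (P.C.U.c x) = 0 := by
  obtain ⟨j, hj, ej⟩ := P.hcb
  have := (P.C.U.comm b P.hb x hx).1 hxb
  rw [ej, AutPSU.form_smul_left, mul_eq_zero, map_eq_zero] at this
  exact this.resolve_left hj

/-- A member of the neighbourhood lifts to its transvection. -/
theorem lift_member (k : ↥(Subgroup.centralizer ({d, b} : Set G))) (hk : (k : G) ∈ perp D d) :
    (P.lift k : ↥(Cfsg.SU 6 F 2)) = AutPSU.tU hF (P.C.U.c k) 1 := by
  have hsk : AutPSU.Skew hF (1 : F) := by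
    show (1 : F) + frob hF 1 = 0
    rw [map_one, one_add_one_eq_two, (fourField hF).two]
  refine P.lift_eq k (fun s hs => ?_) (mem_St.2 ?_)
  · obtain ⟨a, ha, e⟩ := P.C.member_act hk hs
    exact ⟨a, ha, by rw [e, AutPSU.act_tU hF (P.C.U.iso _ hk) hsk, one_mul]⟩
  · rw [AutPSU.act_tU hF (P.C.U.iso _ hk) hsk, one_mul]
    have := P.form_bv_of_commute hk (P.commute_of_mem_cent k.2).2.symm
    rw [(AutPSU.form_comm_zero hF).1 this, zero_smul, add_zero]

end Base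

end Cfsg.Lib.Fischer.Relations.TwoPair
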