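import Cfsg.Agent.Lib.Fischer.Relations.TwoPair.AutFix
import Cfsg.Agent.Lib.Fischer.Relations.TwoPair.Fours

/-!
# Automorphisms fixing a pair and every four are inner

A semilinear map keeping every isotropic line of the residual space is linear.
-/

set_option autoImplicit false
set_option linter.unusedSectionVars false

namespace Cfsg.Lib.Fischer.Relations.TwoPair

open Module Matrix Cfsg Cfsg.Lib.Fischer Cfsg.Lib.Linear.Herm Cfsg.Agent.S1631 Cfsg.Lib.Fischer.RadicalAbelian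
open Cfsg.Lib.Linear

variable {G : Type*} [Group G] [Finite G] {D : Set G}
  {F : Type} [Field F] [Fintype F] {hF : Fintype.card F = 2 ^ 2} {d b : G}

namespace Base

variable (P : Base D d b hF)
include P

/-- The common neighbour on a point of the four of an isotropic residual vector. -/
theorem exists_member {w : Fin 4 → F} (hw : AutPSU.Iso hF w) (t : F) :
    ∃ (x : G) (_ : x ∈ perp D d) (_ : x ∈ perp D b) (k : F), k ≠ 0 ∧ P.C.U.c x = k • (emb w + t • bv) := by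
  obtain ⟨v, hv⟩ : ∃ v, v = emb w + t • (bv : Fin 6 → F) := ⟨_, rfl⟩
  rw [← hv]
  have hbv : hB hF 6 bv v = 0 := by
    rw [hv, map_add, form_bv_emb, AutPSU.form_smul_right, (bv_iso hF).2, mul_zero, add_zero]
  have hres : res v = w := by rw [hv, res_add, res_emb, res_smul, res_bv, smul_zero, add_zero]
  have hvv : hB hF 6 v v = 0 := by rw [form_perp hF hbv hbv, hres]; exact hw.2
  have hv0 : v ≠ 0 := fun e => hw.1 (by rw [← hres, e, res_zero])
  obtain ⟨x, hx, k, hk, e⟩ := P.C.exists_point hv0 hvv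
  obtain ⟨j, hj, ej⟩ := P.hcb
  refine ⟨x, hx, ⟨hx.1, fun h => ?_, (P.C.U.comm b P.hb x hx).2 ?_⟩, k, hk, e⟩
  · rw [h, ej] at e
    have := congrArg res e
    rw [res_smul, res_smul, res_bv, smul_zero, hres] at this
    exact hw.1 ((smul_eq_zero.1 this.symm).resolve_left hk)
  · rw [ej, e, AutPSU.form_smul_left, AutPSU.form_smul_right, hbv, mul_zero, mul_zero]

/-- An automorphism fixing the pair and keeping every residual transvection is inner. -/
theorem inner_of_fix {φ : MulAut G} (hd : φ d = d) (hD : ∀ x ∈ D, φ x ∈ D)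
    (h : ∀ x, ∀ hx : x ∈ perp D d, ∀ hxb : x ∈ perp D b, ∃ (h1 : φ x ∈ perp D d) (h2 : φ x ∈ perp D b),
      P.theta ⟨φ x, P.common_mem h1 h2⟩ = P.theta ⟨x, P.common_mem hx hxb⟩) :
    φ ∈ (MulAut.conj : G →* MulAut G).range := by
  obtain ⟨A, τ, hA⟩ := P.C.semiAut φ hd hD
  refine P.C.aut_inner hd hD hA fun l => ?_
  obtain ⟨f, hf⟩ : ∃ f : (Fin 4 → F) → (Fin 4 → F), ∀ w, f w = res (A.1.1.mulVec (τ ∘ emb w)) :=
    ⟨_, fun _ => rfl⟩
  have hadd : ∀ v w, f (v + w) = f v + f w := fun v w => by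
    have e : τ ∘ emb (v + w) = τ ∘ emb v + τ ∘ emb w := by ext i; fin_cases i <;> simp [emb]
    rw [hf, hf, hf, e, Matrix.mulVec_add, res_add]
  have hsm : ∀ (a : F) w, f (a • w) = τ a • f w := fun a w => by
    have e : τ ∘ emb (a • w) = τ a • (τ ∘ emb w) := by ext i; fin_cases i <;> simp [emb]
    rw [hf, hf, e, Matrix.mulVec_smul, res_smul]
  have key : ∀ w, AutPSU.Iso hF w → ∃ m : F, m ≠ 0 ∧ f w = m • w := by
    intro w hw
    obtain ⟨x, hx, hxb, k, hk, ek⟩ := P.exists_member hw 0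
    rw [zero_smul, add_zero] at ek
    obtain ⟨h1, h2, h3⟩ := h x hx hxb
    obtain ⟨a, t, ha, e⟩ := P.line_of_theta hx hxb h1 h2 h3.symm
    obtain ⟨c, hc, ec⟩ := hA x hx
    rw [ek, show τ ∘ (k • emb w) = τ k • (τ ∘ emb w) by ext i; simp, Matrix.mulVec_smul, smul_smul] at ec
    have e' := congrArg res e
    rw [ec, res_smul, res_add, res_smul, res_smul, res_bv, smul_zero, add_zero, ← hf, ek, res_smul, res_emb,
      smul_smul] at e'
    have hck : c * τ k ≠ 0 := mul_ne_zero hc (by simpa using hk)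
    refine ⟨(c * τ k)⁻¹ * (a * k), mul_ne_zero (inv_ne_zero hck) (mul_ne_zero ha hk), ?_⟩
    rw [mul_smul, ← e', smul_smul, inv_mul_cancel₀ hck, one_smul]
  obtain ⟨w₁, hw₁⟩ : ∃ w : Fin 4 → F, w = ![1, 1, 0, 0] := ⟨_, rfl⟩
  obtain ⟨w₂, hw₂⟩ : ∃ w : Fin 4 → F, w = ![0, 0, 1, 1] := ⟨_, rfl⟩
  have hz : ∀ a c : F, hB hF 4 ![a, a, c, c] ![a, a, c, c] = 0 := fun a c => by
    simp [hB_apply, Cfsg.hermForm, Fin.sum_univ_four]
    linear_combination (a * a ^ 2 + c * c ^ 2) * (fourField hF).two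
  have hi₁ : AutPSU.Iso hF w₁ := ⟨fun e => by simpa [hw₁] using congrFun e 0, hw₁ ▸ hz 1 0⟩
  have hi₂ : AutPSU.Iso hF w₂ := ⟨fun e => by simpa [hw₂] using congrFun e 2, hw₂ ▸ hz 0 1⟩
  have hi : ∀ a : F, AutPSU.Iso hF (w₁ + a • w₂) := fun a => by
    rw [show w₁ + a • w₂ = ![1, 1, a, a] by ext i; fin_cases i <;> simp [hw₁, hw₂]]
    exact ⟨fun e => by simpa using congrFun e 0, hz 1 a⟩
  obtain ⟨α, hα, eα⟩ := key w₁ hi₁
  obtain ⟨β, -, eβ⟩ := key w₂ hi₂
  obtain ⟨μ, -, eμ⟩ := key _ (hi 1)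
  obtain ⟨ν, -, eν⟩ := key _ (hi l)
  rw [hadd, hsm, eα, eβ] at eμ eν
  have a0 := congrFun eμ 0
  have a2 := congrFun eμ 2
  have b0 := congrFun eν 0
  have b2 := congrFun eν 2
  simp [hw₁, hw₂] at a0 a2 b0 b2
  rw [← a0] at a2
  rw [← b0, a2] at b2
  exact mul_right_cancel₀ hα (by linear_combination b2)

end Base

end Cfsg.Lib.Fischer.Relations.TwoPair
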