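import Cfsg.Agent.Lib.Linear.AutPSU.Out
import Cfsg.Agent.Lib.Linear.PSUSimple
import Cfsg.Agent.Lib.Fischer.RadicalAbelian.SpecialUnitary

/-!
# The stabilizer of an isotropic vector in `SU(6, 2)` maps onto `PSU(4, 2)`

The vector is `(1, 1, 0, 0, 0, 0)`; the kernel is the radical.
-/

set_option autoImplicit false
set_option linter.unusedSectionVars false

namespace Cfsg.Lib.Fischer.Relations.TwoPair

open Module Matrix Cfsg Cfsg.Lib.Linear Cfsg.Lib.Linear.Herm Cfsg.Lib.Fischer.RadicalAbelian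

variable {F : Type} [Field F] [Fintype F] (hF : Fintype.card F = 2 ^ 2)

/-- The fixed isotropic vector. -/
def bv : Fin 6 → F := ![1, 1, 0, 0, 0, 0]

/-- The last four coordinates. -/
def res (v : Fin 6 → F) : Fin 4 → F := ![v 2, v 3, v 4, v 5]

/-- Vectors supported on the last four coordinates. -/
def emb (w : Fin 4 → F) : Fin 6 → F := ![0, 0, w 0, w 1, w 2, w 3]

theorem res_emb (w : Fin 4 → F) : res (emb w) = w := by
  ext i; fin_cases i <;> rfl

theorem res_add (v w : Fin 6 → F) : res (v + w) = res v + res w := by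
  ext i; fin_cases i <;> rfl

theorem res_smul (a : F) (v : Fin 6 → F) : res (a • v) = a • res v := by
  ext i; fin_cases i <;> rfl

theorem res_zero : res (0 : Fin 6 → F) = 0 := by
  ext i; fin_cases i <;> rfl

theorem res_bv : res (bv : Fin 6 → F) = 0 := by
  ext i; fin_cases i <;> rfl

theorem form_bv (v : Fin 6 → F) : hB hF 6 bv v = v 0 + v 1 := by
  simp [hB_apply, Cfsg.hermForm, bv, Fin.sum_univ_six]

theorem decomp {v : Fin 6 → F} (h : hB hF 6 bv v = 0) : v = v 0 • bv + emb (res v) := by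
  rw [form_bv] at h
  have h1 : v 1 = v 0 := by linear_combination h - v 0 * (fourField hF).two
  ext i
  fin_cases i <;> simp [bv, emb, res, h1]

theorem eq_add {v w : Fin 6 → F} (hv : hB hF 6 bv v = 0) (hw : hB hF 6 bv w = 0) (h : res w = res v) :
    w = v + (w 0 - v 0) • bv :=
  calc w = w 0 • bv + emb (res w) := decomp hF hw
    _ = v 0 • bv + emb (res v) + (w 0 - v 0) • bv := by rw [h, sub_smul]; abel
    _ = v + (w 0 - v 0) • bv := by rw [← decomp hF hv]

theorem form_perp {v w : Fin 6 → F} (hv : hB hF 6 bv v = 0) (hw : hB hF 6 bv w = 0) :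
    hB hF 6 v w = hB hF 4 (res v) (res w) := by
  rw [form_bv] at hv hw
  have h1 : v 1 = v 0 := by linear_combination hv - v 0 * (fourField hF).two
  have h2 : w 1 = w 0 := by linear_combination hw - w 0 * (fourField hF).two
  simp only [hB_apply, Cfsg.hermForm, res, Fin.sum_univ_six, Fin.sum_univ_four, h1, h2, Matrix.cons_val_zero,
    Matrix.cons_val_one, Matrix.cons_val]
  linear_combination (w 0 * v 0 ^ 2) * (fourField hF).two

theorem form_bv_emb (w : Fin 4 → F) : hB hF 6 bv (emb w) = 0 := by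
  rw [form_bv]; simp [emb]

theorem bv_iso : AutPSU.Iso hF (bv : Fin 6 → F) := by
  refine ⟨fun h => ?_, ?_⟩
  · simpa [bv] using congrFun h 0
  · rw [form_bv]
    simpa [bv, one_add_one_eq_two] using (fourField hF).two

/-- The stabilizer of `bv`. -/
def St : Subgroup ↥(Cfsg.SU 6 F 2) where
  carrier := {A | AutPSU.act A bv = bv}
  one_mem' := AutPSU.act_one _
  mul_mem' {A B} hA hB := by
    show AutPSU.act (A * B) bv = bv
    rw [AutPSU.act_mul, show AutPSU.act B bv = bv from hB, show AutPSU.act A bv = bv from hA]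
  inv_mem' {A} hA := by
    show AutPSU.act A⁻¹ bv = bv
    conv_lhs => rw [← (show AutPSU.act A bv = bv from hA)]
    rw [AutPSU.act_inv_cancel]

theorem mem_St {A : ↥(Cfsg.SU 6 F 2)} : A ∈ St (F := F) ↔ AutPSU.act A bv = bv := Iff.rfl

include hF in
theorem St.form_bv_act (A : St (F := F)) (v : Fin 6 → F) :
    hB hF 6 bv (AutPSU.act (A : ↥(Cfsg.SU 6 F 2)) v) = hB hF 6 bv v := by
  have h := AutPSU.form_act hF (A : ↥(Cfsg.SU 6 F 2)) bv v
  rwa [mem_St.1 A.2] at h

/-- The block on the last four coordinates. -/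
def blockMat (A : ↥(Cfsg.SU 6 F 2)) : Matrix (Fin 4) (Fin 4) F :=
  Matrix.of fun i j => AutPSU.mat A (Fin.natAdd 2 i) (Fin.natAdd 2 j)

theorem blockMat_mulVec (A : ↥(Cfsg.SU 6 F 2)) (w : Fin 4 → F) :
    blockMat A *ᵥ w = res (AutPSU.act A (emb w)) := by
  ext i
  fin_cases i <;>
    simp [blockMat, res, emb, AutPSU.act, Matrix.mulVec, dotProduct, Fin.sum_univ_six, Fin.sum_univ_four] <;> rfl

include hF in
theorem res_act (A : St (F := F)) {v : Fin 6 → F} (h : hB hF 6 bv v = 0) :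
    res (AutPSU.act (A : ↥(Cfsg.SU 6 F 2)) v) = blockMat (A : ↥(Cfsg.SU 6 F 2)) *ᵥ res v := by
  conv_lhs => rw [decomp hF h]
  rw [AutPSU.act_add, AutPSU.act_smul, mem_St.1 A.2, res_add, res_smul, res_bv, smul_zero, zero_add, blockMat_mulVec]

include hF in
theorem blockMat_mul (A B : St (F := F)) :
    blockMat ((A : ↥(Cfsg.SU 6 F 2)) * (B : ↥(Cfsg.SU 6 F 2))) = blockMat (A : ↥(Cfsg.SU 6 F 2)) * blockMat (B : ↥(Cfsg.SU 6 F 2)) := by
  refine Matrix.mulVec_injective (funext fun w => ?_)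
  rw [← Matrix.mulVec_mulVec, blockMat_mulVec (_ * _), AutPSU.act_mul, res_act hF A, blockMat_mulVec (B : ↥(Cfsg.SU 6 F 2))]
  rw [St.form_bv_act hF B, form_bv_emb]

theorem blockMat_one : blockMat (1 : ↥(Cfsg.SU 6 F 2)) = 1 := by
  refine Matrix.mulVec_injective (funext fun w => ?_)
  rw [blockMat_mulVec, AutPSU.act_one, res_emb, Matrix.one_mulVec]

/-- The block as a unitary matrix. -/
noncomputable def blockU : St (F := F) →* ↥(Cfsg.GU 4 F 2) where
  toFun A := ⟨⟨blockMat (A : ↥(Cfsg.SU 6 F 2)), blockMat ((A⁻¹ : St (F := F)) : ↥(Cfsg.SU 6 F 2)),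
      by rw [← blockMat_mul hF, ← Subgroup.coe_mul, mul_inv_cancel, Subgroup.coe_one, blockMat_one],
      by rw [← blockMat_mul hF, ← Subgroup.coe_mul, inv_mul_cancel, Subgroup.coe_one, blockMat_one]⟩,
    mem_GU.2 fun u v => by
      show Cfsg.hermForm 4 F 2 (blockMat (A : ↥(Cfsg.SU 6 F 2)) *ᵥ u) (blockMat (A : ↥(Cfsg.SU 6 F 2)) *ᵥ v) = _
      rw [blockMat_mulVec, blockMat_mulVec, ← hB_apply hF 4, ← form_perp hF, AutPSU.form_act, form_perp hF,
        res_emb, res_emb, hB_apply]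
      · exact form_bv_emb hF v
      · exact form_bv_emb hF u
      · rw [St.form_bv_act hF A, form_bv_emb]
      · rw [St.form_bv_act hF A, form_bv_emb]⟩
  map_one' := Subtype.ext (Units.ext blockMat_one)
  map_mul' A B := Subtype.ext (Units.ext (blockMat_mul hF A B))

include hF in
theorem det_cube (g : ↥(Cfsg.GU 4 F 2)) : g.1.1.det * g.1.1.det * g.1.1.det = 1 := by
  have := det_GU_pow hF g
  linear_combination this

/-- Rescaling to determinant one. -/
noncomputable def toSU : ↥(Cfsg.GU 4 F 2) →* ↥(Cfsg.SU 4 F 2) where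
  toFun g := ⟨⟨(g.1.1.det * g.1.1.det) • g.1.1, by
      rw [Matrix.det_smul, Fintype.card_fin]
      linear_combination (1 + g.1.1.det ^ 3 + g.1.1.det ^ 6) * det_cube hF g⟩, mem_SU.2 fun u v => by
      show Cfsg.hermForm 4 F 2 (((g.1.1.det * g.1.1.det) • g.1.1) *ᵥ u) (((g.1.1.det * g.1.1.det) • g.1.1) *ᵥ v) = _
      rw [Matrix.smul_mulVec, Matrix.smul_mulVec, ← hB_apply hF 4, AutPSU.form_smul_left, AutPSU.form_smul_right,
        AutPSU.form_GU hF g, hB_apply, (fourField hF).sq]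
      linear_combination (Cfsg.hermForm 4 F 2 u v * (g.1.1.det ^ 3 + 1)) * det_cube hF g⟩
  map_one' := Subtype.ext (Subtype.ext (by
    show (Matrix.det (1 : Matrix (Fin 4) (Fin 4) F) * Matrix.det (1 : Matrix (Fin 4) (Fin 4) F)) •
      (1 : Matrix (Fin 4) (Fin 4) F) = 1
    rw [Matrix.det_one, one_mul, one_smul]))
  map_mul' g h := Subtype.ext (Subtype.ext (by
    show (Matrix.det (g.1.1 * h.1.1) * Matrix.det (g.1.1 * h.1.1)) • (g.1.1 * h.1.1) =
      ((g.1.1.det * g.1.1.det) • g.1.1) * ((h.1.1.det * h.1.1.det) • h.1.1)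
    rw [Matrix.det_mul, Matrix.smul_mul, Matrix.mul_smul, smul_smul]
    congr 1
    ring))

/-- The map of the stabilizer onto the projective group. -/
noncomputable def proj4 : St (F := F) →* Cfsg.PSU 4 F 2 :=
  (QuotientGroup.mk' _).comp ((toSU hF).comp (blockU hF))

include hF in
theorem center_SU_four : Subgroup.center ↥(Cfsg.SU 4 F 2) = ⊥ :=
  Subgroup.eq_bot_of_card_eq _ (by rw [card_center_SU hF (by norm_num : 2 ≤ 4)]; norm_num)

theorem proj4_eq_one_iff (A : St (F := F)) :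
    proj4 hF A = 1 ↔ (A : ↥(Cfsg.SU 6 F 2)) ∈ AutPSU.radU hF bv := by
  constructor
  · intro h
    have h1 : toSU hF (blockU hF A) = 1 := by
      have := (QuotientGroup.eq_one_iff _).1 h
      rwa [center_SU_four hF, Subgroup.mem_bot] at this
    obtain ⟨M, hM⟩ : ∃ M, M = blockMat (A : ↥(Cfsg.SU 6 F 2)) := ⟨_, rfl⟩
    have h2 : (M.det * M.det) • M = 1 := by
      rw [hM]; exact congrArg (fun x : ↥(Cfsg.SU 4 F 2) => AutPSU.mat x) h1
    have hc3 : M.det * M.det * M.det = 1 := hM ▸ det_cube hF (blockU hF A)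
    have hMc : M = M.det • (1 : Matrix (Fin 4) (Fin 4) F) := by
      rw [← h2, smul_smul, show M.det * (M.det * M.det) = 1 by linear_combination hc3, one_smul]
    obtain ⟨c, hc⟩ : ∃ c, c = M.det := ⟨_, rfl⟩
    rw [← hc] at hMc hc3
    -- undo the scalar
    obtain ⟨B, hBdef⟩ : ∃ B, B = Matrix.diagonal (![1, 1, c * c, c * c, c * c, c * c] : Fin 6 → F) *
        AutPSU.mat (A : ↥(Cfsg.SU 6 F 2)) := ⟨_, rfl⟩
    have hBx : ∀ x, B *ᵥ x = ![AutPSU.act (A : ↥(Cfsg.SU 6 F 2)) x 0, AutPSU.act (A : ↥(Cfsg.SU 6 F 2)) x 1,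
        c * c * AutPSU.act (A : ↥(Cfsg.SU 6 F 2)) x 2, c * c * AutPSU.act (A : ↥(Cfsg.SU 6 F 2)) x 3,
        c * c * AutPSU.act (A : ↥(Cfsg.SU 6 F 2)) x 4, c * c * AutPSU.act (A : ↥(Cfsg.SU 6 F 2)) x 5] := by
      intro x
      rw [hBdef, ← Matrix.mulVec_mulVec]
      ext i
      rw [Matrix.mulVec_diagonal]
      fin_cases i <;> simp [AutPSU.act]
    have hBb : B *ᵥ bv = bv := by
      rw [hBx, mem_St.1 A.2]
      ext i; fin_cases i <;> simp [bv]
    have hBp : ∀ x, hB hF 6 bv (B *ᵥ x) = hB hF 6 bv x := fun x => by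
      rw [← St.form_bv_act hF A x, form_bv, form_bv, hBx]; simp
    have hB1 : ∀ x, hB hF 6 bv x = 0 → ∃ a, B *ᵥ x = x + a • bv := fun x hx => by
      have hr : res (B *ᵥ x) = res x := by
        have := res_act hF A hx
        rw [← hM, hMc, Matrix.smul_mulVec, Matrix.one_mulVec] at this
        rw [hBx]
        ext i
        have e : ∀ j, res (AutPSU.act (A : ↥(Cfsg.SU 6 F 2)) x) j = c * res x j := fun j => congrFun this j
        have e0 := e i
        fin_cases i <;> simp [res] at e0 ⊢ <;> rw [e0]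
        · linear_combination x 2 * hc3
        · linear_combination x 3 * hc3
        · linear_combination x 4 * hc3
        · linear_combination x 5 * hc3
      exact ⟨_, eq_add hF hx (by rw [hBp, hx]) hr⟩
    haveI : Fact (Nat.Prime 2) := ⟨Nat.prime_two⟩
    haveI : CharP F 2 := CharTwo.of_one_ne_zero_of_two_eq_zero one_ne_zero (fourField hF).two
    have h3 : (B - 1) ^ 3 = 0 := by
      refine Matrix.toLin'.injective (LinearMap.ext fun x => ?_)
      rw [Matrix.toLin'_apply, map_zero, LinearMap.zero_apply, pow_succ, pow_two, ← Matrix.mulVec_mulVec,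
        ← Matrix.mulVec_mulVec]
      simp only [Matrix.sub_mulVec, Matrix.one_mulVec]
      obtain ⟨a, ha⟩ := hB1 (B *ᵥ x - x) (by rw [map_sub, hBp, sub_self])
      rw [ha, add_sub_cancel_left, Matrix.mulVec_smul, hBb, sub_self]
    have h4 : B ^ 2 ^ 2 = 1 := by
      have := pow_eq_zero_of_le (show 3 ≤ 2 ^ 2 by norm_num) h3
      rwa [sub_pow_char_pow_of_commute 2 2 (Commute.one_right _), one_pow, sub_eq_zero] at this
    have hdet : B.det = 1 := AutPSU.pow_pPower_eq_one 2 (k := 2) (by rw [← Matrix.det_pow, h4, Matrix.det_one])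
    have hc1 : c = 1 := by
      rw [hBdef, Matrix.det_mul, Matrix.det_diagonal, Fin.prod_univ_six,
        show (AutPSU.mat (A : ↥(Cfsg.SU 6 F 2))).det = 1 from ((A : ↥(Cfsg.SU 6 F 2)).1).2] at hdet
      simp at hdet
      linear_combination (c ^ 6 + c ^ 3 + 1) * hc3 - c * hdet
    refine ⟨mem_St.1 A.2, fun u hu => ⟨_, eq_add hF hu (by rw [St.form_bv_act hF A, hu]) ?_⟩⟩
    rw [res_act hF A hu, ← hM, hMc, hc1, one_smul, Matrix.one_mulVec]
  · intro h
    have h1 : blockU hF A = 1 := by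
      refine Subtype.ext (Units.ext (Matrix.mulVec_injective (funext fun w => ?_)))
      show blockMat (A : ↥(Cfsg.SU 6 F 2)) *ᵥ w = (1 : Matrix (Fin 4) (Fin 4) F) *ᵥ w
      obtain ⟨a, ha⟩ := h.2 _ (form_bv_emb hF w)
      rw [blockMat_mulVec, ha, res_add, res_emb, res_smul, res_bv, smul_zero, add_zero, Matrix.one_mulVec]
    rw [proj4, MonoidHom.comp_apply, MonoidHom.comp_apply, h1, map_one, map_one]

theorem proj4_surjective : Function.Surjective (proj4 hF) := by
  intro q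
  obtain ⟨s, rfl⟩ := QuotientGroup.mk_surjective q
  obtain ⟨M, hM⟩ : ∃ M, M = AutPSU.mat s := ⟨_, rfl⟩
  obtain ⟨A, hA⟩ : ∃ A : Matrix (Fin 6) (Fin 6) F, A = Matrix.reindex finSumFinEquiv finSumFinEquiv
      (Matrix.fromBlocks (1 : Matrix (Fin 2) (Fin 2) F) 0 0 M) := ⟨_, rfl⟩
  have hdet : A.det = 1 := by
    rw [hA, Matrix.det_reindex_self, Matrix.det_fromBlocks_zero₂₁, Matrix.det_one, one_mul, hM]
    exact (s.1).2
  have hAx : ∀ x, A *ᵥ x = ![x 0, x 1, (M *ᵥ res x) 0, (M *ᵥ res x) 1, (M *ᵥ res x) 2, (M *ᵥ res x) 3] := by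
    intro x
    have h0 : (finSumFinEquiv (m := 2) (n := 4)).symm 0 = Sum.inl 0 := rfl
    have h1 : (finSumFinEquiv (m := 2) (n := 4)).symm 1 = Sum.inl 1 := rfl
    have h2 : (finSumFinEquiv (m := 2) (n := 4)).symm 2 = Sum.inr 0 := rfl
    have h3 : (finSumFinEquiv (m := 2) (n := 4)).symm 3 = Sum.inr 1 := rfl
    have h4 : (finSumFinEquiv (m := 2) (n := 4)).symm 4 = Sum.inr 2 := rfl
    have h5 : (finSumFinEquiv (m := 2) (n := 4)).symm 5 = Sum.inr 3 := rfl
    ext i
    simp only [hA, Matrix.mulVec, dotProduct, Matrix.reindex_apply, Matrix.submatrix_apply, Fin.sum_univ_six,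
      Fin.sum_univ_four, h0, h1, h2, h3, h4, h5, res]
    fin_cases i <;>
      simp [h0, h1, h2, h3, h4, h5, Matrix.fromBlocks, Matrix.one_apply]
  have hsu : (⟨A, hdet⟩ : Matrix.SpecialLinearGroup (Fin 6) F) ∈ Cfsg.SU 6 F 2 := mem_SU.2 fun u v => by
    show Cfsg.hermForm 6 F 2 (A *ᵥ u) (A *ᵥ v) = _
    have h4 : Cfsg.hermForm 4 F 2 (M *ᵥ res u) (M *ᵥ res v) = Cfsg.hermForm 4 F 2 (res u) (res v) := by
      rw [hM]; exact mem_SU.1 s.2 _ _
    simp only [hAx, Cfsg.hermForm, Fin.sum_univ_six, Fin.sum_univ_four, Matrix.cons_val_zero, Matrix.cons_val_one,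
      Matrix.cons_val, res] at h4 ⊢
    linear_combination h4
  have hb : AutPSU.act (⟨⟨A, hdet⟩, hsu⟩ : ↥(Cfsg.SU 6 F 2)) bv = bv := by
    show A *ᵥ bv = bv
    rw [hAx, res_bv, Matrix.mulVec_zero]
    ext i; fin_cases i <;> simp [bv]
  refine ⟨⟨⟨⟨A, hdet⟩, hsu⟩, mem_St.2 hb⟩, congrArg QuotientGroup.mk (Subtype.ext (Subtype.ext ?_))⟩
  have hblock : blockMat (⟨⟨A, hdet⟩, hsu⟩ : ↥(Cfsg.SU 6 F 2)) = M := by
    refine Matrix.mulVec_injective (funext fun w => ?_)
    rw [blockMat_mulVec]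
    show res (A *ᵥ emb w) = M *ᵥ w
    rw [hAx, res_emb]
    ext i; fin_cases i <;> rfl
  show ((blockMat (⟨⟨A, hdet⟩, hsu⟩ : ↥(Cfsg.SU 6 F 2))).det *
    (blockMat (⟨⟨A, hdet⟩, hsu⟩ : ↥(Cfsg.SU 6 F 2))).det) • blockMat (⟨⟨A, hdet⟩, hsu⟩ : ↥(Cfsg.SU 6 F 2)) = s.1.1
  rw [hblock, show M.det = 1 from hM ▸ (s.1).2, one_mul, one_smul, hM]

/-- A transvection at a vector orthogonal to `bv` goes to the transvection at its residue. -/
theorem proj4_tU {v : Fin 6 → F} (hv : hB hF 6 v v = 0) (hvb : hB hF 6 bv v = 0)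
    {A : St (F := F)} (hA : (A : ↥(Cfsg.SU 6 F 2)) = AutPSU.tU hF v 1) :
    proj4 hF A = AutPSU.tP hF (res v) 1 := by
  have hsk : AutPSU.Skew hF (1 : F) := by
    show (1 : F) + frob hF 1 = 0
    rw [map_one, one_add_one_eq_two, (fourField hF).two]
  have hr : hB hF 4 (res v) (res v) = 0 := by rw [← form_perp hF hvb hvb, hv]
  have hblock : blockMat (A : ↥(Cfsg.SU 6 F 2)) = AutPSU.mat (AutPSU.tU hF (res v) (1 : F)) := by
    refine Matrix.mulVec_injective (funext fun w => ?_)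
    show _ = AutPSU.act (AutPSU.tU hF (res v) (1 : F)) w
    rw [blockMat_mulVec, hA, AutPSU.act_tU hF hv hsk, AutPSU.act_tU hF hr hsk, res_add, res_emb, res_smul,
      form_perp hF hvb (form_bv_emb hF w), res_emb]
  rw [AutPSU.tP]
  refine congrArg QuotientGroup.mk (Subtype.ext (Subtype.ext ?_))
  show ((blockMat (A : ↥(Cfsg.SU 6 F 2))).det * (blockMat (A : ↥(Cfsg.SU 6 F 2))).det) •
    blockMat (A : ↥(Cfsg.SU 6 F 2)) = AutPSU.mat (AutPSU.tU hF (res v) (1 : F))
  rw [hblock, show (AutPSU.mat (AutPSU.tU hF (res v) (1 : F))).det = 1 from (AutPSU.tU hF (res v) (1 : F)).1.2,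
    one_mul, one_smul]

end Cfsg.Lib.Fischer.Relations.TwoPair
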